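/-
A plane of `r`-elements normalised by an element of prime order `q`, acting on an abelian group
of order `p ^ q`.
-/
import Cfsg.Agent.Lib.OddOrder.PlaneBasics

set_option autoImplicit false
set_option linter.style.haveILetI false
set_option linter.unusedSectionVars false

namespace Cfsg.Agent.OddChar.P13

open scoped IsMulCommutative
open OddOrder

universe u

variable {G : Type u} [Group G] [Finite G]

theorem card_ne_one (X : Subgroup G) : Nat.card {t : X // t ≠ 1} = Nat.card X - 1 := by
  classical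
  have := Fintype.ofFinite X
  rw [Nat.card_eq_fintype_card, Fintype.card_subtype_compl, Fintype.card_subtype_eq, Nat.card_eq_fintype_card]

/-- Conjugation by an element of the normaliser. -/
def conjHom (H : Subgroup G) {a : G} (ha : a ∈ Subgroup.normalizer (H : Set G)) : H →* H where
  toFun h := ⟨a * h * a⁻¹, (Subgroup.mem_normalizer_iff.1 ha h).1 h.2⟩
  map_one' := Subtype.ext (by simp)
  map_mul' x y := Subtype.ext (by
    show a * ((x : G) * y) * a⁻¹ = a * x * a⁻¹ * (a * y * a⁻¹)
    group)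

theorem conjHom_apply (H : Subgroup G) {a : G} (ha : a ∈ Subgroup.normalizer (H : Set G)) (h : H) :
    (conjHom H ha h : G) = a * h * a⁻¹ := rfl

variable {H A W : Subgroup G} {p q r : ℕ}

/-- The product of the conjugates under `⟨a⟩`. -/
theorem exists_trace [hH : IsMulCommutative H] (hr : r ≠ 0) {a : G}
    (ha : a ∈ Subgroup.normalizer (H : Set G)) (har : a ^ r = 1) :
    ∃ f : H →* H, (∀ h : H, a * (h : G) = h * a → f h = h ^ r) ∧
      (∀ h : H, a * (f h : G) = f h * a) ∧
      ∀ (b : G), a * b = b * a → ∀ h : H, b * (h : G) = h * b → b * (f h : G) = f h * b := by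
  classical
  refine ⟨∏ i ∈ Finset.range r, conjHom H (pow_mem ha i), fun h hc => ?_, fun h => ?_, fun b hab h hb => ?_⟩
  · rw [MonoidHom.finsetProd_apply, Finset.prod_eq_pow_card (b := h), Finset.card_range]
    intro i _
    refine Subtype.ext ?_
    rw [conjHom_apply, ((show Commute a (h : G) from hc).pow_left i).eq, mul_inv_cancel_right]
  · rw [MonoidHom.finsetProd_apply]
    set g : ℕ → H := fun i => conjHom H (pow_mem ha i) h
    have hshift : conjHom H ha (∏ i ∈ Finset.range r, g i) = ∏ i ∈ Finset.range r, g i := by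
      have h1 : ∀ i, conjHom H ha (g i) = g (i + 1) := fun i => Subtype.ext (by
        show a * (a ^ i * h * (a ^ i)⁻¹) * a⁻¹ = a ^ (i + 1) * h * (a ^ (i + 1))⁻¹
        rw [pow_succ']; group)
      rw [map_prod, Finset.prod_congr rfl fun i _ => h1 i]
      have h2 : g r = g 0 := Subtype.ext (by
        show a ^ r * (h : G) * (a ^ r)⁻¹ = a ^ 0 * h * (a ^ 0)⁻¹
        rw [har, pow_zero])
      have := (Finset.prod_range_succ' g r).symm.trans (Finset.prod_range_succ g r)
      rw [h2] at this
      exact mul_right_cancel this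
    exact mul_inv_eq_iff_eq_mul.1 (congrArg Subtype.val hshift)
  · rw [MonoidHom.finsetProd_apply]
    refine Finset.prod_induction _ (fun x : H => b * (x : G) = x * b) (fun x y hx hy => ?_) (by simp) fun i _ => ?_
    · rw [Subgroup.coe_mul]
      exact (Commute.mul_right hx hy : Commute b ((x : G) * y)).eq
    · have hai : Commute b (a ^ i) := ((show Commute a b from hab).symm).pow_right i
      exact ((hai.mul_right hb).mul_right hai.inv_right).eq

/-- The bounds given by the centralisers of the lines of the plane. -/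
theorem plane_bound [hHc : IsMulCommutative H] (hp : p.Prime) (hq : q.Prime) (hr : r.Prime)
    (hH : Nat.card H = p ^ q) (hrp : r ≠ p) (hAe : Cfsg.IsElementaryAbelian r A) (hA : Nat.card A = r ^ 2)
    (hAH : A ≤ Subgroup.normalizer (H : Set G)) (hWH : W ≤ Subgroup.normalizer (H : Set G))
    (hWA : W ≤ Subgroup.normalizer (A : Set G)) (hW : Nat.card W = q)
    (hfix : H ⊓ Subgroup.centralizer (A : Set G) = ⊥)
    (hno : ∀ a ∈ A, a ≠ 1 → W ≤ Subgroup.normalizer (Subgroup.zpowers a : Set G) →
      H ⊓ Subgroup.centralizer ({a} : Set G) = ⊥) :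
    q ≤ r + 1 ∧ r ∣ p - 1 := by
  classical
  haveI := Fact.mk hr
  haveI := Fact.mk hp
  haveI := Fact.mk hq
  haveI hAc := hAe.1
  have hcop : (Nat.card A).Coprime (Nat.card H) := by
    rw [hA, hH]
    exact Nat.Coprime.pow _ _ ((Nat.coprime_primes hr hp).2 hrp)
  have hH1 : H ≠ ⊥ := fun e => by
    rw [e, Subgroup.card_bot] at hH
    exact (Nat.one_lt_pow hq.ne_zero hp.one_lt).ne hH
  obtain ⟨a, ha, ha1, hX⟩ : ∃ a ∈ A, a ≠ 1 ∧ H ⊓ Subgroup.centralizer ({a} : Set G) ≠ ⊥ := by
    by_contra! hcon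
    exact hH1 (le_bot_iff.1 (Plane.le_of_fixed hAe hA hAH hcop fun a ha ha1 => (hcon a ha ha1).le))
  let c : W → G := fun w => (w : G) * a * (w : G)⁻¹
  have hcA : ∀ w, c w ∈ A := fun w => (Subgroup.mem_normalizer_iff.1 (hWA w.2) a).1 ha
  have hc1 : ∀ w, c w ≠ 1 := fun w => by simpa [c] using ha1
  have hcomm : ∀ x ∈ A, ∀ y ∈ A, x * y = y * x := fun x hx y hy =>
    congrArg Subtype.val (mul_comm' (⟨x, hx⟩ : A) ⟨y, hy⟩)
  -- the lines are distinct
  have hne : ∀ w v : W, w ≠ v → c v ∉ Subgroup.zpowers (c w) := by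
    intro w v hwv hmem
    set s : G := ((w⁻¹ * v : W) : G) with hs
    have hsW : s ∈ W := (w⁻¹ * v : W).2
    have hs1 : s ≠ 1 := fun e => hwv (inv_mul_eq_one.1 (Subtype.ext e))
    obtain ⟨k, hk⟩ := Subgroup.mem_zpowers_iff.1 hmem
    have hsa : s * a * s⁻¹ ∈ Subgroup.zpowers a := by
      refine Subgroup.mem_zpowers_iff.2 ⟨k, ?_⟩
      have hk' : ((w : G) * a * (w : G)⁻¹) ^ k = (v : G) * a * (v : G)⁻¹ := hk
      rw [conj_zpow] at hk'
      rw [hs, Subgroup.coe_mul, Subgroup.coe_inv]
      calc a ^ k = (w : G)⁻¹ * ((w : G) * a ^ k * (w : G)⁻¹) * w := by group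
        _ = _ := by rw [hk']; group
    have hsn : s ∈ Subgroup.normalizer (Subgroup.zpowers a : Set G) := by
      rw [Subgroup.mem_normalizer_iff_map_conj_eq]
      refine Subgroup.eq_of_le_of_card_ge ?_ (by rw [Subgroup.card_map_of_injective (MulAut.conj s).injective])
      rw [MonoidHom.map_zpowers]
      exact Subgroup.zpowers_le.2 hsa
    exact hX (hno a ha ha1 ((Plane.zpowers_eq hW hsW hs1).ge.trans (Subgroup.zpowers_le.2 hsn)))
  -- two of the lines generate the plane
  have hgen : ∀ w v : W, w ≠ v → ∀ x : G, c w * x = x * c w → c v * x = x * c v →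
      x ∈ Subgroup.centralizer (A : Set G) := by
    intro w v hwv x hxw hxv
    set B := Subgroup.zpowers (c w) ⊔ Subgroup.zpowers (c v) with hB
    have hBA : B ≤ A := sup_le (Subgroup.zpowers_le.2 (hcA w)) (Subgroup.zpowers_le.2 (hcA v))
    have hB2 : B = A := by
      refine Subgroup.eq_of_le_of_card_ge hBA ?_
      obtain ⟨i, hi, hie⟩ := (Nat.dvd_prime_pow hr).1 (hA ▸ Subgroup.card_dvd_of_le hBA)
      have h1 := Plane.zpowers_card hAe (hcA w) (hc1 w)
      rcases Nat.lt_or_ge i 2 with h2 | h2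
      · exfalso
        have hle : Nat.card B ≤ Nat.card (Subgroup.zpowers (c w)) := by
          rw [hie, h1]
          calc r ^ i ≤ r ^ 1 := Nat.pow_le_pow_right hr.pos (by omega)
            _ = r := pow_one r
        have he := Subgroup.eq_of_le_of_card_ge (le_sup_left : _ ≤ B) hle
        exact hne w v hwv (he.ge (Subgroup.mem_sup_right (Subgroup.mem_zpowers _)))
      · rw [hA, hie]
        exact Nat.pow_le_pow_right hr.pos h2
    have hle : A ≤ Subgroup.centralizer ({x} : Set G) := by
      rw [← hB2]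
      exact sup_le (Subgroup.zpowers_le.2 (Subgroup.mem_centralizer_singleton_iff.2 hxw))
        (Subgroup.zpowers_le.2 (Subgroup.mem_centralizer_singleton_iff.2 hxv))
    exact Subgroup.mem_centralizer_iff.2 fun y hy => Subgroup.mem_centralizer_singleton_iff.1 (hle hy)
  constructor
  · -- counting the non-identity elements of the lines
    let f : W × {t : Subgroup.zpowers a // t ≠ 1} → {x : A // x ≠ 1} := fun t =>
      ⟨⟨(t.1 : G) * ((t.2.1 : G)) * (t.1 : G)⁻¹, (Subgroup.mem_normalizer_iff.1 (hWA t.1.2) _).1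
        (Subgroup.zpowers_le.2 ha t.2.1.2)⟩,
        fun e => t.2.2 (Subtype.ext (conj_eq_one_iff.1 (congrArg Subtype.val e)))⟩
    have hf : Function.Injective f := by
      rintro ⟨w, ⟨⟨t, ht⟩, ht1⟩⟩ ⟨v, ⟨⟨t', ht'⟩, ht1'⟩⟩ e
      have e' : (w : G) * t * (w : G)⁻¹ = (v : G) * t' * (v : G)⁻¹ :=
        congrArg (fun x : {x : A // x ≠ 1} => ((x : A) : G)) e
      by_cases hwv : w = v
      · subst hwv
        have : t = t' := mul_left_cancel (mul_right_cancel e')
        subst this
        rfl
      · exfalso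
        refine hne w v hwv ?_
        obtain ⟨i, hi⟩ := Subgroup.mem_zpowers_iff.1 ht
        have hz : (v : G) * t' * (v : G)⁻¹ ∈ Subgroup.zpowers (c w) := by
          rw [← e', ← hi, ← conj_zpow]
          exact zpow_mem (Subgroup.mem_zpowers _) i
        have ht'1 : (v : G) * t' * (v : G)⁻¹ ≠ 1 := fun h =>
          ht1' (Subtype.ext (conj_eq_one_iff.1 h))
        rw [← Plane.zpowers_eq (Plane.zpowers_card hAe (hcA w) (hc1 w)) hz ht'1]
        have htv : (v : G) * t' * (v : G)⁻¹ ∈ Subgroup.zpowers (c v) := by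
          obtain ⟨j, rfl⟩ := Subgroup.mem_zpowers_iff.1 ht'
          rw [← conj_zpow]
          exact zpow_mem (Subgroup.mem_zpowers _) j
        rw [Plane.zpowers_eq (Plane.zpowers_card hAe (hcA v) (hc1 v)) htv ht'1]
        exact Subgroup.mem_zpowers _
    have h := Nat.card_le_card_of_injective f hf
    rw [Nat.card_prod, card_ne_one, card_ne_one, hW, hA, Plane.zpowers_card hAe ha ha1] at h
    have h2 := hr.two_le
    refine Nat.le_of_mul_le_mul_right (c := r - 1) ?_ (by omega)
    calc q * (r - 1) ≤ r ^ 2 - 1 := h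
      _ = (r + 1) * (r - 1) := by rw [Nat.pow_two, ← Nat.mul_self_sub_mul_self_eq r 1, Nat.one_mul]
  · -- the centralisers are independent
    haveI := Fintype.ofFinite W
    let X : W → Subgroup G := fun w => H ⊓ Subgroup.centralizer ({c w} : Set G)
    have hcard : ∀ w, Nat.card (X w) = Nat.card (X 1) := by
      intro w
      refine Nat.card_congr (Equiv.ofBijective
        (fun x => ⟨(w : G)⁻¹ * (x : G) * (w : G)⁻¹⁻¹, (Subgroup.mem_normalizer_iff.1 (inv_mem (hWH w.2)) _).1 x.2.1,
          Subgroup.mem_centralizer_singleton_iff.2 ?_⟩) ⟨fun x y e => ?_, fun y => ?_⟩)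
      · have h := Subgroup.mem_centralizer_singleton_iff.1 x.2.2
        simp only [c, Subgroup.coe_one, inv_one, mul_one, one_mul] at h ⊢
        calc (w : G)⁻¹ * x * (w : G)⁻¹⁻¹ * a = (w : G)⁻¹ * ((x : G) * ((w : G) * a * (w : G)⁻¹)) * w := by group
          _ = (w : G)⁻¹ * ((w : G) * a * (w : G)⁻¹ * x) * w := by rw [h]
          _ = _ := by group
      · exact Subtype.ext (mul_left_cancel (mul_right_cancel (congrArg Subtype.val e)))
      · refine ⟨⟨(w : G) * y * (w : G)⁻¹, (Subgroup.mem_normalizer_iff.1 (hWH w.2) _).1 y.2.1,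
          Subgroup.mem_centralizer_singleton_iff.2 ?_⟩, Subtype.ext (by simp [mul_assoc])⟩
        have h := Subgroup.mem_centralizer_singleton_iff.1 y.2.2
        simp only [c, Subgroup.coe_one, inv_one, mul_one, one_mul] at h ⊢
        calc (w : G) * y * (w : G)⁻¹ * ((w : G) * a * (w : G)⁻¹) = (w : G) * ((y : G) * a) * (w : G)⁻¹ := by group
          _ = (w : G) * (a * (y : G)) * (w : G)⁻¹ := by rw [h]
          _ = _ := by group
    have hex : ∀ w : W, ∃ f : H →* H, (∀ h : H, c w * (h : G) = h * c w → f h = h ^ r) ∧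
        (∀ h : H, c w * (f h : G) = f h * c w) ∧
        ∀ (b : G), c w * b = b * c w → ∀ h : H, b * (h : G) = h * b → b * (f h : G) = f h * b :=
      fun w => exists_trace hr.ne_zero (hAH (hcA w)) (hAe.2 _ (hcA w))
    choose f hf1 hf2 hf3 using hex
    let Φ : H →* (W → H) := MonoidHom.pi f
    have hrange : Subgroup.pi Set.univ (fun w => (X w).subgroupOf H) ≤ Φ.range := by
      rw [Subgroup.pi_le_iff]
      intro w
      rintro _ ⟨x, hx, rfl⟩
      have hxr : (orderOf x).Coprime r := ((Nat.Coprime.coprime_dvd_left (orderOf_dvd_natCard x)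
        (hH ▸ Nat.Coprime.pow_left q ((Nat.coprime_primes hp hr).2 (Ne.symm hrp)))))
      obtain ⟨m, hm⟩ := exists_pow_eq_self_of_coprime hxr.symm
      have hxw : c w * ((x ^ m : H) : G) = (x ^ m : H) * c w := by
        rw [Subgroup.coe_pow]
        exact ((show Commute (c w) (x : G) from
          (Subgroup.mem_centralizer_singleton_iff.1 hx.2).symm).pow_right m).eq
      refine ⟨x ^ m, funext fun v => ?_⟩
      by_cases hvw : v = w
      · subst hvw
        show f v (x ^ m) = (Pi.mulSingle v x : W → H) v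
        rw [Pi.mulSingle_eq_same, hf1 v _ hxw, ← pow_mul, mul_comm m r, pow_mul]
        exact hm
      · show f v (x ^ m) = (Pi.mulSingle w x : W → H) v
        rw [Pi.mulSingle_eq_of_ne hvw]
        refine Subtype.ext (Subgroup.mem_bot.1 (hfix.le ⟨(f v _).2, hgen v w hvw _ (hf2 v _) ?_⟩))
        exact hf3 v _ (hcomm _ (hcA v) _ (hcA w)) _ hxw
    have hle : Nat.card (X 1) ^ q ≤ p ^ q := by
      calc Nat.card (X 1) ^ q = Nat.card (∀ w, X w) := by
            rw [Nat.card_pi, Finset.prod_congr rfl fun w _ => hcard w, Finset.prod_const, Finset.card_univ,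
              ← Nat.card_eq_fintype_card, hW]
        _ ≤ Nat.card Φ.range := by
            refine Nat.card_le_card_of_injective (fun t => ⟨fun w => ⟨t w, (t w).2.1⟩,
              hrange fun w _ => (t w).2⟩) fun s t e => ?_
            funext w
            exact Subtype.ext (congrArg (fun z : Φ.range => (((z : W → H) w : H) : G)) e)
        _ ≤ Nat.card H := Nat.card_le_card_of_surjective _ Φ.rangeRestrict_surjective
        _ = p ^ q := hH
    have hX1 : X 1 ≠ ⊥ := by simpa [X, c] using hX
    have hXp : Nat.card (X 1) = p := by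
      obtain ⟨i, -, hi⟩ := (Nat.dvd_prime_pow hp).1 (hH ▸ Subgroup.card_dvd_of_le (inf_le_left : X 1 ≤ H))
      rw [hi] at hle
      have hi1 : i ≤ 1 := (Nat.pow_le_pow_iff_right hp.one_lt).1
        (le_of_le_of_eq ((Nat.pow_le_pow_iff_left hq.ne_zero).1 hle) (pow_one p).symm)
      rcases Nat.le_one_iff_eq_zero_or_eq_one.1 hi1 with rfl | rfl
      · exact absurd (Subgroup.card_eq_one.1 (hi.trans (pow_zero p))) hX1
      · rw [hi, pow_one]
    obtain ⟨v, hv⟩ : ∃ v : W, v ≠ 1 := by
      by_contra! hcon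
      haveI : Subsingleton W := ⟨fun x y => (hcon x).trans (hcon y).symm⟩
      exact hq.one_lt.ne' (hW ▸ Nat.card_of_subsingleton (1 : W))
    set B := Subgroup.zpowers (c v) with hB
    have hBX : ∀ b : B, ∀ x : X 1, (b : G) * x * (b : G)⁻¹ ∈ X 1 := by
      intro b x
      have hbA : (b : G) ∈ A := Subgroup.zpowers_le.2 (hcA v) b.2
      refine ⟨(Subgroup.mem_normalizer_iff.1 (hAH hbA) _).1 x.2.1, Subgroup.mem_centralizer_singleton_iff.2 ?_⟩
      have h := Subgroup.mem_centralizer_singleton_iff.1 x.2.2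
      calc (b : G) * x * (b : G)⁻¹ * c 1 = (b : G) * x * ((b : G)⁻¹ * c 1) := by group
        _ = (b : G) * x * (c 1 * (b : G)⁻¹) := by rw [hcomm _ (inv_mem hbA) _ (hcA 1)]
        _ = (b : G) * ((x : G) * c 1) * (b : G)⁻¹ := by group
        _ = (b : G) * (c 1 * x) * (b : G)⁻¹ := by rw [h]
        _ = ((b : G) * c 1) * x * (b : G)⁻¹ := by group
        _ = (c 1 * (b : G)) * x * (b : G)⁻¹ := by rw [hcomm _ hbA _ (hcA 1)]
        _ = _ := by group
    letI : MulAction B (X 1) :=
      { smul := fun b x => ⟨(b : G) * x * (b : G)⁻¹, hBX b x⟩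
        one_smul := fun x => Subtype.ext (by
          show ((1 : B) : G) * x * ((1 : B) : G)⁻¹ = x; simp)
        mul_smul := fun b b' x => Subtype.ext (by
          show ((b * b' : B) : G) * x * ((b * b' : B) : G)⁻¹ = (b : G) * (b' * x * (b' : G)⁻¹) * (b : G)⁻¹
          simp [mul_assoc]) }
    have hBp : IsPGroup r B := IsPGroup.of_card ((Plane.zpowers_card hAe (hcA v) (hc1 v)).trans (pow_one r).symm)
    have h := hBp.card_modEq_card_fixedPoints (X 1)
    have hfp : Nat.card (MulAction.fixedPoints B (X 1)) = 1 := by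
      rw [Nat.card_eq_one_iff_unique]
      have key : ∀ x : MulAction.fixedPoints B (X 1), ((x : X 1) : G) = 1 := fun x => by
        have hx : c v * ((x : X 1) : G) * (c v)⁻¹ = (x : X 1) :=
          congrArg Subtype.val (x.2 ⟨c v, Subgroup.mem_zpowers _⟩)
        exact Subgroup.mem_bot.1 (hfix.le ⟨(x : X 1).2.1, hgen 1 v (Ne.symm hv) _
          (Subgroup.mem_centralizer_singleton_iff.1 (x : X 1).2.2).symm (mul_inv_eq_iff_eq_mul.1 hx)⟩)
      exact ⟨⟨fun x y => Subtype.ext (Subtype.ext ((key x).trans (key y).symm))⟩, ⟨⟨1, fun b => Subtype.ext (by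
        show (b : G) * 1 * (b : G)⁻¹ = 1; simp)⟩⟩⟩
    rw [hXp, hfp] at h
    exact (Nat.modEq_iff_dvd' hp.one_lt.le).1 h.symm

end Cfsg.Agent.OddChar.P13
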