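/-
Peterfalvi section 13, group-theoretic half: type P data with `U ≠ 1`, the structure of `H = S_F`.
-/
import Cfsg.Agent.Lib.OddChar.Iface
import Cfsg.Agent.Lib.OddOrder.TypesP
import Cfsg.Agent.Lib.OddOrder.TypeP
import Cfsg.Agent.Lib.Solvable.Hall
import Cfsg.Agent.S1545

set_option autoImplicit false
set_option linter.style.haveILetI false
set_option linter.unusedSectionVars false

namespace Cfsg.Agent.OddChar.P13

open scoped commutatorElement IsMulCommutative Pointwise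
open OddOrder

universe u

variable {G : Type u} [Group G] [Finite G] {S W₁ U W₂ : Subgroup G}

section Data

variable (hP : Cfsg.IsTypePWith S W₁ U W₂)
include hP

theorem derived_le : ⁅S, S⁆ ≤ S := hP.W₁_compl.1

theorem U_le : U ≤ S := hP.U_compl.2.1.trans (derived_le hP)

theorem H_le : Cfsg.fittingHallOf S ≤ ⁅S, S⁆ := hP.U_compl.1

theorem card_derived : Nat.card ↥⁅S, S⁆ = Nat.card (Cfsg.fittingHallOf S) * Nat.card U :=
  Compl.card_eq hP.U_compl

theorem coprime_W₁_derived : (Nat.card W₁).Coprime (Nat.card ↥⁅S, S⁆) := by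
  have := hP.W₁_hall
  rwa [Compl.relIndex_right hP.W₁_compl] at this

theorem coprime_W₁_H : (Nat.card W₁).Coprime (Nat.card (Cfsg.fittingHallOf S)) :=
  (coprime_W₁_derived hP).coprime_dvd_right (Subgroup.card_dvd_of_le (H_le hP))

theorem W₂_le_H : W₂ ≤ Cfsg.fittingHallOf S := hP.W₂_le.trans inf_le_left

theorem W₂_le_centralizer : W₂ ≤ Subgroup.centralizer (W₁ : Set G) := fun b hb =>
  Subgroup.mem_centralizer_iff.2 fun a ha => hP.selfNormalizing.2.2.2.1 a ha b hb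

theorem derived_inf_centralizer : ⁅S, S⁆ ⊓ Subgroup.centralizer (W₁ : Set G) = W₂ := by
  refine le_antisymm (fun x hx => ?_) (le_inf ((W₂_le_H hP).trans (H_le hP)) (W₂_le_centralizer hP))
  obtain ⟨a, ha, ha1⟩ := (Subgroup.bot_or_exists_ne_one W₁).resolve_left hP.W₁_ne
  rw [← hP.W₂_centralizer a ha ha1]
  exact ⟨hx.1, Subgroup.centralizer_le (Set.singleton_subset_iff.2 ha) hx.2⟩

theorem H_inf_centralizer : Cfsg.fittingHallOf S ⊓ Subgroup.centralizer (W₁ : Set G) = W₂ :=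
  le_antisymm ((inf_le_inf_right _ (H_le hP)).trans (derived_inf_centralizer hP).le)
    (le_inf (W₂_le_H hP) (W₂_le_centralizer hP))

/-- `W₁` acts on `U` without fixed points. -/
theorem fpf {e : G} (he : e ∈ W₁) (he1 : e ≠ 1) {u : G} (hu : u ∈ U) (h : e * u = u * e) : u = 1 := by
  have h1 : u ∈ W₂ := (hP.W₂_centralizer e he he1).le
    ⟨hP.U_compl.2.1 hu, Subgroup.mem_centralizer_singleton_iff.2 h.symm⟩
  exact Subgroup.mem_bot.1 (hP.U_compl.2.2.1.le ⟨W₂_le_H hP h1, hu⟩)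

theorem U_inf_W₁ : U ⊓ W₁ = ⊥ :=
  le_bot_iff.1 ((inf_le_inf_right _ hP.U_compl.2.1).trans hP.W₁_compl.2.2.1.le)

theorem UW_le : U ⊔ W₁ ≤ S := sup_le (U_le hP) hP.W₁_compl.2.1

theorem card_UW : Nat.card ↥(U ⊔ W₁) = Nat.card U * Nat.card W₁ := by
  have h := SolvBasic.card_sup_mul_card_inf hP.U_normal
  rwa [U_inf_W₁ hP, Subgroup.card_bot, mul_one] at h

theorem coprime_H_UW : (Nat.card (Cfsg.fittingHallOf S)).Coprime (Nat.card ↥(U ⊔ W₁)) := by
  rw [card_UW hP]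
  exact Nat.Coprime.mul_right (TypeP.coprime_H_U hP) (coprime_W₁_H hP).symm

theorem UW_le_normalizer : U ⊔ W₁ ≤ Subgroup.normalizer (Cfsg.fittingHallOf S : Set G) :=
  (UW_le hP).trans (FHall.le_normalizer_fittingHallOf S)

/-- The Wielandt formula for `U W₁` on an invariant subgroup of `H`. -/
theorem wielandt (hU : U ≠ ⊥) {X : Subgroup G} (hX : X ≤ Cfsg.fittingHallOf S)
    (hXn : U ⊔ W₁ ≤ Subgroup.normalizer (X : Set G)) :
    Nat.card ↥(X ⊓ Subgroup.centralizer ((U ⊔ W₁ : Subgroup G) : Set G)) ^ Nat.card W₁ * Nat.card X =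
      Nat.card ↥(X ⊓ Subgroup.centralizer (W₁ : Set G)) ^ Nat.card W₁ *
        Nat.card ↥(X ⊓ Subgroup.centralizer (U : Set G)) := by
  haveI := FHall.fittingHallOf_nilpotent S
  have hcop : (Nat.card X).Coprime (Nat.card ↥(U ⊔ W₁)) :=
    (coprime_H_UW hP).coprime_dvd_left (Subgroup.card_dvd_of_le hX)
  exact S1545.result U W₁ X hU hP.W₁_ne (U_inf_W₁ hP)
    (fun e he u hu => (Subgroup.mem_normalizer_iff.1 (hP.U_normal he) u).1 hu)
    (fun e he he1 u hu h => fpf hP he he1 hu h)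
    (fun x hx h hh => (Subgroup.mem_normalizer_iff.1 (hXn hx) h).1 hh)
    (Subgroup.inf_eq_bot_of_coprime hcop)
    (Group.isSolvable_of_isSolvable_injective (f := Subgroup.inclusion hX) (Subgroup.inclusion_injective hX)) hcop

/-- With `C_H(U) = 1` an invariant subgroup of `H` has order `|C_X(W₁)| ^ |W₁|`. -/
theorem card_invariant (hU : U ≠ ⊥) (hC : Cfsg.fittingHallOf S ⊓ Subgroup.centralizer (U : Set G) = ⊥)
    {X : Subgroup G} (hX : X ≤ Cfsg.fittingHallOf S) (hXn : U ⊔ W₁ ≤ Subgroup.normalizer (X : Set G)) :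
    Nat.card X = Nat.card ↥(X ⊓ Subgroup.centralizer (W₁ : Set G)) ^ Nat.card W₁ := by
  have h := wielandt hP hU hX hXn
  have h1 : X ⊓ Subgroup.centralizer (U : Set G) = ⊥ := le_bot_iff.1 ((inf_le_inf_right _ hX).trans hC.le)
  have h2 : X ⊓ Subgroup.centralizer ((U ⊔ W₁ : Subgroup G) : Set G) = ⊥ :=
    le_bot_iff.1 (le_trans (inf_le_inf_left _ (Subgroup.centralizer_le (SetLike.coe_subset_coe.2 (le_sup_left : U ≤ U ⊔ W₁)))) h1.le)
  rwa [h1, h2, Subgroup.card_bot, one_pow, one_mul, mul_one] at h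

theorem card_H (hU : U ≠ ⊥) (hC : Cfsg.fittingHallOf S ⊓ Subgroup.centralizer (U : Set G) = ⊥) :
    Nat.card (Cfsg.fittingHallOf S) = Nat.card W₂ ^ Nat.card W₁ := by
  rw [card_invariant hP hU hC le_rfl (UW_le_normalizer hP), H_inf_centralizer hP]

/-- An invariant subgroup of `H` is `1` or contains `W₂` and equals `H`. -/
theorem invariant_cases (hU : U ≠ ⊥) (hC : Cfsg.fittingHallOf S ⊓ Subgroup.centralizer (U : Set G) = ⊥)
    (hp : (Nat.card W₂).Prime) {X : Subgroup G} (hX : X ≤ Cfsg.fittingHallOf S)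
    (hXn : U ⊔ W₁ ≤ Subgroup.normalizer (X : Set G)) : X = ⊥ ∨ X = Cfsg.fittingHallOf S := by
  have h := card_invariant hP hU hC hX hXn
  have hle : X ⊓ Subgroup.centralizer (W₁ : Set G) ≤ W₂ :=
    (inf_le_inf_right _ hX).trans (H_inf_centralizer hP).le
  rcases (Nat.dvd_prime hp).1 (Subgroup.card_dvd_of_le hle) with h1 | h1
  · exact Or.inl (Subgroup.card_eq_one.1 (by rw [h, h1, one_pow]))
  · right
    refine Subgroup.eq_of_le_of_card_ge hX ?_
    rw [h, h1, card_H hP hU hC]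

/-- For `|H| = p ^ q` and `C_U(H) = 1` also `C_H(U) = 1`. -/
theorem H_inf_centralizer_U (hU : U ≠ ⊥) (hp : (Nat.card W₂).Prime)
    (hcard : Nat.card (Cfsg.fittingHallOf S) = Nat.card W₂ ^ Nat.card W₁)
    (hC : U ⊓ Subgroup.centralizer (Cfsg.fittingHallOf S : Set G) = ⊥) :
    Cfsg.fittingHallOf S ⊓ Subgroup.centralizer (U : Set G) = ⊥ := by
  set H := Cfsg.fittingHallOf S with hH
  have h := wielandt hP hU le_rfl (UW_le_normalizer hP)
  rw [H_inf_centralizer hP, hcard, mul_comm (Nat.card W₂ ^ Nat.card W₁)] at h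
  have he : Nat.card ↥(H ⊓ Subgroup.centralizer ((U ⊔ W₁ : Subgroup G) : Set G)) ^ Nat.card W₁ =
      Nat.card ↥(H ⊓ Subgroup.centralizer (U : Set G)) :=
    Nat.eq_of_mul_eq_mul_right (pow_pos hp.pos _) h
  have hle : H ⊓ Subgroup.centralizer ((U ⊔ W₁ : Subgroup G) : Set G) ≤ W₂ :=
    (inf_le_inf_left _ (Subgroup.centralizer_le (SetLike.coe_subset_coe.2 (le_sup_right : W₁ ≤ U ⊔ W₁)))).trans (H_inf_centralizer hP).le
  rcases (Nat.dvd_prime hp).1 (Subgroup.card_dvd_of_le hle) with h1 | h1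
  · rw [h1, one_pow] at he
    exact Subgroup.card_eq_one.1 he.symm
  · rw [h1] at he
    have h2 : H ⊓ Subgroup.centralizer (U : Set G) = H :=
      Subgroup.eq_of_le_of_card_ge inf_le_left (by rw [← he, hcard])
    refine absurd (le_bot_iff.1 (?_ : U ≤ ⊥)) hU
    rw [← hC]
    exact le_inf le_rfl (Subgroup.le_centralizer_iff.1 (inf_eq_left.1 h2))

/-- `H` is elementary abelian when `C_H(U) = 1` and `|W₂|` is prime. -/
theorem elementary (hU : U ≠ ⊥) (hC : Cfsg.fittingHallOf S ⊓ Subgroup.centralizer (U : Set G) = ⊥)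
    (hp : (Nat.card W₂).Prime) : Cfsg.IsElementaryAbelian (Nat.card W₂) (Cfsg.fittingHallOf S) := by
  set H := Cfsg.fittingHallOf S with hH
  haveI := FHall.fittingHallOf_nilpotent S
  have hn := UW_le_normalizer hP
  have hne : H ≠ ⊥ := fun e => hP.H_not_cyclic (by rw [← hH, e]; infer_instance)
  have hab : ⁅H, H⁆ = ⊥ := by
    refine (invariant_cases hP hU hC hp (Subgroup.commutator_le_self H) fun g hg => ?_).resolve_right ?_
    · rw [Subgroup.mem_normalizer_iff_map_conj_eq, Subgroup.map_commutator,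
        Subgroup.mem_normalizer_iff_map_conj_eq.1 (hn hg)]
    · intro e
      haveI : Nontrivial H := H.nontrivial_iff_ne_bot.2 hne
      refine (Group.IsSolvable.commutator_lt_of_ne_bot (G := ↥H) (H := ⊤) top_ne_bot).ne ?_
      refine Subgroup.map_injective H.subtype_injective ?_
      rw [Subgroup.map_commutator, ← MonoidHom.range_eq_map, Subgroup.range_subtype]
      exact e
  haveI hcomm : IsMulCommutative H :=
    ⟨⟨fun a b => Subtype.ext
      (Subgroup.mem_centralizer_iff.1 (Subgroup.commutator_eq_bot_iff_le_centralizer.1 hab b.2) a a.2)⟩⟩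
  refine ⟨hcomm, ?_⟩
  set p := Nat.card W₂ with hpdef
  have hmul : ∀ a ∈ H, ∀ b ∈ H, Commute a b := fun a ha b hb =>
    congrArg Subtype.val (mul_comm' (⟨a, ha⟩ : H) ⟨b, hb⟩)
  let X : Subgroup G :=
    { carrier := {x | x ∈ H ∧ x ^ p = 1}
      mul_mem' := fun {a b} ha hb => ⟨mul_mem ha.1 hb.1, by
        rw [(hmul a ha.1 b hb.1).mul_pow, ha.2, hb.2, one_mul]⟩
      one_mem' := ⟨one_mem H, one_pow p⟩
      inv_mem' := fun {a} ha => ⟨inv_mem ha.1, by rw [inv_pow, ha.2, inv_one]⟩ }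
  have hW : W₂ ≤ X := fun x hx =>
    ⟨W₂_le_H hP hx, orderOf_dvd_iff_pow_eq_one.1 (Subgroup.orderOf_dvd_natCard W₂ hx)⟩
  have hXn : U ⊔ W₁ ≤ Subgroup.normalizer (X : Set G) := by
    intro g hg
    refine Subgroup.mem_normalizer_iff.2 fun x => ?_
    show x ∈ H ∧ x ^ p = 1 ↔ g * x * g⁻¹ ∈ H ∧ (g * x * g⁻¹) ^ p = 1
    rw [← Subgroup.mem_normalizer_iff.1 (hn hg) x, conj_pow, conj_eq_one_iff]
  intro a ha
  rcases invariant_cases hP hU hC hp (X := X) (fun x hx => hx.1) hXn with e | e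
  · exact absurd (le_bot_iff.1 (hW.trans e.le)) hP.selfNormalizing.2.1
  · exact (e.ge ha).2

end Data

section Compl

variable (hG : Cfsg.IsMinSimpleOddOrder G) (hS : IsCoatom S)
include hG hS

/-- Complements of `S_F` in `S'` are conjugate in `S'`. -/
theorem compl_conj (hP : Cfsg.IsTypePWith S W₁ U W₂) {W : Subgroup G}
    (hW : Cfsg.IsComplIn (Cfsg.fittingHallOf S) W ⁅S, S⁆) :
    ∃ c ∈ ⁅S, S⁆, W.map (MulAut.conj c).toMonoidHom = U := by
  set X := ⁅S, S⁆ with hX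
  haveI := MinSimple.isSolvable hG (ne_top_of_le_ne_top hS.1 (derived_le hP))
  have h1 := card_derived hP
  have h2 := Compl.card_eq hW
  have hc : Nat.card W = Nat.card U := Nat.eq_of_mul_eq_mul_left Nat.card_pos (h2.symm.trans h1)
  obtain ⟨⟨c, hc'⟩, hcU⟩ := HallSolv.hall_conj (G := X) (m := Nat.card W) (n := Nat.card (Cfsg.fittingHallOf S))
    (h2.trans (mul_comm _ _)) (hc ▸ (TypeP.coprime_H_U hP).symm)
    (H := W.subgroupOf X) (K := U.subgroupOf X) (Nat.card_congr (Subgroup.subgroupOfEquivOfLe hW.2.1).toEquiv)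
    ((Nat.card_congr (Subgroup.subgroupOfEquivOfLe hP.U_compl.2.1).toEquiv).trans hc.symm)
  refine ⟨c, hc', le_antisymm ?_ fun y hy => ?_⟩
  · rintro _ ⟨u, hu, rfl⟩
    exact hcU.le (Subgroup.smul_mem_pointwise_smul (⟨u, hW.2.1 hu⟩ : X) (MulAut.conj (⟨c, hc'⟩ : X)) _ hu)
  · obtain ⟨z, hz, hze⟩ := hcU.ge (show (⟨y, hP.U_compl.2.1 hy⟩ : X) ∈ U.subgroupOf X from hy)
    exact ⟨z, hz, congrArg Subtype.val hze⟩

/-- A second type P datum of the same subgroup: same order of `W₁`, conjugate `U`. -/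
theorem data_unique (hP : Cfsg.IsTypePWith S W₁ U W₂) {V₁ V V₂ : Subgroup G}
    (hV : Cfsg.IsTypePWith S V₁ V V₂) :
    Nat.card V₁ = Nat.card W₁ ∧ ∃ c ∈ ⁅S, S⁆, V.map (MulAut.conj c).toMonoidHom = U := by
  refine ⟨Nat.eq_of_mul_eq_mul_left Nat.card_pos ((Compl.card_eq hV.W₁_compl).symm.trans
    (Compl.card_eq hP.W₁_compl)), compl_conj hG hS hP hV.U_compl⟩

/-- Type II: `U` is a nontrivial abelian group with `N(U) ⊄ S` and `C_H(U) = 1`. -/
theorem typeII_facts (hP : Cfsg.IsTypePWith S W₁ U W₂) (hII : Cfsg.IsOfTypeII S) :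
    U ≠ ⊥ ∧ (Nat.card W₁).Prime ∧ IsMulCommutative U ∧ ¬ Subgroup.normalizer (U : Set G) ≤ S ∧
      Cfsg.IsTISubset (Cfsg.fittingOf S : Set G) ∧
      Cfsg.fittingHallOf S ⊓ Subgroup.centralizer (U : Set G) = ⊥ := by
  obtain ⟨V₁, V, V₂, hV, hV1, hpr, hTI, hab, hN, hF, hFe⟩ := hII
  obtain ⟨hq, c, hc, rfl⟩ := data_unique hG hS hP hV
  set f := (MulAut.conj c).toMonoidHom with hf
  have hi : Function.Injective f := (MulAut.conj c).injective
  have hcS : c ∈ S := derived_le hP hc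
  refine ⟨fun e => hV1 ((Subgroup.map_eq_bot_iff_of_injective V hi).1 e), hq ▸ hpr, ?_, ?_, hTI, ?_⟩
  · haveI := hab
    infer_instance
  · intro hle
    refine hN fun g hg => ?_
    have h1 : c * g * c⁻¹ ∈ S := hle (Subgroup.le_normalizer_map f ⟨g, hg, rfl⟩)
    simpa [mul_assoc] using S.mul_mem (S.mul_mem (S.inv_mem hcS) h1) hcS
  · set D := ⁅S, S⁆ with hD
    set H := Cfsg.fittingHallOf S with hH
    obtain ⟨-, -, -, -, Z, hZ1, hZc, -, Z₀, hZ₀, hexp, hfree⟩ := hF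
    have hFsub : (Cfsg.fittingHall D).map D.subtype = H := hFe
    have hZ' : Cfsg.IsComplIn H (Z.map D.subtype) D := by
      refine ⟨H_le hP, Subgroup.map_subtype_le _, ?_, fun m hm => ?_⟩
      · rw [← hFsub, ← Subgroup.map_inf _ _ _ D.subtype_injective, hZc.disjoint.eq_bot, Subgroup.map_bot]
      · obtain ⟨⟨⟨a, ha⟩, b, hb⟩, hab'⟩ := hZc.surjective (⟨m, hm⟩ : D)
        exact ⟨(a : G), hFsub.le ⟨a, ha, rfl⟩, (b : G), ⟨b, hb, rfl⟩, (congrArg Subtype.val hab').symm⟩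
    obtain ⟨d, hd, hdU⟩ := compl_conj hG hS hP hZ'
    have hZ₀1 : Z₀ ≠ ⊥ := fun e => hZ1 <| by
      haveI : Subsingleton Z := Monoid.exp_eq_one_iff.1 (by
        rw [← hexp, e]
        exact Monoid.exp_eq_one_of_subsingleton)
      exact Subgroup.eq_bot_of_subsingleton Z
    obtain ⟨z, hz, hz1⟩ := (Subgroup.bot_or_exists_ne_one Z₀).resolve_left hZ₀1
    refine (Subgroup.eq_bot_iff_forall _).2 fun x ⟨hxH, hxC⟩ => ?_
    have hdS : d ∈ S := derived_le hP hd
    have hzU : d * (z : G) * d⁻¹ ∈ V.map f := hdU.le ⟨z, ⟨z, hZ₀ hz, rfl⟩, rfl⟩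
    have hcom := Subgroup.mem_centralizer_iff.1 hxC _ hzU
    have hx' : d⁻¹ * x * d⁻¹⁻¹ ∈ H :=
      (Subgroup.mem_normalizer_iff.1 (FHall.le_normalizer_fittingHallOf S (S.inv_mem hdS)) x).1 hxH
    obtain ⟨y, hy, hye⟩ := hFsub.ge hx'
    have := hfree z hz hz1 y hy (Subtype.ext (by
      show (z : G) * (y : G) = (y : G) * (z : G)
      rw [show (y : G) = d⁻¹ * x * d⁻¹⁻¹ from hye]
      calc (z : G) * (d⁻¹ * x * d⁻¹⁻¹) = d⁻¹ * (d * z * d⁻¹ * x) * d := by group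
        _ = d⁻¹ * (x * (d * z * d⁻¹)) * d := by rw [hcom]
        _ = d⁻¹ * x * d⁻¹⁻¹ * z := by group))
    rw [this] at hye
    exact conj_eq_one_iff.1 hye.symm

/-- Type III: `U` is a nontrivial abelian group with `N(U) ≤ S`. -/
theorem typeIII_facts (hP : Cfsg.IsTypePWith S W₁ U W₂) (hIII : Cfsg.IsOfTypeIII S) :
    U ≠ ⊥ ∧ (Nat.card W₁).Prime ∧ IsMulCommutative U ∧ Subgroup.normalizer (U : Set G) ≤ S ∧
      Cfsg.IsTISubset (Cfsg.fittingOf S : Set G) := by
  obtain ⟨V₁, V, V₂, hV, hV1, hpr, hTI, hab, hN⟩ := hIII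
  obtain ⟨hq, c, hc, rfl⟩ := data_unique hG hS hP hV
  set f := (MulAut.conj c).toMonoidHom with hf
  have hi : Function.Injective f := (MulAut.conj c).injective
  have hcS : c ∈ S := derived_le hP hc
  refine ⟨fun e => hV1 ((Subgroup.map_eq_bot_iff_of_injective V hi).1 e), hq ▸ hpr, ?_, fun g hg => ?_, hTI⟩
  · haveI := hab
    infer_instance
  · have h1 : c⁻¹ * g * c⁻¹⁻¹ ∈ Subgroup.normalizer (V : Set G) := by
      have h := Subgroup.le_normalizer_map (MulAut.conj c⁻¹).toMonoidHom ⟨g, hg, rfl⟩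
      rwa [Sigma.map_conj_map, inv_mul_cancel, map_one,
        show (1 : MulAut G).toMonoidHom = MonoidHom.id G from rfl, Subgroup.map_id] at h
    simpa [mul_assoc] using S.mul_mem (S.mul_mem hcS (hN h1)) (S.inv_mem hcS)

end Compl

end Cfsg.Agent.OddChar.P13
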