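/-
Peterfalvi section 13, group-theoretic half: `A₀(S)` is a TI-subset, and the facts of S1543.
-/
import Cfsg.Agent.Lib.OddChar.P13.Struct
import Cfsg.Agent.Lib.OddChar.P13.Plane
import Cfsg.Agent.Lib.OddOrder.TypeA
import Cfsg.Agent.S1387
import Cfsg.Agent.S1389
import Cfsg.Agent.S1537
import Cfsg.Agent.S1538

set_option autoImplicit false
set_option linter.style.haveILetI false
set_option linter.unusedSectionVars false

namespace Cfsg.Agent.OddChar.P13

open scoped commutatorElement IsMulCommutative Pointwise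
open OddOrder

universe u

variable {G : Type u} [Group G] [Finite G] {S W₁ U W₂ : Subgroup G}

theorem fitting_eq_of (hP : Cfsg.IsTypePWith S W₁ U W₂)
    (hC : U ⊓ Subgroup.centralizer (Cfsg.fittingHallOf S : Set G) = ⊥) :
    Cfsg.fittingOf S = Cfsg.fittingHallOf S := by
  rw [S1387.result S W₁ U W₂ hP, hC, sup_bot_eq]

variable (hG : Cfsg.IsMinSimpleOddOrder G) (hS : IsCoatom S)
include hG hS

/-- Non-identity elements of a TI Fitting subgroup have their centralisers in `S`. -/
theorem centralizer_le_of_fitting (hTI : Cfsg.IsTISubset (Cfsg.fittingOf S : Set G)) {x : G}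
    (hx : x ∈ Cfsg.fittingOf S) (hx1 : x ≠ 1) : Subgroup.centralizer ({x} : Set G) ≤ S := by
  intro c hc
  by_contra hcS
  refine hx1 (hTI c (fun h => hcS ?_) x hx ?_)
  · rwa [FTI.normalizer_of_normal hG hS (FitOf.fittingOf_le S)
      (fun e => hx1 (Subgroup.mem_bot.1 (e.le hx))) (FitOf.le_normalizer_fittingOf S)] at h
  · rw [Subgroup.mem_centralizer_singleton_iff.1 hc, mul_inv_cancel_right]
    exact hx

theorem H_le_fitting (hP : Cfsg.IsTypePWith S W₁ U W₂) : Cfsg.fittingHallOf S ≤ Cfsg.fittingOf S :=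
  le_sup_left.trans hP.fitting_eq.le

/-- The elements of order `p` of `S` lie in `H` when `p` divides `|H|`. -/
theorem mem_H_of_orderOf {p : ℕ} (hp : p.Prime) (hpH : p ∣ Nat.card (Cfsg.fittingHallOf S)) {y : G}
    (hyS : y ∈ S) (hy : orderOf y = p) : y ∈ Cfsg.fittingHallOf S := by
  haveI : ((Cfsg.fittingHallOf S).subgroupOf S).Normal :=
    Subgroup.normal_subgroupOf_of_le_normalizer (FHall.le_normalizer_fittingHallOf S)
  refine Subgroup.mem_subgroupOf.1 (Exceptional.le_of_coprime_index (N := (Cfsg.fittingHallOf S).subgroupOf S)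
    (X := Subgroup.zpowers (⟨y, hyS⟩ : S)) ?_ (Subgroup.mem_zpowers _))
  rw [Nat.card_zpowers, Subgroup.orderOf_mk, hy]
  exact (FHall.fittingHallOf_coprime S).coprime_dvd_left hpH

/-- In Type III every element of `A₀(S)` has its centraliser in `S`. -/
theorem typeIII_centralizer_le (hP : Cfsg.IsTypePWith S W₁ U W₂) (hIII : Cfsg.IsOfTypeIII S)
    (hp : (Nat.card W₂).Prime) (hpq : Nat.card W₂ < Nat.card W₁)
    (hel : Cfsg.IsElementaryAbelian (Nat.card W₂) (Cfsg.fittingHallOf S))
    (hcard : Nat.card (Cfsg.fittingHallOf S) = Nat.card W₂ ^ Nat.card W₁)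
    (hC : U ⊓ Subgroup.centralizer (Cfsg.fittingHallOf S : Set G) = ⊥)
    {v : G} (hv : v ∈ Cfsg.typeA0 S) : Subgroup.centralizer ({v} : Set G) ≤ S := by
  obtain ⟨hU, hq, hab, -, hTI⟩ := typeIII_facts hG hS hP hIII
  haveI := hab
  haveI := hel.1
  set H := Cfsg.fittingHallOf S with hH
  set p := Nat.card W₂ with hpdef
  by_contra hno
  obtain ⟨hvσ, hv1⟩ := TypeA.mem_sigma_of_large hG hS hv hno
  obtain ⟨N, hN, hCN, -, hτ, -⟩ := Support.exists_support hG hS hvσ hv1 hno
  have hvS : v ∈ S := Exceptional.sigmaCore_le S hvσ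
  obtain ⟨r, hr, hrd⟩ := Nat.exists_prime_and_dvd fun e => hv1 (orderOf_eq_one_iff.1 e)
  haveI := Fact.mk hr
  have hrp : r ≠ p := by
    rintro rfl
    set y := v ^ (orderOf v / p) with hy
    have hyo : orderOf y = p := orderOf_pow_orderOf_div (orderOf_pos v).ne' hrd
    have hy1 : y ≠ 1 := fun e => hp.ne_one (by rw [← hyo, e, orderOf_one])
    have hyH : y ∈ H := mem_H_of_orderOf hG hS hp (hcard ▸ dvd_pow_self p hq.ne_zero) (S.pow_mem hvS _) hyo
    refine hno (le_trans ?_ (centralizer_le_of_fitting hG hS hTI (H_le_fitting hG hS hP hyH) hy1))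
    intro c hc
    exact Subgroup.mem_centralizer_singleton_iff.2
      (((show Commute c v from Subgroup.mem_centralizer_singleton_iff.1 hc)).pow_right _).eq
  obtain ⟨-, -, hσd, -, -⟩ := S1355.result hG S hS
  have hrH : ¬ r ∣ Nat.card H := fun h =>
    hrp ((Nat.prime_dvd_prime_iff_eq hr hp).1 (hr.dvd_of_dvd_pow (hcard ▸ h)))
  have hrD : r ∣ Nat.card ↥⁅S, S⁆ := hrd.trans (Subgroup.orderOf_dvd_natCard _ (hσd hvσ))
  -- a maximal plane inside `U`
  have hτr := hτ r hr hrd
  obtain ⟨E, hE⟩ := Exceptional.exists_complement hG hN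
  obtain ⟨B, hBE, hBe, hBc⟩ := TauTwo.exists_plane (p := r) hG hN hE hτr
  obtain ⟨B₀, hB₀, -⟩ := PlaneUnique.exists_exc hG hN (hBE.trans hE.1) hBe hBc hτr.2.1
  have hBmax : Plane.Maximal r B := hB₀.maximal
  obtain ⟨P₀⟩ := (inferInstance : Nonempty (Sylow r U))
  obtain ⟨P, hP₀P⟩ := (P₀.isPGroup'.map U.subtype).exists_le_sylow
  have hPU : (P : Subgroup G) ≤ U := by
    have hidx := (S1389.result hG S hS).2.2
    rw [Cfsg.typeCore, if_pos (Or.inl hIII)] at hidx
    have hGf : (Nat.card G).factorization r = (Nat.card U).factorization r := by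
      rw [← Subgroup.card_mul_index ⁅S, S⁆, Nat.factorization_mul Nat.card_pos.ne' Subgroup.index_ne_zero_of_finite,
        Finsupp.add_apply, card_derived hP, Nat.factorization_mul Nat.card_pos.ne' Nat.card_pos.ne',
        Finsupp.add_apply, Nat.factorization_eq_zero_of_not_dvd hrH, zero_add,
        Nat.factorization_eq_zero_of_not_dvd fun h => hr.ne_one (Nat.eq_one_of_dvd_coprimes hidx hrD h), add_zero]
    have he : (P₀ : Subgroup U).map U.subtype = P := Subgroup.eq_of_le_of_card_ge hP₀P (by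
      rw [Subgroup.card_map_of_injective U.subtype_injective, P.card_eq_multiplicity, P₀.card_eq_multiplicity, hGf])
    exact he ▸ Subgroup.map_subtype_le _
  obtain ⟨P', hBP'⟩ := (Plane.isPGroup hBc).exists_le_sylow
  obtain ⟨g, hg⟩ := MulAction.exists_smul_eq G P' P
  set A := B.map (MulAut.conj g).toMonoidHom with hAdef
  have hAU : A ≤ U := by
    refine le_trans ?_ hPU
    rintro _ ⟨b, hb, rfl⟩
    rw [← hg]
    exact Subgroup.smul_mem_pointwise_smul b (MulAut.conj g) _ (hBP' hb)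
  haveI := hBe.1
  have hAe : Cfsg.IsElementaryAbelian r A := ⟨inferInstance, by
    rintro _ ⟨b, hb, rfl⟩
    rw [← map_pow, hBe.2 b hb, map_one]⟩
  have hAc : Nat.card A = r ^ 2 := by
    rw [hAdef, Subgroup.card_map_of_injective (MulAut.conj g).injective, hBc]
  have hAmem : ∀ x : G, x ∈ U → x ^ r = 1 → x ∈ A := by
    intro x hx hxr
    refine ⟨(MulAut.conj g).symm x, hBmax.mem_of_commute (Subgroup.mem_centralizer_iff.2 fun b hb => ?_) ?_,
      MulEquiv.apply_symm_apply _ x⟩
    · refine (MulAut.conj g).injective ?_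
      rw [map_mul, map_mul, MulEquiv.apply_symm_apply]
      exact congrArg Subtype.val (mul_comm' (⟨_, hAU ⟨b, hb, rfl⟩⟩ : U) ⟨x, hx⟩)
    · rw [← map_pow, hxr, map_one]
  have hUW := UW_le_normalizer hP
  have hUcent : ∀ {X : Subgroup G}, X ≤ U → U ≤ Subgroup.centralizer (X : Set G) := fun hX =>
    (Subgroup.le_centralizer U).trans (Subgroup.centralizer_le hX)
  have hWA : W₁ ≤ Subgroup.normalizer (A : Set G) := fun w hw => by
    refine ComplAbelian.mem_normalizer_of_map_le fun x hx => ?_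
    refine hAmem _ ((Subgroup.mem_normalizer_iff.1 (hP.U_normal hw) x).1 (hAU hx)) ?_
    rw [conj_pow, hAe.2 x hx, mul_one, mul_inv_cancel]
  have hUH := H_inf_centralizer_U hP hU hp hcard hC
  have hcases : ∀ Y : Subgroup G, Y ≤ U → Y ≠ ⊥ → U ⊔ W₁ ≤ Subgroup.normalizer (Y : Set G) →
      H ⊓ Subgroup.centralizer (Y : Set G) = ⊥ := fun Y hYU hY1 hYn => by
    refine (invariant_cases hP hU hUH hp inf_le_left (FitOf.le_normalizer_inf hUW
      (hYn.trans (FitOf.normalizer_le_normalizer_centralizer _)))).resolve_right fun e => hY1 (le_bot_iff.1 ?_)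
    rw [← hC]
    exact le_inf hYU (Subgroup.le_centralizer_iff.1 (inf_eq_left.1 e))
  have hfix : H ⊓ Subgroup.centralizer (A : Set G) = ⊥ :=
    hcases A hAU (Plane.ne_bot hAc) (sup_le ((hUcent hAU).trans (Subgroup.centralizer_le_normalizer _)) hWA)
  obtain ⟨h1, h2⟩ := plane_bound (H := H) (A := A) (W := W₁) hp hq hr hcard hrp hAe hAc
    (hAU.trans (le_sup_left.trans hUW)) (le_sup_right.trans hUW) hWA rfl hfix fun a ha ha1 hWa => by
      rw [← Plane.centralizer_zpowers]
      exact hcases _ (Subgroup.zpowers_le.2 (hAU ha)) (fun e => ha1 (Subgroup.zpowers_eq_bot.1 e))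
        (sup_le ((hUcent (Subgroup.zpowers_le.2 (hAU ha))).trans (Subgroup.centralizer_le_normalizer _)) hWa)
  have h3 := Nat.le_of_dvd (by have := hp.two_le; omega) h2
  omega

theorem typeA0_ti (hcent : ∀ v ∈ Cfsg.typeA0 S, Subgroup.centralizer ({v} : Set G) ≤ S) :
    Cfsg.IsTISubset (Cfsg.typeA0 S) ∧ Subgroup.normalizer (Cfsg.typeA0 S) = S := by
  have hN : Subgroup.normalizer (Cfsg.typeA0 S) = S := (S1537.result hG S hS _ (Or.inr (Or.inr rfl))).1
  refine ⟨fun g hg x hx hgx => ?_, hN⟩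
  rw [hN] at hg
  obtain ⟨m, hm, he⟩ := TypeA.fusion hG hS hx hgx
  refine absurd ?_ hg
  have h : m⁻¹ * g ∈ Subgroup.centralizer ({x} : Set G) := Subgroup.mem_centralizer_singleton_iff.2 (by
    calc m⁻¹ * g * x = m⁻¹ * (g * x * g⁻¹) * g := by group
      _ = m⁻¹ * (m * x * m⁻¹) * g := by rw [he]
      _ = x * (m⁻¹ * g) := by group)
  simpa using S.mul_mem hm (hcent x hx h)

omit hS in
/-- S1543 from the results of sections 10 and 11. -/
theorem pairFacts (hV : NoTypeV G) (hIV : NoTypeIV G) (h3 : TypeThreeFacts G) (hpr : PairPrimes G) :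
    PairFacts G := by
  intro S T W₁ W₂ U V h
  have hS := h.coatom_left
  have hp := (hpr S W₁ U W₂ hS h.left).2
  have htypes : Cfsg.IsOfTypeII S ∨ Cfsg.IsOfTypeIII S := by
    rcases h.left_types with h1 | h1 | h1 | h1
    exacts [Or.inl h1, Or.inr h1, absurd h1 (hIV S hS), absurd h1 (hV S hS)]
  rcases htypes with hII | hIII
  · obtain ⟨hU, -, -, -, -, hCU⟩ := typeII_facts hG hS h.left hII
    exact ⟨Or.inl hII, fun _ => hII, elementary h.left hU hCU hp, card_H h.left hU hCU,
      (S1538.result hG S hS hII).1⟩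
  · obtain ⟨hlt, hel, hcard, hC⟩ := h3 S W₁ U W₂ hS hIII h.left
    obtain ⟨h1, h2⟩ := typeA0_ti hG hS fun v hv => typeIII_centralizer_le hG hS h.left hIII hp hlt hel hcard hC hv
    exact ⟨Or.inr hIII, fun hqp => absurd hlt (not_lt.2 hqp.le), hel, hcard, h1, h2⟩

end Cfsg.Agent.OddChar.P13
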