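/-
Peterfalvi section 13: the data of one maximal subgroup of a pair, in the form used by the
character computations, and its elementary consequences.

`S = (P ⋊ U) ⋊ W₁`, `P` abelian of order `p ^ q` with `p = |W₂|`, `q = |W₁|`, `U` abelian,
`C = C_U(P)`, `H = P × C` a TI-subgroup of `G` with normaliser `S`, and the Dade set-up on the
non-identity elements of `P U` which centralise a non-identity element of `P`.
-/
import Cfsg.Prelude.Def_OddOrderLocal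
import Cfsg.Prelude.Def_OddOrderChar
import Cfsg.Agent.Lib.Char.Fixed

set_option autoImplicit false
set_option linter.unusedSectionVars false
set_option linter.deprecated false

namespace Cfsg.Agent.OddChar.P13

universe u

variable {G : Type u} [Group G]

/-- `C_U(P)`. -/
def cpart (P U : Subgroup G) : Subgroup G := U ⊓ Subgroup.centralizer (P : Set G)

/-- `H = P C_U(P)`. -/
def hall (P U : Subgroup G) : Subgroup G := P ⊔ cpart P U

/-- The non-identity elements of `P U` centralising a non-identity element of `P`. -/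
def aset (P U : Subgroup G) : Set G :=
  {a | a ∈ P ⊔ U ∧ a ≠ 1 ∧ ∃ x ∈ P, x ≠ 1 ∧ a * x = x * a}

/-- The hypotheses on one side of a pair. -/
structure Side (S P U W₁ W₂ : Subgroup G) : Prop where
  odd : Odd (Nat.card G)
  q_prime : (Nat.card W₁).Prime
  p_prime : (Nat.card W₂).Prime
  selfN : Cfsg.IsSelfNormalizingCyclic W₁ W₂
  P_le : P ≤ S
  U_le : U ≤ S
  W₁_le : W₁ ≤ S
  gen : P ⊔ U ⊔ W₁ = S
  P_normal : S ≤ Subgroup.normalizer (P : Set G)
  U_normal : W₁ ≤ Subgroup.normalizer (U : Set G)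
  P_comm : ∀ a ∈ P, ∀ b ∈ P, a * b = b * a
  U_comm : ∀ a ∈ U, ∀ b ∈ U, a * b = b * a
  P_card : Nat.card P = Nat.card W₂ ^ Nat.card W₁
  coprime_PU : Nat.Coprime (Nat.card P) (Nat.card U)
  coprime_P : Nat.Coprime (Nat.card W₁) (Nat.card P)
  coprime_U : Nat.Coprime (Nat.card W₁) (Nat.card U)
  W₂_le : W₂ ≤ P
  cent : ∀ x ∈ W₁, x ≠ 1 → (P ⊔ U) ⊓ Subgroup.centralizer ({x} : Set G) = W₂
  act : ¬ U ≤ Subgroup.centralizer (P : Set G)
  ti : Cfsg.IsTISubset (hall P U : Set G)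
  norm : Subgroup.normalizer (hall P U : Set G) = S
  dade : ∃ R : G → Subgroup G, Cfsg.DadeHypothesis (aset P U) S R

variable {S P U W₁ W₂ : Subgroup G}

/-- The Dade set-up restricts to smaller sets stable under `L`. -/
theorem dade_mono {A B : Set G} {L : Subgroup G} {R : G → Subgroup G}
    (hD : Cfsg.DadeHypothesis A L R) (hBA : B ⊆ A)
    (hB : ∀ x ∈ L, ∀ a ∈ B, x * a * x⁻¹ ∈ B) : Cfsg.DadeHypothesis B L R where
  one_not_mem h := hD.one_not_mem (hBA h)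
  subset := hBA.trans hD.subset
  conj_mem := hB
  fusion a ha g hg := hD.fusion a (hBA ha) g (hBA hg)
  le_centralizer a ha := hD.le_centralizer a (hBA ha)
  conj_mem_H a ha := hD.conj_mem_H a (hBA ha)
  inf_eq_bot a ha := hD.inf_eq_bot a (hBA ha)
  sup_eq a ha := hD.sup_eq a (hBA ha)
  coprime a ha b hb := hD.coprime a (hBA ha) b (hBA hb)

namespace Side

variable (D : Side S P U W₁ W₂)
include D

theorem le_normP {g : G} (hg : g ∈ S) {x : G} (hx : x ∈ P) : g * x * g⁻¹ ∈ P :=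
  (Subgroup.mem_normalizer_iff.mp (D.P_normal hg) x).mp hx

theorem conjU {w : G} (hw : w ∈ W₁) {u : G} (hu : u ∈ U) : w * u * w⁻¹ ∈ U :=
  (Subgroup.mem_normalizer_iff.mp (D.U_normal hw) u).mp hu

theorem inf_PU : P ⊓ U = ⊥ := Subgroup.inf_eq_bot_of_coprime D.coprime_PU

theorem U_le_normP : U ≤ Subgroup.normalizer (P : Set G) := D.U_le.trans D.P_normal

theorem mem_PU {g : G} : g ∈ P ⊔ U ↔ ∃ x ∈ P, ∃ u ∈ U, g = x * u := by
  constructor
  · intro hg
    have h : g ∈ (↑(P ⊔ U) : Set G) := hg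
    rw [Subgroup.coe_mul_of_right_le_normalizer_left P U D.U_le_normP] at h
    obtain ⟨x, hx, u, hu, rfl⟩ := h
    exact ⟨x, hx, u, hu, rfl⟩
  · rintro ⟨x, hx, u, hu, rfl⟩
    exact (P ⊔ U).mul_mem (le_sup_left (b := U) hx) (le_sup_right (a := P) hu)

theorem eq_of_mul_eq {x x' u u' : G} (hx : x ∈ P) (hx' : x' ∈ P) (hu : u ∈ U) (hu' : u' ∈ U)
    (h : x * u = x' * u') : x = x' ∧ u = u' := by
  have hm : x'⁻¹ * x ∈ P ⊓ U := by
    refine ⟨P.mul_mem (P.inv_mem hx') hx, ?_⟩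
    have : x'⁻¹ * x = u' * u⁻¹ := by rw [eq_mul_inv_iff_mul_eq, mul_assoc, h]; group
    rw [this]
    exact U.mul_mem hu' (U.inv_mem hu)
  rw [D.inf_PU, Subgroup.mem_bot, inv_mul_eq_one] at hm
  exact ⟨hm.symm, mul_left_cancel (hm ▸ h)⟩

theorem normal_PU {g : G} (hg : g ∈ S) {k : G} (hk : k ∈ P ⊔ U) : g * k * g⁻¹ ∈ P ⊔ U := by
  have h : S ≤ Subgroup.normalizer ((P ⊔ U : Subgroup G) : Set G) := by
    rw [← D.gen]
    refine sup_le Subgroup.le_normalizer fun w hw => ?_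
    refine Subgroup.mem_normalizer_iff_map_conj_eq.2 ?_
    rw [Subgroup.map_sup, Subgroup.mem_normalizer_iff_map_conj_eq.1 (D.P_normal (D.W₁_le hw)),
      Subgroup.mem_normalizer_iff_map_conj_eq.1 (D.U_normal hw)]
  exact (Subgroup.mem_normalizer_iff.mp (h hg) k).mp hk

theorem inf_W₁ : (P ⊔ U) ⊓ W₁ = ⊥ := by
  rw [eq_bot_iff]
  intro w hw
  obtain ⟨x, hx, u, hu, e⟩ := D.mem_PU.mp hw.1
  by_contra hne
  have hw2 : w ∈ W₂ := by
    rw [← D.cent w hw.2 (fun h => hne (Subgroup.mem_bot.mpr h))]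
    exact ⟨hw.1, Subgroup.mem_centralizer_singleton_iff.mpr rfl⟩
  have : w ∈ W₁ ⊓ W₂ := ⟨hw.2, hw2⟩
  rw [D.selfN.2.2.1] at this
  exact hne this

theorem mem_S {g : G} : g ∈ S ↔ ∃ k ∈ P ⊔ U, ∃ w ∈ W₁, g = k * w := by
  constructor
  · intro hg
    have hN : W₁ ≤ Subgroup.normalizer ((P ⊔ U : Subgroup G) : Set G) := fun w hw => by
      refine Subgroup.mem_normalizer_iff_map_conj_eq.2 ?_
      rw [Subgroup.map_sup, Subgroup.mem_normalizer_iff_map_conj_eq.1 (D.P_normal (D.W₁_le hw)),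
        Subgroup.mem_normalizer_iff_map_conj_eq.1 (D.U_normal hw)]
    rw [← D.gen] at hg
    have h : g ∈ (↑((P ⊔ U) ⊔ W₁) : Set G) := hg
    rw [Subgroup.coe_mul_of_right_le_normalizer_left (P ⊔ U) W₁ hN] at h
    obtain ⟨k, hk, w, hw, rfl⟩ := h
    exact ⟨k, hk, w, hw, rfl⟩
  · rintro ⟨k, hk, w, hw, rfl⟩
    exact S.mul_mem (sup_le D.P_le D.U_le hk) (D.W₁_le hw)

theorem P_ne_bot : P ≠ ⊥ := fun h => D.selfN.2.1 (le_bot_iff.mp (h ▸ D.W₂_le))

theorem fpf_U {w : G} (hw : w ∈ W₁) (hw1 : w ≠ 1) {u : G} (hu : u ∈ U) (h : w * u = u * w) :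
    u = 1 := by
  have h2 : u ∈ W₂ := by
    rw [← D.cent w hw hw1]
    exact ⟨le_sup_right (a := P) hu, Subgroup.mem_centralizer_singleton_iff.mpr h.symm⟩
  have : u ∈ P ⊓ U := ⟨D.W₂_le h2, hu⟩
  rwa [D.inf_PU, Subgroup.mem_bot] at this

theorem mem_W₂ {w : G} (hw : w ∈ W₁) (hw1 : w ≠ 1) {x : G} (hx : x ∈ P) (h : w * x = x * w) :
    x ∈ W₂ := by
  rw [← D.cent w hw hw1]
  exact ⟨le_sup_left (b := U) hx, Subgroup.mem_centralizer_singleton_iff.mpr h.symm⟩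

theorem cpart_le : cpart P U ≤ S := inf_le_left.trans D.U_le

theorem cpart_comm {c : G} (hc : c ∈ cpart P U) {x : G} (hx : x ∈ P) : c * x = x * c :=
  (hc.2 x hx).symm

theorem hall_le : hall P U ≤ S := sup_le D.P_le D.cpart_le

theorem hall_le_PU : hall P U ≤ P ⊔ U := sup_le_sup le_rfl inf_le_left

theorem P_le_hall : P ≤ hall P U := le_sup_left

theorem cpart_le_hall : cpart P U ≤ hall P U := le_sup_right

theorem mem_hall {g : G} : g ∈ hall P U ↔ ∃ x ∈ P, ∃ c ∈ cpart P U, g = x * c := by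
  constructor
  · intro hg
    have h : g ∈ (↑(P ⊔ cpart P U) : Set G) := hg
    rw [Subgroup.coe_mul_of_right_le_normalizer_left P (cpart P U)
      (inf_le_left.trans D.U_le_normP)] at h
    obtain ⟨x, hx, u, hu, rfl⟩ := h
    exact ⟨x, hx, u, hu, rfl⟩
  · rintro ⟨x, hx, u, hu, rfl⟩
    exact (hall P U).mul_mem (D.P_le_hall hx) (D.cpart_le_hall hu)

theorem hall_comm : ∀ a ∈ hall P U, ∀ b ∈ hall P U, a * b = b * a := by
  intro a ha b hb
  obtain ⟨x, hx, c, hc, rfl⟩ := D.mem_hall.mp ha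
  obtain ⟨y, hy, d, hd, rfl⟩ := D.mem_hall.mp hb
  have h1 : Commute x y := D.P_comm x hx y hy
  have h2 : Commute c d := D.U_comm c hc.1 d hd.1
  have h3 : Commute x d := (D.cpart_comm hd hx).symm
  have h4 : Commute c y := D.cpart_comm hc hy
  exact ((h1.mul_right h3).mul_left (h4.mul_right h2)).eq

theorem conj_cpart {w : G} (hw : w ∈ W₁) {c : G} (hc : c ∈ cpart P U) :
    w * c * w⁻¹ ∈ cpart P U := by
  refine ⟨D.conjU hw hc.1, fun x hx => ?_⟩
  have h := D.cpart_comm hc (D.le_normP (S.inv_mem (D.W₁_le hw)) hx)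
  calc x * (w * c * w⁻¹) = w * ((w⁻¹ * x * w⁻¹⁻¹) * c) * w⁻¹ := by group
    _ = w * (c * (w⁻¹ * x * w⁻¹⁻¹)) * w⁻¹ := by rw [h]
    _ = w * c * w⁻¹ * x := by group

theorem normal_hall {g : G} (hg : g ∈ S) {h : G} (hh : h ∈ hall P U) :
    g * h * g⁻¹ ∈ hall P U := by
  rw [← D.norm] at hg
  exact (Subgroup.mem_normalizer_iff.mp hg h).mp hh

theorem centralizer_le {h : G} (hh : h ∈ hall P U) (h1 : h ≠ 1) :
    Subgroup.centralizer ({h} : Set G) ≤ S := by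
  intro g hg
  rw [← D.norm]
  by_contra hn
  have e : g * h * g⁻¹ = h := by
    rw [Subgroup.mem_centralizer_singleton_iff.mp hg, mul_inv_cancel_right]
  exact h1 (D.ti g hn h hh (show g * h * g⁻¹ ∈ hall P U by rw [e]; exact hh))

theorem mem_of_conj {g h : G} (hh : h ∈ hall P U) (h1 : h ≠ 1) (hg : g * h * g⁻¹ ∈ hall P U) :
    g ∈ S := by
  rw [← D.norm]
  by_contra hn
  exact h1 (D.ti g hn h hh hg)

theorem aset_conj {g : G} (hg : g ∈ S) {a : G} (ha : a ∈ aset P U) : g * a * g⁻¹ ∈ aset P U := by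
  obtain ⟨h1, h2, x, hx, hx1, h3⟩ := ha
  refine ⟨D.normal_PU hg h1, by simpa using h2, g * x * g⁻¹, D.le_normP hg hx, by simpa using hx1, ?_⟩
  calc g * a * g⁻¹ * (g * x * g⁻¹) = g * (a * x) * g⁻¹ := by group
    _ = g * (x * a) * g⁻¹ := by rw [h3]
    _ = g * x * g⁻¹ * (g * a * g⁻¹) := by group

theorem hall_subset_aset {h : G} (hh : h ∈ hall P U) (h1 : h ≠ 1) : h ∈ aset P U := by
  obtain ⟨x, hx, hx1⟩ := (Subgroup.bot_or_exists_ne_one P).resolve_left D.P_ne_bot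
  exact ⟨D.hall_le_PU hh, h1, x, hx, hx1, D.hall_comm h hh x (D.P_le_hall hx)⟩

variable [Finite G]

theorem card_PU : Nat.card ↥(P ⊔ U) = Nat.card P * Nat.card U := by
  have h : Function.Bijective (fun p : P × U => (⟨(p.1 : G) * p.2,
      (P ⊔ U).mul_mem (le_sup_left (b := U) p.1.2) (le_sup_right (a := P) p.2.2)⟩ : ↥(P ⊔ U))) := by
    constructor
    · rintro ⟨a, b⟩ ⟨a', b'⟩ e
      obtain ⟨e1, e2⟩ := D.eq_of_mul_eq a.2 a'.2 b.2 b'.2 (congrArg Subtype.val e)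
      exact Prod.ext (Subtype.ext e1) (Subtype.ext e2)
    · intro g
      obtain ⟨x, hx, u, hu, e⟩ := D.mem_PU.mp g.2
      exact ⟨(⟨x, hx⟩, ⟨u, hu⟩), Subtype.ext e.symm⟩
  rw [← Nat.card_congr (Equiv.ofBijective _ h), Nat.card_prod]

theorem card_hall : Nat.card ↥(hall P U) = Nat.card P * Nat.card ↥(cpart P U) := by
  have h : Function.Bijective (fun p : P × cpart P U => (⟨(p.1 : G) * p.2,
      (hall P U).mul_mem (D.P_le_hall p.1.2) (D.cpart_le_hall p.2.2)⟩ : ↥(hall P U))) := by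
    constructor
    · rintro ⟨a, b⟩ ⟨a', b'⟩ e
      obtain ⟨e1, e2⟩ := D.eq_of_mul_eq a.2 a'.2 b.2.1 b'.2.1 (congrArg Subtype.val e)
      exact Prod.ext (Subtype.ext e1) (Subtype.ext e2)
    · intro g
      obtain ⟨x, hx, u, hu, e⟩ := D.mem_hall.mp g.2
      exact ⟨(⟨x, hx⟩, ⟨u, hu⟩), Subtype.ext e.symm⟩
  rw [← Nat.card_congr (Equiv.ofBijective _ h), Nat.card_prod]

theorem card_S : Nat.card S = Nat.card P * Nat.card U * Nat.card W₁ := by
  have h : Function.Bijective (fun p : ↥(P ⊔ U) × W₁ => (⟨(p.1 : G) * p.2,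
      D.mem_S.mpr ⟨p.1, p.1.2, p.2, p.2.2, rfl⟩⟩ : ↥S)) := by
    constructor
    · rintro ⟨a, b⟩ ⟨a', b'⟩ e
      have e' : (a : G) * b = a' * b' := congrArg Subtype.val e
      have hm : (a' : G)⁻¹ * a ∈ (P ⊔ U) ⊓ W₁ := by
        refine ⟨(P ⊔ U).mul_mem ((P ⊔ U).inv_mem a'.2) a.2, ?_⟩
        have : (a' : G)⁻¹ * a = b' * (b : G)⁻¹ := by rw [eq_mul_inv_iff_mul_eq, mul_assoc, e']; group
        rw [this]
        exact W₁.mul_mem b'.2 (W₁.inv_mem b.2)
      rw [D.inf_W₁, Subgroup.mem_bot, inv_mul_eq_one] at hm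
      have hab : a' = a := Subtype.ext hm
      subst hab
      exact Prod.ext rfl (Subtype.ext (mul_left_cancel e'))
    · intro g
      obtain ⟨k, hk, w, hw, e⟩ := D.mem_S.mp g.2
      exact ⟨(⟨k, hk⟩, ⟨w, hw⟩), Subtype.ext e.symm⟩
  rw [← Nat.card_congr (Equiv.ofBijective _ h), Nat.card_prod, D.card_PU]

theorem exists_conj {K : Subgroup G} (hK : K ≤ P ⊔ U) (hW : W₁ ≤ Subgroup.normalizer (K : Set G))
    {k w : G} (hk : k ∈ K) (hw : w ∈ W₁) (hw1 : w ≠ 1) :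
    ∃ y ∈ K, ∃ c ∈ W₂ ⊓ K, y * (k * w) * y⁻¹ = c * w := by
  have hcop : Nat.Coprime (orderOf w) (Nat.card K) := by
    refine Nat.Coprime.coprime_dvd_left (Subgroup.orderOf_dvd_natCard W₁ hw) ?_
    refine Nat.Coprime.coprime_dvd_right (Subgroup.card_dvd_of_le hK) ?_
    rw [D.card_PU]
    exact D.coprime_P.mul_right D.coprime_U
  obtain ⟨y, hy, c, hc, hcw, e⟩ := Cfsg.Agent.Char.exists_coprime_conj K (hW hw) hcop hk
  refine ⟨y, hy, c, ⟨?_, hc⟩, e⟩
  rw [← D.cent w hw hw1]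
  exact ⟨hK hc, Subgroup.mem_centralizer_singleton_iff.mpr hcw⟩

/-- An element of `S` outside `P U` is conjugate in `S` to an element of `W₁ W₂` outside `W₂`. -/
theorem exists_conj_W {g : G} (hg : g ∈ S) (hgK : g ∉ P ⊔ U) :
    ∃ t ∈ S, ∃ c ∈ W₂, ∃ w ∈ W₁, w ≠ 1 ∧ g = t * (c * w) * t⁻¹ := by
  obtain ⟨k, hk, w, hw, rfl⟩ := D.mem_S.mp hg
  have hw1 : w ≠ 1 := fun h => hgK (by rw [h, mul_one]; exact hk)
  obtain ⟨y, hy, c, hc, e⟩ := D.exists_conj le_rfl (fun v hv => by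
    refine Subgroup.mem_normalizer_iff.mpr fun z => ⟨D.normal_PU (D.W₁_le hv), fun hz => ?_⟩
    have := D.normal_PU (S.inv_mem (D.W₁_le hv)) hz
    simpa [mul_assoc] using this) hk hw hw1
  exact ⟨y⁻¹, S.inv_mem (sup_le D.P_le D.U_le hy), c, hc.1, w, hw, hw1, by rw [← e]; group⟩

omit [Finite G] in
theorem self_le_hall_norm : S ≤ Subgroup.normalizer (hall P U : Set G) := le_of_eq D.norm.symm

end Side

end Cfsg.Agent.OddChar.P13
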