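/-
Peterfalvi section 13: a pair of subgroups of type P gives two `Side`s.
-/
import Cfsg.Agent.Lib.OddChar.P13.Side
import Cfsg.Agent.Lib.OddChar.P13.Facts
import Cfsg.Agent.S1388

set_option autoImplicit false
set_option linter.style.haveILetI false
set_option linter.unusedSectionVars false

namespace Cfsg.Agent.OddChar

universe u

/-- The two members of a pair play symmetric roles. -/
theorem IsPairP.symm {G : Type u} [Group G] {S T W₁ W₂ U V : Subgroup G}
    (h : IsPairP G S T W₁ W₂ U V) : IsPairP G T S W₂ W₁ V U :=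
  ⟨h.coatom_right, h.coatom_left, h.right, h.left, by rw [inf_comm, sup_comm]; exact h.inf_eq,
    h.typeII.symm, h.right_types, h.left_types⟩

end Cfsg.Agent.OddChar

namespace Cfsg.Agent.OddChar.P13

open OddOrder

universe u

variable {G : Type u} [Group G] [Finite G] {S W₁ U W₂ : Subgroup G}
  (hG : Cfsg.IsMinSimpleOddOrder G)
include hG

theorem pair_types (hV : NoTypeV G) (hIV : NoTypeIV G) {T V : Subgroup G}
    (h : IsPairP G S T W₁ W₂ U V) : Cfsg.IsOfTypeII S ∨ Cfsg.IsOfTypeIII S := by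
  rcases h.left_types with h1 | h1 | h1 | h1
  exacts [Or.inl h1, Or.inr h1, absurd h1 (hIV S h.coatom_left), absurd h1 (hV S h.coatom_left)]

/-- The data of one side in Type II or III. -/
theorem side_of_typeP (h3 : TypeThreeFacts G) (hpr : PairPrimes G) (hS : IsCoatom S)
    (hP : Cfsg.IsTypePWith S W₁ U W₂) (ht : Cfsg.IsOfTypeII S ∨ Cfsg.IsOfTypeIII S) :
    Side S (Cfsg.fittingHallOf S) U W₁ W₂ := by
  obtain ⟨hqp, hp⟩ := hpr S W₁ U W₂ hS hP
  set H := Cfsg.fittingHallOf S with hH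
  obtain ⟨hU, hab, hTI, hel, hcard⟩ : U ≠ ⊥ ∧ IsMulCommutative U ∧ Cfsg.IsTISubset (Cfsg.fittingOf S : Set G) ∧
      Cfsg.IsElementaryAbelian (Nat.card W₂) H ∧ Nat.card H = Nat.card W₂ ^ Nat.card W₁ := by
    rcases ht with h | h
    · obtain ⟨hU, -, hab, -, hTI, hCU⟩ := typeII_facts hG hS hP h
      exact ⟨hU, hab, hTI, elementary hP hU hCU hp, card_H hP hU hCU⟩
    · obtain ⟨hU, -, hab, -, hTI⟩ := typeIII_facts hG hS hP h
      obtain ⟨-, hel, hcard, -⟩ := h3 S W₁ U W₂ hS h hP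
      exact ⟨hU, hab, hTI, hel, hcard⟩
  haveI := hab
  haveI := hel.1
  have hsup : H ⊔ U = ⁅S, S⁆ := Compl.sup_eq hP.U_compl
  have hhall : hall H U = Cfsg.fittingOf S := (S1387.result S W₁ U W₂ hP).symm
  have hH1 : H ≠ ⊥ := fun e => hP.selfNormalizing.2.1 (le_bot_iff.1 ((W₂_le_H hP).trans e.le))
  have hI : ¬ Cfsg.IsOfTypeI S := fun hI => by
    obtain ⟨r, hr⟩ := Types.kappa_of_typeP hG hS hP
    rw [Types.typeI_kappa hG hS hI] at hr
    exact hr
  have hsub : aset H U ⊆ Cfsg.typeA0 S := by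
    rintro a ⟨ha, ha1, x, hx, hx1, hax⟩
    refine Or.inl ?_
    obtain ⟨-, hHσ, -, -, -⟩ := S1355.result hG S hS
    rw [hsup] at ha
    exact TypeA.mem_typeA hG hS (derived_le hP ha) ha1 (fun _ => ha) ⟨x, hHσ hx, hx1, hax⟩
  refine
    { odd := hG.1
      q_prime := hqp
      p_prime := hp
      selfN := hP.selfNormalizing
      P_le := FHall.fittingHallOf_le S
      U_le := U_le hP
      W₁_le := hP.W₁_compl.2.1
      gen := by rw [hsup]; exact Compl.sup_eq hP.W₁_compl
      P_normal := FHall.le_normalizer_fittingHallOf S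
      U_normal := hP.U_normal
      P_comm := fun a ha b hb => congrArg Subtype.val (mul_comm' (⟨a, ha⟩ : H) ⟨b, hb⟩)
      U_comm := fun a ha b hb => congrArg Subtype.val (mul_comm' (⟨a, ha⟩ : U) ⟨b, hb⟩)
      P_card := hcard
      coprime_PU := TypeP.coprime_H_U hP
      coprime_P := coprime_W₁_H hP
      coprime_U := (coprime_W₁_derived hP).coprime_dvd_right (Subgroup.card_dvd_of_le hP.U_compl.2.1)
      W₂_le := W₂_le_H hP
      cent := fun x hx hx1 => by rw [hsup]; exact hP.W₂_centralizer x hx hx1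
      act := (S1388.result S W₁ U W₂ hP).2 hU
      ti := by rw [hhall]; exact hTI
      norm := by
        rw [hhall]
        exact FTI.normalizer_of_normal hG hS (FitOf.fittingOf_le S)
          (fun e => hH1 (le_bot_iff.1 ((H_le_fitting hG hS hP).trans e.le)))
          (FitOf.le_normalizer_fittingOf S)
      dade := ⟨Cfsg.supportR S, TypeA.hypothesis hG hS (aset H U) hsub fun y hy a ha => ?_⟩ }
  obtain ⟨ha', ha1, x, hx, hx1, hax⟩ := ha
  refine ⟨?_, by simpa using ha1, y * x * y⁻¹,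
    (Subgroup.mem_normalizer_iff.1 (FHall.le_normalizer_fittingHallOf S hy) x).1 hx, by simpa using hx1, ?_⟩
  · rw [hsup] at ha' ⊢
    haveI : ((⁅S, S⁆ : Subgroup G).subgroupOf S).Normal := by
      rw [Subgroup.subgroupOf, show (⁅S, S⁆ : Subgroup G) = (commutator S).map S.subtype from
        (Subgroup.map_subtype_commutator S).symm, Subgroup.comap_map_eq_self_of_injective S.subtype_injective]
      infer_instance
    exact Subgroup.mem_subgroupOf.1 ((inferInstance : ((⁅S, S⁆ : Subgroup G).subgroupOf S).Normal).conj_mem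
      ⟨a, derived_le hP ha'⟩ ha' ⟨y, hy⟩)
  · calc y * a * y⁻¹ * (y * x * y⁻¹) = y * (a * x) * y⁻¹ := by group
      _ = y * (x * a) * y⁻¹ := by rw [hax]
      _ = y * x * y⁻¹ * (y * a * y⁻¹) := by group

theorem side_of_pair (hV : NoTypeV G) (hIV : NoTypeIV G) (h3 : TypeThreeFacts G) (hpr : PairPrimes G)
    {T V : Subgroup G} (h : IsPairP G S T W₁ W₂ U V) : Side S (Cfsg.fittingHallOf S) U W₁ W₂ :=
  side_of_typeP hG h3 hpr h.coatom_left h.left (pair_types hG hV hIV h)

theorem side_of_pair' (hV : NoTypeV G) (hIV : NoTypeIV G) (h3 : TypeThreeFacts G) (hpr : PairPrimes G)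
    {T V : Subgroup G} (h : IsPairP G S T W₁ W₂ U V) : Side T (Cfsg.fittingHallOf T) V W₂ W₁ :=
  side_of_pair hG hV hIV h3 hpr h.symm

/-- `C = C_U(H) ≠ 1` is not a Hall subgroup of `U`: otherwise `N(U) ≤ N(C) ≤ S`. -/
theorem not_coprime_cpart (h3 : TypeThreeFacts G) (hS : IsCoatom S)
    (hP : Cfsg.IsTypePWith S W₁ U W₂) (ht : Cfsg.IsOfTypeII S ∨ Cfsg.IsOfTypeIII S)
    (hC : cpart (Cfsg.fittingHallOf S) U ≠ ⊥) :
    ¬ (Nat.card ↥(cpart (Cfsg.fittingHallOf S) U)).Coprime ((cpart (Cfsg.fittingHallOf S) U).relIndex U) := by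
  set H := Cfsg.fittingHallOf S with hH
  set C := cpart H U with hCdef
  rcases ht with h | h
  · intro hcop
    obtain ⟨-, -, hab, hN, hTI, -⟩ := typeII_facts hG hS hP h
    haveI := hab
    have hCF : C ≤ Cfsg.fittingOf S := le_sup_right.trans (S1387.result S W₁ U W₂ hP).ge
    haveI : (C.subgroupOf U).Normal := inferInstance
    refine hN fun g hg => ?_
    by_contra hgS
    obtain ⟨c, hc, hc1⟩ := (Subgroup.bot_or_exists_ne_one C).resolve_left hC
    refine hc1 (hTI g (fun hn => hgS ?_) c (hCF hc) (hCF ?_))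
    · rwa [FTI.normalizer_of_normal hG hS (FitOf.fittingOf_le S)
        (fun e => hc1 (Subgroup.mem_bot.1 (e.le (hCF hc)))) (FitOf.le_normalizer_fittingOf S)] at hn
    · have hgc : g * c * g⁻¹ ∈ U := (Subgroup.mem_normalizer_iff.1 hg c).1 hc.1
      refine Subgroup.mem_subgroupOf.1 (Exceptional.le_of_coprime_index (N := C.subgroupOf U)
        (X := Subgroup.zpowers (⟨g * c * g⁻¹, hgc⟩ : U)) ?_ (Subgroup.mem_zpowers _))
      rw [Nat.card_zpowers, Subgroup.orderOf_mk]
      refine hcop.coprime_dvd_left ?_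
      rw [show g * c * g⁻¹ = MulAut.conj g c from rfl, MulEquiv.orderOf_eq]
      exact Subgroup.orderOf_dvd_natCard C hc
  · obtain ⟨-, -, -, hC'⟩ := h3 S W₁ U W₂ hS h hP
    exact absurd hC' hC

theorem not_coprime_of_pair (hV : NoTypeV G) (hIV : NoTypeIV G) (h3 : TypeThreeFacts G)
    {T V : Subgroup G} (h : IsPairP G S T W₁ W₂ U V) (hC : cpart (Cfsg.fittingHallOf S) U ≠ ⊥) :
    ¬ (Nat.card ↥(cpart (Cfsg.fittingHallOf S) U)).Coprime ((cpart (Cfsg.fittingHallOf S) U).relIndex U) :=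
  not_coprime_cpart hG h3 h.coatom_left h.left (pair_types hG hV hIV h) hC

end Cfsg.Agent.OddChar.P13
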