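/-
Peterfalvi section 13: `N(W₁) = C(W₁) = T_F W₂` (S1548), given `C_V(T_F) = 1`.
-/
import Cfsg.Agent.Lib.OddChar.P13.OfPair

set_option autoImplicit false
set_option linter.style.haveILetI false
set_option linter.unusedSectionVars false

namespace Cfsg.Agent.OddChar.P13

open OddOrder

universe u

variable {G : Type u} [Group G] [Finite G] {S W₁ U W₂ : Subgroup G}
  (hG : Cfsg.IsMinSimpleOddOrder G)
include hG

/-- The normaliser of `W₂`, seen from the side whose `H` contains it. -/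
theorem normalizer_W₂ (hS : IsCoatom S) (hP : Cfsg.IsTypePWith S W₁ U W₂) (hU : U ≠ ⊥)
    (hab : IsMulCommutative U) (hH : IsMulCommutative (Cfsg.fittingHallOf S))
    (hTI : Cfsg.IsTISubset (Cfsg.fittingOf S : Set G)) (hp : (Nat.card W₂).Prime)
    (hCU : Cfsg.fittingHallOf S ⊓ Subgroup.centralizer (U : Set G) = ⊥)
    (hC : U ⊓ Subgroup.centralizer (Cfsg.fittingHallOf S : Set G) = ⊥) :
    Subgroup.normalizer (W₂ : Set G) = Subgroup.centralizer (W₂ : Set G) ∧
      Subgroup.centralizer (W₂ : Set G) = Cfsg.fittingHallOf S ⊔ W₁ := by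
  haveI := hab
  haveI := hH
  set H := Cfsg.fittingHallOf S with hHdef
  have hW2H : W₂ ≤ H := W₂_le_H hP
  have hHc : H ≤ Subgroup.centralizer (W₂ : Set G) :=
    (Subgroup.le_centralizer H).trans (Subgroup.centralizer_le hW2H)
  have hWc : W₁ ≤ Subgroup.centralizer (W₂ : Set G) :=
    Subgroup.le_centralizer_iff.1 (W₂_le_centralizer hP)
  obtain ⟨x, hx, hx1⟩ := (Subgroup.bot_or_exists_ne_one W₂).resolve_left hP.selfNormalizing.2.1
  have hxF : x ∈ Cfsg.fittingOf S := H_le_fitting hG hS hP (hW2H hx)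
  have hNS : Subgroup.normalizer (W₂ : Set G) ≤ S := by
    intro g hg
    by_contra hgS
    refine hx1 (hTI g (fun hn => hgS ?_) x hxF
      (H_le_fitting hG hS hP (hW2H ((Subgroup.mem_normalizer_iff.1 hg x).1 hx))))
    rwa [FTI.normalizer_of_normal hG hS (FitOf.fittingOf_le S)
      (fun e => hx1 (Subgroup.mem_bot.1 (e.le hxF))) (FitOf.le_normalizer_fittingOf S)] at hn
  -- `C_U(W₂) = 1`
  set U₁ := U ⊓ Subgroup.centralizer (W₂ : Set G) with hU₁
  have hU₁C : U₁ = ⊥ := by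
    have hn : U ⊔ W₁ ≤ Subgroup.normalizer (U₁ : Set G) := by
      refine sup_le ?_ (FitOf.le_normalizer_inf hP.U_normal ((hWc.trans
        (Subgroup.centralizer_le_normalizer _)).trans (FitOf.normalizer_le_normalizer_centralizer _)))
      exact ((Subgroup.le_centralizer U).trans (Subgroup.centralizer_le inf_le_left)).trans
        (Subgroup.centralizer_le_normalizer _)
    have hW2X : W₂ ≤ H ⊓ Subgroup.centralizer (U₁ : Set G) :=
      le_inf hW2H (Subgroup.le_centralizer_iff.1 inf_le_right)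
    have hX : H ⊓ Subgroup.centralizer (U₁ : Set G) = H :=
      (invariant_cases hP hU hCU hp inf_le_left (FitOf.le_normalizer_inf (UW_le_normalizer hP)
        (hn.trans (FitOf.normalizer_le_normalizer_centralizer _)))).resolve_left fun e =>
          hP.selfNormalizing.2.1 (le_bot_iff.1 (hW2X.trans e.le))
    rw [← le_bot_iff, ← hC]
    exact le_inf inf_le_left (Subgroup.le_centralizer_iff.1 (inf_eq_left.1 hX))
  obtain ⟨w, hw, hw1⟩ := (Subgroup.bot_or_exists_ne_one W₁).resolve_left hP.W₁_ne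
  have hUN : ∀ v ∈ U, v ∈ Subgroup.normalizer (W₂ : Set G) → v = 1 := by
    intro v hv hvN
    refine fpf hP hw hw1 hv ?_
    have hc : w * v * w⁻¹ * v⁻¹ ∈ U₁ := by
      refine ⟨U.mul_mem ((Subgroup.mem_normalizer_iff.1 (hP.U_normal hw) v).1 hv) (U.inv_mem hv),
        Subgroup.mem_centralizer_iff.2 fun y hy => ?_⟩
      have hy' : v⁻¹ * y * v⁻¹⁻¹ ∈ W₂ := (Subgroup.mem_normalizer_iff.1 (inv_mem hvN) y).1 hy
      have h1 : w * (v⁻¹ * y * v⁻¹⁻¹) = v⁻¹ * y * v⁻¹⁻¹ * w :=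
        (Subgroup.mem_centralizer_iff.1 (hWc hw) _ hy').symm
      have h2 : w * y = y * w := (Subgroup.mem_centralizer_iff.1 (hWc hw) y hy).symm
      have h3 : w * v * w⁻¹ * v⁻¹ * y * (w * v * w⁻¹ * v⁻¹)⁻¹ = y := by
        calc w * v * w⁻¹ * v⁻¹ * y * (w * v * w⁻¹ * v⁻¹)⁻¹
            = w * v * (w⁻¹ * ((v⁻¹ * y * v⁻¹⁻¹) * w)) * v⁻¹ * w⁻¹ := by group
          _ = w * v * (w⁻¹ * (w * (v⁻¹ * y * v⁻¹⁻¹))) * v⁻¹ * w⁻¹ := by rw [h1]
          _ = w * y * w⁻¹ := by group
          _ = y := by rw [h2, mul_inv_cancel_right]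
      exact (mul_inv_eq_iff_eq_mul.1 h3).symm
    rw [hU₁C, Subgroup.mem_bot] at hc
    exact mul_inv_eq_iff_eq_mul.1 (mul_inv_eq_one.1 hc)
  have hle : Subgroup.normalizer (W₂ : Set G) ≤ H ⊔ W₁ := by
    intro g hg
    obtain ⟨d, hd, a, ha, rfl⟩ := hP.W₁_compl.2.2.2 g (hNS hg)
    obtain ⟨h, hh, v, hv, rfl⟩ := hP.U_compl.2.2.2 d hd
    have hhN := Subgroup.centralizer_le_normalizer _ (hHc hh)
    have haN := Subgroup.centralizer_le_normalizer _ (hWc ha)
    have hvN : v ∈ Subgroup.normalizer (W₂ : Set G) := by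
      have := mul_mem (mul_mem (inv_mem hhN) hg) (inv_mem haN)
      simpa [mul_assoc] using this
    rw [hUN v hv hvN, mul_one]
    exact mul_mem (Subgroup.mem_sup_left hh) (Subgroup.mem_sup_right ha)
  exact ⟨le_antisymm (hle.trans (sup_le hHc hWc)) (Subgroup.centralizer_le_normalizer _),
    le_antisymm ((Subgroup.centralizer_le_normalizer _).trans hle) (sup_le hHc hWc)⟩

/-- S1548 from the earlier results. -/
theorem pairNormalizer (hV : NoTypeV G) (hIV : NoTypeIV G) (h3 : TypeThreeFacts G) (hpr : PairPrimes G)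
    (hct : PairCentralizerTrivial G) : PairNormalizer G := by
  intro S T W₁ W₂ U V h
  have hT := h.coatom_right
  have hq := (hpr T W₂ V W₁ hT h.right).2
  have hC := hct T S W₂ W₁ V U h.symm
  obtain ⟨hab, hTI, hV1, hel, hCU⟩ : IsMulCommutative V ∧ Cfsg.IsTISubset (Cfsg.fittingOf T : Set G) ∧ V ≠ ⊥ ∧
      Cfsg.IsElementaryAbelian (Nat.card W₁) (Cfsg.fittingHallOf T) ∧
      Cfsg.fittingHallOf T ⊓ Subgroup.centralizer (V : Set G) = ⊥ := by
    rcases pair_types hG hV hIV h.symm with h' | h'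
    · obtain ⟨hU, -, hab, -, hTI, hCU⟩ := typeII_facts hG hT h.right h'
      exact ⟨hab, hTI, hU, elementary h.right hU hCU hq, hCU⟩
    · obtain ⟨hU, -, hab, -, hTI⟩ := typeIII_facts hG hT h.right h'
      obtain ⟨-, hel, hcard, hC'⟩ := h3 T W₂ V W₁ hT h' h.right
      exact ⟨hab, hTI, hU, hel, H_inf_centralizer_U h.right hU hq hcard hC'⟩
  exact normalizer_W₂ hG hT h.right hV1 hab hel.1 hTI hq hCU hC

end Cfsg.Agent.OddChar.P13
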