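/-
Peterfalvi section 13: the arithmetic contradiction from the inequality when `C ≠ 1`.
-/
import Mathlib.Data.Real.Basic
import Mathlib.Data.Nat.Prime.Basic
import Mathlib.Tactic

set_option autoImplicit false

namespace Cfsg.Agent.OddChar.P13

theorem two_mul_succ_le {a m : ℕ} (hm : Odd m) (ha : Odd a) (h : a % m = 1) (h1 : a ≠ 1) :
    2 * m + 1 ≤ a := by
  obtain ⟨i, hi⟩ := ha
  obtain ⟨j, hj⟩ := hm
  have h2 := Nat.div_add_mod a m
  rw [h] at h2
  rcases Nat.lt_or_ge (a / m) 2 with h3 | h3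
  · interval_cases hq : a / m <;> simp at h2 <;> omega
  · have := Nat.mul_le_mul_left m h3
    omega

/-- The inequality after inserting `u (p - 1) ≤ p ^ q - 1` and the bounds on `v`. -/
theorem chain {p q n c u v K : ℝ} (hp : 3 ≤ p) (hq : 3 ≤ q) (hn : 1 < n) (hc : 0 ≤ c)
    (hu : u * (p - 1) ≤ n - 1) (hv : 2 * p + 1 ≤ v) (hvK : v * (q - 1) ≤ K - 1) (hK : 100 ≤ K)
    (h : (v - 1) * (K - v - 1) * (c * (n - 1)) ≤ q * u * (K * v * p)) :
    198 * c * (p - 1) * (q - 2) ≤ 100 * q * (q - 1) * (2 * p + 1) := by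
  have hv0 : 0 < v := by linarith
  have hK0 : 0 < K := by linarith
  have h1 : (v - 1) * (K - v - 1) * c * (p - 1) ≤ q * (K * v * p) := by
    refine le_of_mul_le_mul_right (a := n - 1) ?_ (by linarith)
    calc (v - 1) * (K - v - 1) * c * (p - 1) * (n - 1)
        = (v - 1) * (K - v - 1) * (c * (n - 1)) * (p - 1) := by ring
      _ ≤ q * u * (K * v * p) * (p - 1) := mul_le_mul_of_nonneg_right h (by linarith)
      _ = q * (K * v * p) * (u * (p - 1)) := by ring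
      _ ≤ q * (K * v * p) * (n - 1) := mul_le_mul_of_nonneg_left hu (by positivity)
  have h2 : 2 * p * v ≤ (2 * p + 1) * (v - 1) := by nlinarith
  have h3 : (q - 2) * (99 * K) ≤ 100 * ((q - 1) * (K - v - 1)) := by
    have e : (q - 2) * (K - 1) ≤ (q - 1) * (K - v - 1) := by nlinarith
    nlinarith [mul_nonneg (by linarith : (0 : ℝ) ≤ q - 2) (by linarith : (0 : ℝ) ≤ K - 100)]
  have h4 : 2 * p * v * ((q - 2) * (99 * K)) ≤
      (2 * p + 1) * (v - 1) * (100 * ((q - 1) * (K - v - 1))) :=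
    mul_le_mul h2 h3 (mul_nonneg (by linarith) (by linarith))
      (mul_nonneg (by linarith) (by linarith))
  refine le_of_mul_le_mul_right (a := p * v * K) ?_ (by positivity)
  calc 198 * c * (p - 1) * (q - 2) * (p * v * K)
      = 2 * p * v * ((q - 2) * (99 * K)) * (c * (p - 1)) := by ring
    _ ≤ (2 * p + 1) * (v - 1) * (100 * ((q - 1) * (K - v - 1))) * (c * (p - 1)) :=
        mul_le_mul_of_nonneg_right h4 (mul_nonneg hc (by linarith))
    _ = 100 * (2 * p + 1) * (q - 1) * ((v - 1) * (K - v - 1) * c * (p - 1)) := by ring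
    _ ≤ 100 * (2 * p + 1) * (q - 1) * (q * (K * v * p)) :=
        mul_le_mul_of_nonneg_left h1 (mul_nonneg (by linarith) (by linarith))
    _ = 100 * q * (q - 1) * (2 * p + 1) * (p * v * K) := by ring

theorem hundred_le {p q : ℕ} (hp : 3 ≤ p) (hq : 3 ≤ q) (hpp : p.Prime) (hqp : q.Prime) (hne : p ≠ q) :
    100 ≤ q ^ p := by
  by_cases hq5 : 5 ≤ q
  · calc 100 ≤ 5 ^ 3 := by norm_num
      _ ≤ q ^ 3 := Nat.pow_le_pow_left hq5 3
      _ ≤ q ^ p := Nat.pow_le_pow_right (by omega) hp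
  · have hp5 : 5 ≤ p := by
      by_contra hc
      have h1 := hpp.eq_two_or_odd
      have h2 := hqp.eq_two_or_odd
      interval_cases p <;> interval_cases q <;> omega
    calc 100 ≤ 3 ^ 5 := by norm_num
      _ ≤ q ^ 5 := Nat.pow_le_pow_left hq 5
      _ ≤ q ^ p := Nat.pow_le_pow_right (by omega) hp5

theorem arith {p q c u v K : ℕ} (hp : p.Prime) (hq : q.Prime) (hpo : Odd p) (hqo : Odd q)
    (hne : p ≠ q) (hKle : q ^ p ≤ K) (hc : Odd c) (hcq : c % q = 1) (hc1 : c ≠ 1)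
    (hu : Odd u) (huq : u % q = 1) (hub : u * (p - 1) ≤ p ^ q - 1) (hcu : ¬ c.Coprime u)
    (hv : Odd v) (hvp : v % p = 1) (hv1 : v ≠ 1) (hvb : v * (q - 1) ≤ q ^ p - 1)
    (h : ((v : ℝ) - 1) * ((K : ℝ) - v - 1) * ((c : ℝ) * (((p ^ q : ℕ) : ℝ) - 1)) ≤
      (q : ℝ) * u * ((K : ℝ) * v * p)) : False := by
  obtain ⟨i, hi⟩ := hpo
  obtain ⟨j, hj⟩ := hqo
  have hp3 : 3 ≤ p := by have := hp.two_le; omega
  have hq3 : 3 ≤ q := by have := hq.two_le; omega
  have hc2 := two_mul_succ_le ⟨j, hj⟩ hc hcq hc1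
  have hv2 := two_mul_succ_le ⟨i, hi⟩ hv hvp hv1
  have hK100 := (hundred_le hp3 hq3 hp hq hne).trans hKle
  have hn1 : 2 ≤ p ^ q := le_trans (by omega) (Nat.le_self_pow (by omega) p)
  have hq1 : 1 ≤ q ^ p := Nat.one_le_pow _ _ (by omega)
  have hubR : (u : ℝ) * ((p : ℝ) - 1) ≤ ((p ^ q : ℕ) : ℝ) - 1 := by
    have : ((u * (p - 1) : ℕ) : ℝ) ≤ ((p ^ q - 1 : ℕ) : ℝ) := by exact_mod_cast hub
    rwa [Nat.cast_mul, Nat.cast_sub (by omega : 1 ≤ p), Nat.cast_sub (by omega : 1 ≤ p ^ q),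
      Nat.cast_one] at this
  have hvbR : (v : ℝ) * ((q : ℝ) - 1) ≤ (K : ℝ) - 1 := by
    have : ((v * (q - 1) : ℕ) : ℝ) ≤ ((K - 1 : ℕ) : ℝ) := by
      exact_mod_cast hvb.trans (Nat.sub_le_sub_right hKle 1)
    rwa [Nat.cast_mul, Nat.cast_sub (by omega : 1 ≤ q), Nat.cast_sub (by omega : 1 ≤ K),
      Nat.cast_one] at this
  have hpR : (3 : ℝ) ≤ p := by exact_mod_cast hp3
  have hqR : (3 : ℝ) ≤ q := by exact_mod_cast hq3
  have hvR : 2 * (p : ℝ) + 1 ≤ v := by exact_mod_cast hv2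
  have hcR : 2 * (q : ℝ) + 1 ≤ c := by exact_mod_cast hc2
  have hn2 : (1 : ℝ) < ((p ^ q : ℕ) : ℝ) := by exact_mod_cast hn1
  have key := chain hpR hqR hn2 (Nat.cast_nonneg c) hubR hvR hvbR (by exact_mod_cast hK100) h
  have hmono : ∀ c₀ : ℝ, c₀ ≤ c →
      198 * c₀ * ((p : ℝ) - 1) * ((q : ℝ) - 2) ≤ 100 * q * (q - 1) * (2 * p + 1) := fun c₀ hc₀ =>
    le_trans (by
      refine mul_le_mul_of_nonneg_right (mul_le_mul_of_nonneg_right ?_ ?_) ?_ <;> linarith) key
  by_cases hq7 : 7 ≤ q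
  · have hq7R : (7 : ℝ) ≤ q := by exact_mod_cast hq7
    have k1 := hmono _ hcR
    have k2 : 100 * (q : ℝ) * (q - 1) * (2 * p + 1) ≤ 350 * q * (q - 1) * (p - 1) := by
      nlinarith [mul_nonneg (mul_nonneg (by linarith : (0 : ℝ) ≤ (q : ℝ)) (by linarith : (0 : ℝ) ≤ (q : ℝ) - 1))
        (by linarith : (0 : ℝ) ≤ (p : ℝ) - 3)]
    have k3 : 198 * (2 * (q : ℝ) + 1) * ((q : ℝ) - 2) ≤ 350 * q * (q - 1) := by
      refine le_of_mul_le_mul_right (a := (p : ℝ) - 1) ?_ (by linarith)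
      linarith
    nlinarith
  have hq35 : q = 3 ∨ q = 5 := by
    interval_cases q <;> omega
  rcases hq35 with rfl | rfl
  · -- `q = 3`
    have hp57 : p = 5 ∨ p = 7 := by
      by_contra hc'
      push Not at hc'
      have hp9 : p ≠ 9 := fun e => by rw [e] at hp; norm_num at hp
      have hp11 : (11 : ℝ) ≤ p := by exact_mod_cast (show 11 ≤ p by omega)
      have := hmono _ hcR
      norm_num at this
      linarith
    have hc7 : c = 7 := by
      by_contra hc'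
      obtain ⟨k, hk⟩ := hc
      have hc13 : (13 : ℝ) ≤ c := by exact_mod_cast (show 13 ≤ c by omega)
      have := hmono _ hc13
      norm_num at this
      linarith
    subst hc7
    have h7u : 7 ∣ u := by
      by_contra hd
      exact hcu ((Nat.Prime.coprime_iff_not_dvd (by norm_num)).mpr hd)
    obtain ⟨w, rfl⟩ := h7u
    obtain ⟨k, hk⟩ := hu
    have hvR' : (11 : ℝ) ≤ v ∧ (v : ℝ) * 2 ≤ (K : ℝ) - 1 := by
      refine ⟨?_, by norm_num at hvbR; linarith⟩
      exact_mod_cast (show 11 ≤ v by omega)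
    obtain ⟨hv11, hvK⟩ := hvR'
    have hK2 : ((K : ℝ) - 1) / 2 ≤ (K : ℝ) - v - 1 := by linarith
    have hv10 : 10 / 11 * (v : ℝ) ≤ (v : ℝ) - 1 := by linarith
    have hprod : 10 / 11 * (v : ℝ) * (((K : ℝ) - 1) / 2) ≤ ((v : ℝ) - 1) * ((K : ℝ) - v - 1) :=
      mul_le_mul hv10 hK2 (by linarith) (by linarith)
    rcases hp57 with rfl | rfl
    · have hw : w = 1 := by
        norm_num at hub
        have : w ≤ 4 := by omega
        interval_cases w <;> omega
      subst hw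
      have hK243 : (243 : ℝ) ≤ K := by exact_mod_cast hKle
      norm_num at h
      nlinarith [mul_nonneg (by linarith : (0 : ℝ) ≤ (v : ℝ)) (by linarith : (0 : ℝ) ≤ (K : ℝ) - 243)]
    · have hw : (w : ℝ) ≤ 7 := by
        norm_num at hub
        have : w ≤ 8 := by omega
        exact_mod_cast (show w ≤ 7 by omega)
      have hK243 : (2187 : ℝ) ≤ K := by exact_mod_cast hKle
      have hv15 : (15 : ℝ) ≤ v := by exact_mod_cast (show 15 ≤ v by omega)
      have hv14 : 14 / 15 * (v : ℝ) ≤ (v : ℝ) - 1 := by linarith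
      have hprod' : 14 / 15 * (v : ℝ) * (((K : ℝ) - 1) / 2) ≤ ((v : ℝ) - 1) * ((K : ℝ) - v - 1) :=
        mul_le_mul hv14 hK2 (by linarith) (by linarith)
      norm_num at h
      nlinarith [mul_nonneg (by linarith : (0 : ℝ) ≤ (v : ℝ)) (by linarith : (0 : ℝ) ≤ (K : ℝ) - 2187),
        mul_nonneg (mul_nonneg (by linarith : (0 : ℝ) ≤ (K : ℝ)) (by linarith : (0 : ℝ) ≤ (v : ℝ)))
          (by linarith : (0 : ℝ) ≤ 7 - (w : ℝ))]
  · -- `q = 5`
    have hp' : p = 3 := by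
      by_contra hc'
      have hp5R : (5 : ℝ) ≤ p := by exact_mod_cast (show 5 ≤ p by omega)
      have := hmono _ hcR
      norm_num at this
      linarith
    subst hp'
    norm_num at hvb hub hKle
    have hv7 : (7 : ℝ) ≤ v ∧ (v : ℝ) ≤ 31 := by
      refine ⟨?_, ?_⟩
      · exact_mod_cast (show 7 ≤ v by omega)
      · exact_mod_cast (show v ≤ 31 by omega)
    obtain ⟨hv7, hv31⟩ := hv7
    have hu121 : (u : ℝ) ≤ 121 := by exact_mod_cast (show u ≤ 121 by omega)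
    have hK125 : (125 : ℝ) ≤ K := by exact_mod_cast hKle
    have hc11 : (11 : ℝ) ≤ c := by exact_mod_cast hc2
    have hX : (0 : ℝ) ≤ ((v : ℝ) - 1) * ((K : ℝ) - v - 1) :=
      mul_nonneg (by linarith) (by linarith)
    have h1 : ((v : ℝ) - 1) * ((K : ℝ) - v - 1) * (11 * 242) ≤ 5 * 121 * ((K : ℝ) * v * 3) := by
      norm_num at h
      calc ((v : ℝ) - 1) * ((K : ℝ) - v - 1) * (11 * 242)
          ≤ ((v : ℝ) - 1) * ((K : ℝ) - v - 1) * ((c : ℝ) * 242) :=
            mul_le_mul_of_nonneg_left (by linarith) hX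
        _ ≤ 5 * (u : ℝ) * ((K : ℝ) * v * 3) := by linarith
        _ ≤ _ := by
            refine mul_le_mul_of_nonneg_right ?_ (by positivity)
            linarith
    have h2 : (K : ℝ) * (7 * v - 22) ≤ 22 * ((v : ℝ) ^ 2 - 1) := by linarith
    have h3 : 125 * (7 * (v : ℝ) - 22) ≤ (K : ℝ) * (7 * v - 22) :=
      mul_le_mul_of_nonneg_right hK125 (by linarith)
    have h4 : 0 ≤ ((v : ℝ) - 7) * (31 - v) := mul_nonneg (by linarith) (by linarith)
    linarith

end Cfsg.Agent.OddChar.P13
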