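/-
Peterfalvi section 13: the family `η` attached to the cyclic TI-subgroup `W₁ W₂`, indexed by pairs
of characters of the factors so that the two factors play symmetric roles.
-/
import Cfsg.Agent.Lib.Char.CyclicTI.Exist
import Cfsg.Agent.S1502

set_option autoImplicit false
set_option linter.unusedSectionVars false
set_option linter.style.haveILetI false

namespace Cfsg.Agent.OddChar.P13

open scoped ComplexConjugate
open Cfsg.Agent.Char Cfsg.Agent.Char.CyclicTI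

universe u

variable {G : Type u} [Group G] [Fintype G]

/-- The properties of the family `η` which section 13 uses. -/
structure Fam (W₁ W₂ : Subgroup G) (η : (W₁ →* ℂˣ) → (W₂ →* ℂˣ) → G → ℂ) : Prop where
  sign : ∀ a b, SignIrr (η a b)
  orth : ∀ a b a' b', (a = a' ∧ b = b') ∨ Cfsg.classInner (η a b) (η a' b') = 0
  norm : ∀ a b, Cfsg.classInner (η a b) (η a b) = 1
  one : η 1 1 = fun _ => 1
  value : ∀ (a : W₁ →* ℂˣ) (b : W₂ →* ℂˣ) (x : W₁) (y : W₂), x ≠ 1 → y ≠ 1 →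
    η a b ((x : G) * y) = (a x : ℂ) * (b y : ℂ)
  grid : ∀ θ : G → ℂ, Cfsg.IsClassFunction G θ →
    (∀ (x : W₁) (y : W₂), x ≠ 1 → y ≠ 1 → θ ((x : G) * y) = 0) →
    ∀ a b, Cfsg.classInner θ (η a b) =
      Cfsg.classInner θ (η a 1) + Cfsg.classInner θ (η 1 b) - Cfsg.classInner θ (η 1 1)
  ind : ∀ (a : W₁ →* ℂˣ) (b : W₂ →* ℂˣ) (f : G → ℂ),
    (∀ (x : W₁) (y : W₂), f ((x : G) * y) = (1 - (a x : ℂ)) * (1 - (b y : ℂ))) →
    (∀ g : G, (∀ (x : W₁) (y : W₂), g ≠ (x : G) * y) → f g = 0) →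
    ∀ g : G, ((Nat.card W₁ : ℂ) * (Nat.card W₂ : ℂ))⁻¹ * ∑ x : G, f (x⁻¹ * g * x) =
      1 - η a 1 g - η 1 b g + η a b g
  gal₁ : ∀ a a' : W₁ →* ℂˣ, (Nat.card W₁).Prime → a ≠ 1 → a' ≠ 1 → ∀ g,
    η a 1 g = 0 → η a' 1 g = 0
  gal₂ : ∀ b b' : W₂ →* ℂˣ, (Nat.card W₂).Prime → b ≠ 1 → b' ≠ 1 → ∀ g,
    η 1 b g = 0 → η 1 b' g = 0

theorem selfN_swap {W₁ W₂ : Subgroup G} (h : Cfsg.IsSelfNormalizingCyclic W₁ W₂) :
    Cfsg.IsSelfNormalizingCyclic W₂ W₁ := by
  obtain ⟨h1, h2, h3, h4, h5, h6⟩ := h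
  refine ⟨h2, h1, inf_comm W₂ W₁ ▸ h3, fun a ha b hb => (h4 b hb a ha).symm, sup_comm W₂ W₁ ▸ h5,
    fun X hX hne => ?_⟩
  rw [sup_comm]
  refine h6 X ?_ hne
  rwa [Set.union_comm, sup_comm]

variable {W₁ W₂ : Subgroup G} {η : (W₁ →* ℂˣ) → (W₂ →* ℂˣ) → G → ℂ}

theorem Fam.swap (hW : Cfsg.IsSelfNormalizingCyclic W₁ W₂) (F : Fam W₁ W₂ η) :
    Fam W₂ W₁ (fun b a => η a b) where
  sign b a := F.sign a b
  orth b a b' a' := (F.orth a b a' b').imp And.symm id
  norm b a := F.norm a b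
  one := F.one
  value b a y x hy hx := by
    rw [← hW.2.2.2.1 x x.2 y y.2, F.value a b x y hx hy, mul_comm]
  grid θ hθ h b a := by
    rw [F.grid θ hθ (fun x y hx hy => by rw [hW.2.2.2.1 x x.2 y y.2]; exact h y x hy hx) a b]
    ring
  ind b a f hf hf0 g := by
    rw [mul_comm (Nat.card W₂ : ℂ), F.ind a b f (fun x y => by
        rw [hW.2.2.2.1 x x.2 y y.2, hf y x, mul_comm])
      (fun g hg => hf0 g fun y x e => hg x y (by rw [e, hW.2.2.2.1 x x.2 y y.2])) g]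
    ring
  gal₁ := F.gal₂
  gal₂ := F.gal₁

theorem exists_galois_power {W : Subgroup G} [IsMulCommutative W] (hW : (Nat.card W).Prime)
    {a a' : W →* ℂˣ} (ha : a ≠ 1) (ha' : a' ≠ 1) :
    ∃ σ : ℂ ≃+* ℂ, ∀ x : W, σ (a x : ℂ) = (a' x : ℂ) := by
  haveI : Fact (Nat.card W).Prime := ⟨hW⟩
  haveI := finite_dual W
  obtain ⟨j, hj⟩ := mem_powers_iff_mem_zpowers.mpr
    (mem_zpowers_of_prime_card (g := a) (g' := a') (card_hom (H := W)) ha)
  have hj' : a ^ j = a' := hj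
  have hjq : Nat.Coprime j (Nat.card W) := by
    rw [Nat.coprime_comm, hW.coprime_iff_not_dvd]
    rintro ⟨m, rfl⟩
    refine ha' (hj'.symm.trans (MonoidHom.ext fun x => ?_))
    rw [MonoidHom.pow_apply, pow_mul, ← map_pow, pow_card_eq_one', map_one, one_pow]
    rfl
  haveI : NeZero (Nat.card G) := ⟨Nat.card_pos.ne'⟩
  obtain ⟨v, hv⟩ := ZMod.unitsMap_surjective (Subgroup.card_subgroup_dvd_card W)
    (ZMod.unitOfCoprime j hjq)
  have hk : ((v : ZMod (Nat.card G)).val).Coprime (Nat.card G) := ZMod.val_coe_unit_coprime v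
  have hmod : (v : ZMod (Nat.card G)).val ≡ j [MOD Nat.card W] := by
    rw [← ZMod.natCast_eq_natCast_iff]
    have := congrArg Units.val hv
    rw [ZMod.unitsMap_val, ZMod.coe_unitOfCoprime, ZMod.cast_eq_val] at this
    exact this
  obtain ⟨σ, hσ⟩ := CharGalois.exists_galoisAut (Nat.card_pos (α := G)).ne' hk
  refine ⟨σ, fun x => ?_⟩
  have hq : (a x : ℂ) ^ Nat.card W = 1 := by
    rw [← Units.val_pow_eq_pow_val, ← map_pow, pow_card_eq_one', map_one, Units.val_one]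
  rw [hσ _ (by
    obtain ⟨m, hm⟩ := Subgroup.card_subgroup_dvd_card W
    rw [hm, pow_mul, hq, one_pow]), pow_eq_pow_mod _ hq, hmod, ← pow_eq_pow_mod _ hq,
    ← Units.val_pow_eq_pow_val, ← MonoidHom.pow_apply, hj']

theorem exists_fam (hW : Cfsg.IsSelfNormalizingCyclic W₁ W₂) (hodd : Odd (Nat.card G)) :
    ∃ η : (W₁ →* ℂˣ) → (W₂ →* ℂˣ) → G → ℂ, Fam W₁ W₂ η := by
  classical
  have hoddW : Odd (Nat.card ↥(W₁ ⊔ W₂)) :=
    hodd.of_dvd_nat (Subgroup.card_subgroup_dvd_card _)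
  obtain ⟨χ, hχ⟩ := Cfsg.Agent.S1502.result W₁ W₂ hW hoddW
  haveI : Fintype ↥(W₁ ⊔ W₂) := Fintype.ofFinite _
  haveI := isMulCommutative1 hW
  haveI := isMulCommutative2 hW
  have S := split_of hW
  have hval : ∀ (ω : ↥(W₁ ⊔ W₂) →* ℂˣ) (x : W₁) (y : W₂), x ≠ 1 → y ≠ 1 →
      χ ω ((x : G) * y) = (ω (inc1 W₁ W₂ x) : ℂ) * (ω (inc2 W₁ W₂ y) : ℂ) := by
    intro ω x y hx hy
    obtain ⟨h1, h2⟩ := mul_mem_V hW hx hy
    rw [show (x : G) * y = ((inc1 W₁ W₂ x * inc2 W₁ W₂ y : ↥(W₁ ⊔ W₂)) : G) from rfl,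
      hχ.eq_on ω _ h1 h2, map_mul, Units.val_mul]
  have hp1 : ∀ (a : W₁ →* ℂˣ) (b : W₂ →* ℂˣ) (x : W₁),
      (pull1 S a * pull2 S b) (inc1 W₁ W₂ x) = a x := by
    intro a b x; simp [pull1, pull2]
  have hp2 : ∀ (a : W₁ →* ℂˣ) (b : W₂ →* ℂˣ) (y : W₂),
      (pull1 S a * pull2 S b) (inc2 W₁ W₂ y) = b y := by
    intro a b y; simp [pull1, pull2]
  refine ⟨fun a b => χ (pull1 S a * pull2 S b), ⟨fun a b => hχ.irr_or_neg _, fun a b a' b' => ?_,
    fun a b => by simpa using hχ.orthonormal (pull1 S a * pull2 S b) (pull1 S a * pull2 S b),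
    by rw [pull_one_one S]; exact hχ.map_one,
    fun a b x y hx hy => by rw [hval _ x y hx hy, hp1, hp2], fun θ hθ h a b => ?_,
    fun a b f hf hf0 g => ?_, fun a a' hp ha ha' g hg => ?_, fun b b' hp hb hb' g hg => ?_⟩⟩
  · by_cases he : a = a' ∧ b = b'
    · exact Or.inl he
    · refine Or.inr ?_
      rw [hχ.orthonormal, if_neg fun e => he (pull_injective S e)]
  · rw [pull_one_one S, pull_one_right S, pull_one_left S]
    refine coeff_add hW hχ hθ (fun w h1 h2 => ?_) (pull1_apply_of_mem S a) (pull2_apply_of_mem S b)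
    have hw : (w : G) = (proj1 S w : G) * (proj2 S w : G) := (congrArg Subtype.val (decomp S w)).symm
    rw [hw]
    exact h _ _ (fun e => h2 ((proj1_eq_one_iff S w).mp e)) (fun e => h1 ((proj2_eq_one_iff S w).mp e))
  · have hL : ((Nat.card W₁ : ℂ) * (Nat.card W₂ : ℂ))⁻¹ * ∑ x : G, f (x⁻¹ * g * x) =
        Cfsg.indFun (W₁ ⊔ W₂) (CyclicTI.alpha (pull1 S a) (pull2 S b)) g := by
      rw [indFun_apply, ← Nat.card_congr (prodIso S).toEquiv, Nat.card_prod, Nat.cast_mul]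
      congr 1
      refine Finset.sum_congr rfl fun x _ => ?_
      by_cases hx : x⁻¹ * g * x ∈ W₁ ⊔ W₂
      · rw [extendByZero_mem _ _ hx]
        set w : ↥(W₁ ⊔ W₂) := ⟨x⁻¹ * g * x, hx⟩
        rw [show x⁻¹ * g * x = (proj1 S w : G) * (proj2 S w : G) from
          (congrArg Subtype.val (decomp S w)).symm, hf]
        show _ = CyclicTI.alpha (pull1 S a) (pull2 S b) w
        simp only [CyclicTI.alpha, pull1, pull2, MonoidHom.comp_apply]
        ring
      · rw [extendByZero_not_mem _ _ hx, hf0]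
        intro u v e
        exact hx (e ▸ mul_mem (le_sup_left (b := W₂) u.2) (le_sup_right (a := W₁) v.2))
    rw [hL]
    by_cases ha : a = 1
    · subst ha
      rw [show CyclicTI.alpha (pull1 S 1) (pull2 S b) = 0 by rw [pull1_one S, alpha_left_one],
        indFun_zero, pull_one_one S, pull_one_left S, hχ.map_one]
      simp
    by_cases hb : b = 1
    · subst hb
      rw [show CyclicTI.alpha (pull1 S a) (pull2 S 1) = 0 by rw [pull2_one S, alpha_right_one],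
        indFun_zero, pull_one_one S, pull_one_right S, hχ.map_one]
      simp
    have ha' : pull1 S a ≠ 1 := fun e => ha (pull_injective S (g := 1) (g' := 1) (f := a) (f' := 1)
      (by rw [pull_one_one S, pull_one_right S, e])).1
    have hb' : pull2 S b ≠ 1 := fun e => hb (pull_injective S (g := b) (g' := 1) (f := 1) (f' := 1)
      (by rw [pull_one_one S, pull_one_left S, e])).2
    rw [indFun_alpha hχ ha' hb' (pull1_apply_of_mem S a) (pull2_apply_of_mem S b), pull_one_right S,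
      pull_one_left S]
    simp [hχ.map_one]
  · obtain ⟨σ, hσ⟩ := exists_galois_power hp ha ha'
    have e := eq_of_agree hW hoddW hχ (SignIrr.twist (hχ.irr_or_neg (pull1 S a * pull2 S 1)) σ)
      (pull1 S a' * pull2 S 1) (fun w h1 h2 => by
        rw [hχ.eq_on _ w h1 h2]
        simp [pull1, pull2, hσ])
    show χ (pull1 S a' * pull2 S 1) g = 0
    rw [← e]
    show σ (χ (pull1 S a * pull2 S 1) g) = 0
    rw [show χ (pull1 S a * pull2 S 1) g = 0 from hg, map_zero]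
  · obtain ⟨σ, hσ⟩ := exists_galois_power hp hb hb'
    have e := eq_of_agree hW hoddW hχ (SignIrr.twist (hχ.irr_or_neg (pull1 S 1 * pull2 S b)) σ)
      (pull1 S 1 * pull2 S b') (fun w h1 h2 => by
        rw [hχ.eq_on _ w h1 h2]
        simp [pull1, pull2, hσ])
    show χ (pull1 S 1 * pull2 S b') g = 0
    rw [← e]
    show σ (χ (pull1 S 1 * pull2 S b) g) = 0
    rw [show χ (pull1 S 1 * pull2 S b) g = 0 from hg, map_zero]

/-- Off the conjugates of the regular part of `W₁ W₂` the family is additive. -/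
theorem Fam.off (F : Fam W₁ W₂ η) (hW : Cfsg.IsSelfNormalizingCyclic W₁ W₂)
    (a : W₁ →* ℂˣ) (b : W₂ →* ℂˣ) {g : G}
    (hg : ∀ (x : W₁) (y : W₂) (z : G), x ≠ 1 → y ≠ 1 → g ≠ z * ((x : G) * y) * z⁻¹) :
    η a b g = η a 1 g + η 1 b g - 1 := by
  classical
  have S := split_of hW
  let f : G → ℂ := fun z =>
    if h : z ∈ W₁ ⊔ W₂ then CyclicTI.alpha (pull1 S a) (pull2 S b) ⟨z, h⟩ else 0
  have hf : ∀ (x : W₁) (y : W₂), f ((x : G) * y) = (1 - (a x : ℂ)) * (1 - (b y : ℂ)) := by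
    intro x y
    have hm : (x : G) * y ∈ W₁ ⊔ W₂ :=
      mul_mem (le_sup_left (b := W₂) x.2) (le_sup_right (a := W₁) y.2)
    simp only [f, dif_pos hm]
    rw [show (⟨(x : G) * y, hm⟩ : ↥(W₁ ⊔ W₂)) = inc1 W₁ W₂ x * inc2 W₁ W₂ y from rfl]
    simp [CyclicTI.alpha, pull1, pull2]
    ring
  have hf0 : ∀ z : G, (∀ (x : W₁) (y : W₂), z ≠ (x : G) * y) → f z = 0 := by
    intro z hz
    simp only [f]
    rw [dif_neg]
    intro hm
    exact hz _ _ (congrArg Subtype.val (decomp S ⟨z, hm⟩)).symm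
  have h := F.ind a b f hf hf0 g
  rw [Finset.sum_eq_zero (fun z _ => ?_), mul_zero] at h
  · linear_combination -h
  · by_cases hm : ∀ (x : W₁) (y : W₂), z⁻¹ * g * z ≠ (x : G) * y
    · exact hf0 _ hm
    push Not at hm
    obtain ⟨x, y, e⟩ := hm
    rw [e, hf]
    have e' : g = z * ((x : G) * y) * z⁻¹ := by rw [← e]; group
    by_cases hx : x = 1
    · simp [hx]
    by_cases hy : y = 1
    · simp [hy]
    exact absurd e' (hg x y z hx hy)

end Cfsg.Agent.OddChar.P13
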