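/-
Tools for the computations with linear characters in Peterfalvi section 13: conjugation of linear
characters of a subgroup, finite Fourier identities, extensions, inner products of induced linear
characters, Bessel's inequality and sums over the conjugates of a TI-set.
-/
import Cfsg.Agent.Lib.Char.CyclicTI.Basic
import Cfsg.Agent.Lib.Char.Integral

set_option autoImplicit false
set_option linter.unusedSectionVars false
set_option linter.style.haveILetI false

namespace Cfsg.Agent.OddChar.P13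

open scoped ComplexConjugate
open Cfsg.Agent.Char Cfsg.Agent.Char.CyclicTI

universe u v

variable {G : Type u} [Group G]

/-- A linear character as a function. -/
abbrev lf {H : Type v} [Group H] (θ : H →* ℂˣ) : H → ℂ := fun h => (θ h : ℂ)

theorem lf_injective {H : Type v} [Group H] {a b : H →* ℂˣ} (h : lf a = lf b) : a = b :=
  MonoidHom.ext fun x => Units.ext (congrFun h x)

theorem lf_inv {H : Type v} [Group H] [Finite H] (θ : H →* ℂˣ) (h : H) :
    conj (θ h : ℂ) = (θ h⁻¹ : ℂ) :=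
  (IsCharacter.inv (IsIrrCharacter.isCharacter (isIrrCharacter_linear θ)) h).symm

theorem conj_lf {H : Type v} [Group H] [Finite H] (θ : H →* ℂˣ) :
    Cfsg.conjFun (lf θ) = lf θ⁻¹ := by
  funext h
  show conj (θ h : ℂ) = ((θ⁻¹ h : ℂˣ) : ℂ)
  rw [lf_inv, MonoidHom.inv_apply, map_inv]

/-- The sum of a linear character over a finite group. -/
theorem sum_lin {H : Type v} [Group H] [Fintype H] {θ : H →* ℂˣ} (hθ : θ ≠ 1) :
    ∑ h : H, (θ h : ℂ) = 0 := by
  obtain ⟨x, hx⟩ : ∃ x, θ x ≠ 1 := by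
    by_contra hc
    push Not at hc
    exact hθ (MonoidHom.ext hc)
  have h : (θ x : ℂ) * ∑ h : H, (θ h : ℂ) = ∑ h : H, (θ h : ℂ) := by
    rw [Finset.mul_sum]
    exact Fintype.sum_equiv (Equiv.mulLeft x) _ _ fun h => by simp
  by_contra h0
  exact hx (Units.ext (by simpa using (mul_eq_right₀ h0).mp h))

/-! ## Conjugation -/

/-- Conjugation by a normalizing element, as an endomorphism of the subgroup. -/
def cjHom (H : Subgroup G) {s : G} (hs : s ∈ Subgroup.normalizer (H : Set G)) : H →* H where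
  toFun h := ⟨s * h * s⁻¹, (Subgroup.mem_normalizer_iff.mp hs h).mp h.2⟩
  map_one' := Subtype.ext (by simp)
  map_mul' a b := Subtype.ext (by simp [mul_assoc])

open Classical in
/-- The conjugate `h ↦ θ (s h s⁻¹)` of a linear character; `θ` itself off the normalizer. -/
noncomputable def cj (H : Subgroup G) (s : G) (θ : H →* ℂˣ) : H →* ℂˣ :=
  if hs : s ∈ Subgroup.normalizer (H : Set G) then θ.comp (cjHom H hs) else θ

variable {H : Subgroup G}

theorem cj_apply {s : G} (hs : s ∈ Subgroup.normalizer (H : Set G)) (θ : H →* ℂˣ) (h : H) :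
    cj H s θ h = θ ⟨s * h * s⁻¹, (Subgroup.mem_normalizer_iff.mp hs h).mp h.2⟩ := by
  rw [cj, dif_pos hs]; rfl

theorem cj_apply' {s : G} (hs : s ∈ Subgroup.normalizer (H : Set G)) (θ : H →* ℂˣ) (h k : H)
    (e : (k : G) = s * h * s⁻¹) : cj H s θ h = θ k := by
  rw [cj_apply hs]; exact congrArg θ (Subtype.ext e.symm)

theorem cj_one (θ : H →* ℂˣ) : cj H 1 θ = θ := by
  refine MonoidHom.ext fun h => ?_
  exact cj_apply' (one_mem _) θ h h (by simp)

theorem cj_mul {s t : G} (hs : s ∈ Subgroup.normalizer (H : Set G))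
    (ht : t ∈ Subgroup.normalizer (H : Set G)) (θ : H →* ℂˣ) :
    cj H (s * t) θ = cj H t (cj H s θ) := by
  refine MonoidHom.ext fun h => ?_
  rw [cj_apply ht, cj_apply hs]
  exact cj_apply' (mul_mem hs ht) θ h _ (by simp [mul_assoc])

theorem cj_inv_cancel {s : G} (hs : s ∈ Subgroup.normalizer (H : Set G)) (θ : H →* ℂˣ) :
    cj H s⁻¹ (cj H s θ) = θ := by
  rw [← cj_mul hs (inv_mem hs), mul_inv_cancel, cj_one]

theorem cj_eq_iff {s : G} (hs : s ∈ Subgroup.normalizer (H : Set G)) (θ φ : H →* ℂˣ) :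
    cj H s θ = φ ↔ cj H s⁻¹ φ = θ := by
  constructor
  · rintro rfl; exact cj_inv_cancel hs θ
  · rintro rfl
    simpa using cj_inv_cancel (inv_mem hs) φ

theorem cj_map_mul {s : G} (hs : s ∈ Subgroup.normalizer (H : Set G)) (θ φ : H →* ℂˣ) :
    cj H s (θ * φ) = cj H s θ * cj H s φ := by
  refine MonoidHom.ext fun h => ?_
  rw [cj_apply hs, MonoidHom.mul_apply, MonoidHom.mul_apply, cj_apply hs, cj_apply hs]

theorem cj_map_inv {s : G} (hs : s ∈ Subgroup.normalizer (H : Set G)) (θ : H →* ℂˣ) :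
    cj H s θ⁻¹ = (cj H s θ)⁻¹ := by
  refine MonoidHom.ext fun h => ?_
  rw [cj_apply hs, MonoidHom.inv_apply, MonoidHom.inv_apply, cj_apply hs]

theorem cj_map_one (s : G) : cj H s 1 = 1 := by
  by_cases hs : s ∈ Subgroup.normalizer (H : Set G)
  · refine MonoidHom.ext fun h => ?_
    rw [cj_apply hs]; simp
  · rw [cj, dif_neg hs]

/-- `cj s θ = φ` for `s` in `S`, counted. -/
noncomputable def fixCount (H S : Subgroup G) (θ φ : H →* ℂˣ) : ℕ :=
  Nat.card {s : S // cj H (s : G) θ = φ}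

theorem fixCount_symm {S : Subgroup G} (hS : S ≤ Subgroup.normalizer (H : Set G))
    (θ φ : H →* ℂˣ) : fixCount H S θ φ = fixCount H S φ θ := by
  refine Nat.card_congr ((Equiv.inv S).subtypeEquiv fun s => ?_)
  rw [cj_eq_iff (hS s.2)]
  rfl

theorem fixCount_eq_zero {S : Subgroup G} {θ φ : H →* ℂˣ}
    (h : ∀ s ∈ S, cj H s θ ≠ φ) : fixCount H S θ φ = 0 := by
  haveI : IsEmpty {s : S // cj H (s : G) θ = φ} := ⟨fun s => h s.1 s.1.2 s.2⟩
  exact Nat.card_of_isEmpty

theorem fixCount_self {S L : Subgroup G} (hLS : L ≤ S) {θ : H →* ℂˣ}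
    (h : ∀ s ∈ S, cj H s θ = θ ↔ s ∈ L) : fixCount H S θ θ = Nat.card L := by
  refine Nat.card_congr
    { toFun := fun s => ⟨(s.1 : G), (h _ s.1.2).mp s.2⟩
      invFun := fun l => ⟨⟨l, hLS l.2⟩, (h _ (hLS l.2)).mpr l.2⟩
      left_inv := fun s => rfl
      right_inv := fun l => rfl }

theorem fixCount_conj {S : Subgroup G} (hS : S ≤ Subgroup.normalizer (H : Set G)) {t : G}
    (ht : t ∈ S) (θ φ : H →* ℂˣ) : fixCount H S (cj H t θ) φ = fixCount H S θ φ := by
  refine Nat.card_congr ((Equiv.mulLeft (⟨t, ht⟩ : S)).subtypeEquiv fun s => ?_)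
  rw [← cj_mul (hS ht) (hS s.2)]
  rfl

/-! ## Fourier identities on a finite abelian group -/

section fourier

variable {A : Type v} [Group A] [Fintype A] [IsMulCommutative A] [Fintype (A →* ℂˣ)]
  [DecidableEq (A →* ℂˣ)]

theorem parseval (a : (A →* ℂˣ) → ℂ) :
    ∑ h : A, ‖∑ θ : A →* ℂˣ, a θ * (θ h : ℂ)‖ ^ 2 =
      (Nat.card A : ℝ) * ∑ θ : A →* ℂˣ, ‖a θ‖ ^ 2 := by
  classical
  have h0 : (Nat.card A : ℂ) ≠ 0 := Nat.cast_ne_zero.mpr Nat.card_pos.ne'
  set e : A → ℂ := fun h => ∑ θ : A →* ℂˣ, a θ * (θ h : ℂ) with he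
  have h1 : Cfsg.classInner e e = ∑ θ : A →* ℂˣ, a θ * conj (a θ) := by
    have hee : e = ∑ θ : A →* ℂˣ, a θ • lf θ := by
      funext h; simp [he, lf]
    rw [hee, classInner_sum_left]
    refine Finset.sum_congr rfl fun θ _ => ?_
    rw [classInner_smul_left, classInner_sum_right, Finset.sum_eq_single θ]
    · rw [classInner_smul_right, classInner_lin, if_pos rfl, mul_one]
    · intro φ _ hφ
      rw [classInner_smul_right, classInner_lin, if_neg (Ne.symm hφ), mul_zero]
    · simp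
  have h2 : ∀ z : ℂ, z * conj z = ((‖z‖ ^ 2 : ℝ) : ℂ) := fun z => by
    rw [Complex.mul_conj, Complex.normSq_eq_norm_sq]
  simp only [Cfsg.classInner, h2, ← Complex.ofReal_sum] at h1
  rw [inv_mul_eq_iff_eq_mul₀ h0] at h1
  exact_mod_cast h1

theorem inversion (f : A → ℂ) (h : A) :
    f h = ∑ θ : A →* ℂˣ, Cfsg.classInner f (lf θ) * (θ h : ℂ) := by
  classical
  have h0 : (Nat.card A : ℂ) ≠ 0 := Nat.cast_ne_zero.mpr Nat.card_pos.ne'
  simp only [Cfsg.classInner, lf, mul_assoc, Finset.sum_mul, ← Finset.mul_sum]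
  rw [Finset.sum_comm]
  have key : ∀ k : A, ∑ θ : A →* ℂˣ, f k * (conj (θ k : ℂ) * (θ h : ℂ)) =
      if k = h then f k * (Nat.card A : ℂ) else 0 := by
    intro k
    rw [← Finset.mul_sum]
    have : ∀ θ : A →* ℂˣ, conj (θ k : ℂ) * (θ h : ℂ) = (θ (k⁻¹ * h) : ℂ) := fun θ => by
      rw [lf_inv, map_mul, Units.val_mul]
    rw [Finset.sum_congr rfl fun θ _ => this θ, sum_hom]
    by_cases hk : k = h
    · simp [hk]
    · rw [if_neg hk, if_neg (fun e => hk (inv_mul_eq_one.mp e)), mul_zero]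
  rw [Finset.sum_congr rfl fun k _ => key k, Finset.sum_ite_eq', if_pos (Finset.mem_univ h)]
  field_simp

/-- The mean square of a function off the identity from its coefficients, all shifted by `c`. -/
theorem sum_sq_off_one (f : A → ℂ) (c : ℂ) [DecidableEq A] :
    ∑ h ∈ Finset.univ.erase (1 : A), ‖f h‖ ^ 2 =
      (Nat.card A : ℝ) * ∑ θ : A →* ℂˣ, ‖Cfsg.classInner f (lf θ) - c‖ ^ 2 -
        ‖∑ θ : A →* ℂˣ, (Cfsg.classInner f (lf θ) - c)‖ ^ 2 := by
  set a : (A →* ℂˣ) → ℂ := fun θ => Cfsg.classInner f (lf θ) - c with ha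
  have hfe : ∀ h : A, h ≠ 1 → ∑ θ : A →* ℂˣ, a θ * (θ h : ℂ) = f h := by
    intro h hh
    simp only [ha, sub_mul, Finset.sum_sub_distrib, ← Finset.mul_sum, sum_hom_eq_zero hh,
      mul_zero, sub_zero]
    exact (inversion f h).symm
  have h1 := parseval a
  rw [← Finset.sum_erase_add _ _ (Finset.mem_univ (1 : A)), Finset.sum_congr rfl
    (g := fun h => ‖f h‖ ^ 2) (fun h hh => by rw [hfe h (Finset.ne_of_mem_erase hh)])] at h1
  simp only [map_one, Units.val_one, mul_one] at h1
  linarith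

end fourier

/-! ## Extensions -/

theorem exists_ext {N B : Subgroup G} (hn : B ≤ Subgroup.normalizer (N : Set G))
    (hd : N ⊓ B = ⊥) (φ : N →* ℂˣ) (γ : B →* ℂˣ)
    (hinv : ∀ b ∈ B, ∀ (x : N) (y : N), (y : G) = b * x * b⁻¹ → φ y = φ x) :
    ∃ ξ : ↥(N ⊔ B) →* ℂˣ,
      (∀ (x : N) (z : ↥(N ⊔ B)), (z : G) = x → ξ z = φ x) ∧
        ∀ (b : B) (z : ↥(N ⊔ B)), (z : G) = b → ξ z = γ b := by
  classical
  have hex : ∀ z : ↥(N ⊔ B), ∃ p : N × B, (z : G) = p.1 * p.2 := by
    intro z
    have h : (z : G) ∈ (↑(N ⊔ B) : Set G) := z.2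
    rw [Subgroup.coe_mul_of_right_le_normalizer_left N B hn] at h
    obtain ⟨x, hx, b, hb, e⟩ := h
    exact ⟨(⟨x, hx⟩, ⟨b, hb⟩), e.symm⟩
  choose p hp using hex
  have huniq : ∀ (z : ↥(N ⊔ B)) (x : N) (b : B), (z : G) = x * b → (p z).1 = x ∧ (p z).2 = b := by
    intro z x b e
    have e' : ((p z).1 : G) * (p z).2 = x * b := (hp z).symm.trans e
    have hm : (x : G)⁻¹ * (p z).1 ∈ N ⊓ B := by
      refine ⟨N.mul_mem (N.inv_mem x.2) (p z).1.2, ?_⟩
      have : (x : G)⁻¹ * (p z).1 = b * ((p z).2 : G)⁻¹ := by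
        rw [eq_mul_inv_iff_mul_eq, mul_assoc, e']; group
      rw [this]
      exact B.mul_mem b.2 (B.inv_mem (p z).2.2)
    rw [hd, Subgroup.mem_bot, inv_mul_eq_one] at hm
    have h1 : (p z).1 = x := Subtype.ext hm.symm
    rw [h1] at e'
    exact ⟨h1, Subtype.ext (mul_left_cancel e')⟩
  have hmul : ∀ z z' : ↥(N ⊔ B), φ (p (z * z')).1 * γ (p (z * z')).2 =
      φ (p z).1 * γ (p z).2 * (φ (p z').1 * γ (p z').2) := by
    intro z z'
    obtain ⟨x, b⟩ := (⟨(p z).1, (p z).2⟩ : N × B)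
    have hy : ((p z).2 : G) * (p z').1 * ((p z).2 : G)⁻¹ ∈ N :=
      (Subgroup.mem_normalizer_iff.mp (hn (p z).2.2) _).mp (p z').1.2
    obtain ⟨e1, e2⟩ := huniq (z * z') ((p z).1 * ⟨_, hy⟩) ((p z).2 * (p z').2) (by
      rw [Subgroup.coe_mul, hp z, hp z']
      simp only [Subgroup.coe_mul]
      group)
    rw [e1, e2, map_mul, map_mul, hinv _ (p z).2.2 (p z').1 ⟨_, hy⟩ rfl]
    exact mul_mul_mul_comm _ _ _ _
  refine ⟨MonoidHom.mk' (fun z => φ (p z).1 * γ (p z).2) hmul, fun x z hz => ?_, fun b z hz => ?_⟩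
  · obtain ⟨e1, e2⟩ := huniq z x 1 (by simpa using hz)
    simp [MonoidHom.mk', e1, e2]
  · obtain ⟨e1, e2⟩ := huniq z 1 b (by simpa using hz)
    simp [MonoidHom.mk', e1, e2]

/-! ## Induced linear characters -/

theorem isClassFunction_lf {A : Type v} [Group A] (θ : A →* ℂˣ) :
    Cfsg.IsClassFunction A (lf θ) := by
  intro g k
  simp [lf, mul_comm]

open Classical in
theorem inner_ind_lin {X : Type v} [Group X] [Fintype X] {L : Subgroup X} [Fintype L]
    (ξ ξ' : L →* ℂˣ)
    (h : ∀ x : X, x ∉ L → ∃ (a b : L), (b : X) = x * a * x⁻¹ ∧ ξ a ≠ ξ' b) :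
    Cfsg.classInner (Cfsg.indFun L (lf ξ)) (Cfsg.indFun L (lf ξ')) =
      if ξ = ξ' then 1 else 0 := by
  rw [classInner_indFun_left L _ (isClassFunction_indFun L _)]
  have h0 : (Nat.card L : ℂ) ≠ 0 := Nat.cast_ne_zero.mpr Nat.card_pos.ne'
  have key : ∀ x : X, ∑ l : L, (ξ l : ℂ) *
      conj (Cfsg.extendByZero L (lf ξ') (x⁻¹ * l * x)) =
        if x ∈ L then (Nat.card L : ℂ) * (if ξ = ξ' then 1 else 0) else 0 := by
    intro x
    by_cases hx : x ∈ L
    · rw [if_pos hx]
      have e : ∀ l : L, (ξ l : ℂ) * conj (Cfsg.extendByZero L (lf ξ') (x⁻¹ * l * x)) =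
          lf ξ l * conj (lf ξ' l) := by
        intro l
        rw [show x⁻¹ * (l : X) * x = ((⟨x, hx⟩⁻¹ * l * ⟨x, hx⟩ : L) : X) from rfl, extendByZero_coe]
        simp [lf, mul_comm]
      rw [Finset.sum_congr rfl fun l _ => e l]
      have := classInner_lin ξ ξ'
      simp only [Cfsg.classInner] at this
      rw [← this, ← mul_assoc, mul_inv_cancel₀ h0, one_mul]
    · rw [if_neg hx]
      -- the summand is supported on a subgroup and is a non-trivial linear character there
      let M : Subgroup L :=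
        { carrier := {l | x⁻¹ * (l : X) * x ∈ L}
          one_mem' := by simp
          mul_mem' := fun {a b} ha hb => by
            have := L.mul_mem ha hb
            simpa [mul_assoc] using this
          inv_mem' := fun {a} ha => by
            have := L.inv_mem ha
            simpa [mul_assoc] using this }
      let c : M →* L :=
        { toFun := fun m => ⟨x⁻¹ * ((m : L) : X) * x, m.2⟩
          map_one' := Subtype.ext (by simp)
          map_mul' := fun a b => Subtype.ext (by simp [mul_assoc]) }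
      let η : M →* ℂˣ := (ξ.comp M.subtype) * (ξ'.comp c)⁻¹
      have hη : η ≠ 1 := by
        obtain ⟨a, b, hb, hne⟩ := h x⁻¹ (fun hh => hx (by simpa using L.inv_mem hh))
        have ha : a ∈ M := by
          show x⁻¹ * (a : X) * x ∈ L
          have : x⁻¹ * (a : X) * x = b := by rw [hb, inv_inv]
          rw [this]; exact b.2
        intro he
        have h2 := DFunLike.congr_fun he ⟨a, ha⟩
        have hc : c ⟨a, ha⟩ = b := Subtype.ext (by
          show x⁻¹ * (a : X) * x = b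
          rw [hb, inv_inv])
        simp only [η, MonoidHom.mul_apply, MonoidHom.inv_apply, MonoidHom.comp_apply, hc,
          MonoidHom.one_apply, mul_inv_eq_one] at h2
        exact hne h2
      rw [← Finset.sum_filter_add_sum_filter_not Finset.univ (fun l : L => l ∈ M),
        Finset.sum_eq_zero (s := Finset.univ.filter fun l : L => ¬ l ∈ M) (fun l hl => by
          rw [extendByZero_not_mem L _ (Finset.mem_filter.mp hl).2, map_zero, mul_zero]),
        add_zero, Finset.sum_subtype (p := fun l => l ∈ M) _ (fun l => by simp)]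
      rw [← sum_lin hη]
      refine Finset.sum_congr rfl fun m _ => ?_
      have : Cfsg.extendByZero L (lf ξ') (x⁻¹ * ((m : L) : X) * x) = (ξ' (c m) : ℂ) := by
        rw [extendByZero_mem L _ m.2]; rfl
      rw [this, lf_inv]
      simp [η]
  simp only [Cfsg.classInner, indFun_apply, map_mul, map_inv₀, map_natCast, map_sum, Finset.mul_sum]
  rw [Finset.sum_comm]
  simp only [show ∀ (l : L) (x : X), (Nat.card L : ℂ)⁻¹ * (lf ξ l * ((Nat.card L : ℂ)⁻¹ *
      conj (Cfsg.extendByZero L (lf ξ') (x⁻¹ * l * x)))) =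
      (Nat.card L : ℂ)⁻¹ * (Nat.card L : ℂ)⁻¹ *
        ((ξ l : ℂ) * conj (Cfsg.extendByZero L (lf ξ') (x⁻¹ * l * x))) from fun l x => by
    simp only [lf]; ring, ← Finset.mul_sum, key]
  rw [← Finset.sum_filter, Finset.sum_const, nsmul_eq_mul,
    show (Finset.univ.filter fun x : X => x ∈ L).card = Nat.card L from by
      rw [Nat.card_eq_fintype_card, Fintype.card_subtype]]
  field_simp

/-! ## Bessel -/

theorem bessel {X : Type v} [Group X] [Fintype X] {ι : Type*} [Fintype ι] (f : X → ℂ)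
    (e : ι → X → ℂ) [DecidableEq ι]
    (he : ∀ i j, Cfsg.classInner (e i) (e j) = if i = j then 1 else 0) :
    ∑ i, ‖Cfsg.classInner f (e i)‖ ^ 2 ≤ (Cfsg.classInner f f).re := by
  set c : ι → ℂ := fun i => Cfsg.classInner f (e i) with hc
  set r : X → ℂ := f - ∑ i, c i • e i with hr
  have h1 : Cfsg.classInner r r = Cfsg.classInner f f - ∑ i, c i * conj (c i) := by
    rw [hr, classInner_sub_left, classInner_sub_right, classInner_sub_right]
    have a1 : Cfsg.classInner f (∑ i, c i • e i) = ∑ i, c i * conj (c i) := by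
      rw [classInner_sum_right]
      exact Finset.sum_congr rfl fun i _ => by rw [classInner_smul_right, mul_comm]
    have a2 : Cfsg.classInner (∑ i, c i • e i) f = ∑ i, c i * conj (c i) := by
      rw [← classInner_conj_symm, a1, map_sum]
      exact Finset.sum_congr rfl fun i _ => by rw [map_mul, Complex.conj_conj, mul_comm]
    have a3 : Cfsg.classInner (∑ i, c i • e i) (∑ i, c i • e i) = ∑ i, c i * conj (c i) := by
      rw [classInner_sum_left]
      refine Finset.sum_congr rfl fun i _ => ?_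
      rw [classInner_smul_left, classInner_sum_right, Finset.sum_eq_single i]
      · rw [classInner_smul_right, he, if_pos rfl, mul_one]
      · intro j _ hj
        rw [classInner_smul_right, he, if_neg (Ne.symm hj), mul_zero]
      · simp
    rw [a1, a2, a3]; ring
  have h2 := classInner_self_nonneg r
  rw [h1, Complex.sub_re, Complex.re_sum] at h2
  have h3 : ∀ i, (c i * conj (c i)).re = ‖c i‖ ^ 2 := fun i => by
    rw [Complex.mul_conj, Complex.ofReal_re, Complex.normSq_eq_norm_sq]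
  simp only [h3] at h2
  linarith

/-! ## TI-sets -/

variable [Fintype G]

open Classical in
/-- The union of the conjugates of a set. -/
noncomputable def classSupp (T : Set G) : Finset G :=
  Finset.univ.filter fun g => ∃ t ∈ T, ∃ x : G, g = x * t * x⁻¹

theorem mem_classSupp {T : Set G} {g : G} :
    g ∈ classSupp T ↔ ∃ t ∈ T, ∃ x : G, g = x * t * x⁻¹ := by simp [classSupp]

open Classical in
theorem sum_classSupp {T : Set G} {S : Subgroup G}
    (hS : ∀ s ∈ S, ∀ t ∈ T, s * t * s⁻¹ ∈ T)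
    (hTI : ∀ t ∈ T, ∀ g : G, g * t * g⁻¹ ∈ T → g ∈ S)
    (F : G → ℝ) (hF : ∀ x g : G, F (x * g * x⁻¹) = F g) :
    (Nat.card S : ℝ) * ∑ g ∈ classSupp T, F g =
      (Nat.card G : ℝ) * ∑ t ∈ Finset.univ.filter (fun t => t ∈ T), F t := by
  set P : Finset (G × G) := Finset.univ.filter (fun p => p.2 ∈ T) with hP
  have h1 : ∑ p ∈ P, F (p.1 * p.2 * p.1⁻¹) =
      (Nat.card G : ℝ) * ∑ t ∈ Finset.univ.filter (fun t => t ∈ T), F t := by
    simp only [hF]
    have : P = Finset.univ ×ˢ Finset.univ.filter (fun t => t ∈ T) := by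
      ext p; simp [hP]
    rw [this, Finset.sum_product]
    simp [Finset.card_univ, Nat.card_eq_fintype_card]
  rw [← h1, ← Finset.sum_fiberwise_of_maps_to (g := fun p : G × G => p.1 * p.2 * p.1⁻¹)
    (t := classSupp T) (fun p hp => mem_classSupp.mpr ⟨p.2, (Finset.mem_filter.mp hp).2, p.1, rfl⟩),
    Finset.mul_sum]
  refine Finset.sum_congr rfl fun g hg => ?_
  obtain ⟨t, ht, x, hx⟩ := mem_classSupp.mp hg
  rw [Finset.sum_congr rfl (g := fun _ => F g) (fun p hp => by
    rw [(Finset.mem_filter.mp hp).2]), Finset.sum_const, nsmul_eq_mul]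
  congr 1
  rw [Nat.card_eq_fintype_card, ← Finset.card_univ, Nat.cast_inj]
  refine Finset.card_bij (fun (s : S) _ => (x * (s : G), (s : G)⁻¹ * t * s)) (fun s _ => ?_)
    (fun a _ b _ e => Subtype.ext (mul_left_cancel (congrArg Prod.fst e))) fun p hp => ?_
  · refine Finset.mem_filter.mpr ⟨Finset.mem_filter.mpr ⟨Finset.mem_univ _, ?_⟩, ?_⟩
    · have := hS _ (S.inv_mem s.2) t ht
      simpa using this
    · rw [hx]; group
  · obtain ⟨hp1, hp2⟩ := Finset.mem_filter.mp hp
    have hpT : p.2 ∈ T := (Finset.mem_filter.mp hp1).2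
    have e : x⁻¹ * p.1 * p.2 * (x⁻¹ * p.1)⁻¹ = t := by
      have h3 : p.1 * p.2 * p.1⁻¹ = x * t * x⁻¹ := hp2.trans hx
      calc x⁻¹ * p.1 * p.2 * (x⁻¹ * p.1)⁻¹ = x⁻¹ * (p.1 * p.2 * p.1⁻¹) * x := by group
        _ = x⁻¹ * (x * t * x⁻¹) * x := by rw [h3]
        _ = t := by group
    refine ⟨⟨x⁻¹ * p.1, hTI p.2 hpT _ (e ▸ ht)⟩, Finset.mem_univ _, Prod.ext (by group) ?_⟩
    show (x⁻¹ * p.1)⁻¹ * t * (x⁻¹ * p.1) = p.2
    conv_lhs => rw [← e]
    group

open Classical in
/-- The inner product of two functions induced from a TI-subgroup, both vanishing at the identity. -/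
theorem inner_ind_TI {H S : Subgroup G} [Fintype H] (hS : S ≤ Subgroup.normalizer (H : Set G))
    (hTI : ∀ h ∈ H, h ≠ 1 → ∀ g : G, g * h * g⁻¹ ∈ H → g ∈ S)
    {f g : H → ℂ} (hf : f 1 = 0) :
    Cfsg.classInner (Cfsg.indFun H f) (Cfsg.indFun H g) =
      (Nat.card H : ℂ)⁻¹ * ∑ s : S, Cfsg.classInner f
        (fun h => g ⟨(s : G)⁻¹ * h * s, by
          have := (Subgroup.mem_normalizer_iff.mp (hS (S.inv_mem s.2)) h).mp h.2
          simpa using this⟩) := by
  rw [classInner_indFun_left H f (isClassFunction_indFun H g)]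
  simp only [Cfsg.classInner, ← Finset.mul_sum]
  congr 1
  rw [Finset.sum_comm, Finset.mul_sum]
  refine Finset.sum_congr rfl fun h _ => ?_
  by_cases h1 : h = 1
  · subst h1
    simp [hf]
  rw [indFun_apply, map_mul, map_inv₀, map_natCast, map_sum, Finset.mul_sum, Finset.mul_sum,
    Finset.mul_sum]
  rw [← Finset.sum_filter_add_sum_filter_not Finset.univ (fun x : G => x ∈ S),
    Finset.sum_eq_zero (s := Finset.univ.filter fun x : G => ¬ x ∈ S) (fun x hx => by
      rw [extendByZero_not_mem H g, map_zero, mul_zero, mul_zero]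
      intro hm
      refine (Finset.mem_filter.mp hx).2 ?_
      have h1' : (h : G) ≠ 1 := fun e => h1 (Subtype.ext e)
      simpa using S.inv_mem (hTI h h.2 h1' x⁻¹ (by simpa using hm))),
    add_zero, Finset.sum_subtype (p := fun x => x ∈ S) _ (fun x => by simp)]
  refine Finset.sum_congr rfl fun s _ => ?_
  have hmem : (s : G)⁻¹ * h * s ∈ H := by
    have := (Subgroup.mem_normalizer_iff.mp (hS (S.inv_mem s.2)) h).mp h.2
    simpa using this
  rw [extendByZero_mem H g hmem]
  ring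

end Cfsg.Agent.OddChar.P13
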