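/-
Peterfalvi section 13, one side: the linear characters of `H = P C` fixed by `W₁`, their
stabilisers and the resulting bounds on `u = |U : C|`.
-/
import Cfsg.Agent.Lib.OddChar.P13.Side
import Cfsg.Agent.Lib.OddChar.P13.Lin
import Cfsg.Agent.S1545
import Mathlib.GroupTheory.PGroup

set_option autoImplicit false
set_option linter.unusedSectionVars false
set_option linter.unusedVariables false
set_option linter.deprecated false
set_option linter.style.haveILetI false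

namespace Cfsg.Agent.OddChar.P13

open scoped IsMulCommutative
open Cfsg.Agent.Char Cfsg.Agent.Char.CyclicTI

universe u

variable {G : Type u} [Group G] [Finite G] {S P U W₁ W₂ : Subgroup G}

namespace Side

variable (D : Side S P U W₁ W₂)
include D

theorem one_lt_q : 1 < Nat.card W₁ := D.q_prime.one_lt

theorem three_le_q : 3 ≤ Nat.card W₁ := by
  have h := D.odd.of_dvd_nat (Subgroup.card_subgroup_dvd_card W₁)
  obtain ⟨k, hk⟩ := h
  have := D.one_lt_q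
  omega

theorem three_le_p : 3 ≤ Nat.card W₂ := by
  have h := D.odd.of_dvd_nat (Subgroup.card_subgroup_dvd_card W₂)
  obtain ⟨k, hk⟩ := h
  have := D.p_prime.one_lt
  omega

theorem card_UW : Nat.card ↥(U ⊔ W₁) = Nat.card U * Nat.card W₁ := by
  have hd : U ⊓ W₁ = ⊥ := by
    rw [eq_bot_iff, ← D.inf_W₁]
    exact inf_le_inf_right W₁ le_sup_right
  have h : Function.Bijective (fun p : U × W₁ => (⟨(p.1 : G) * p.2,
      (U ⊔ W₁).mul_mem (le_sup_left (b := W₁) p.1.2) (le_sup_right (a := U) p.2.2)⟩ : ↥(U ⊔ W₁))) := by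
    constructor
    · rintro ⟨a, b⟩ ⟨a', b'⟩ e
      have e' : (a : G) * b = a' * b' := congrArg Subtype.val e
      have hm : (a' : G)⁻¹ * a ∈ U ⊓ W₁ := by
        refine ⟨U.mul_mem (U.inv_mem a'.2) a.2, ?_⟩
        have : (a' : G)⁻¹ * a = b' * (b : G)⁻¹ := by rw [eq_mul_inv_iff_mul_eq, mul_assoc, e']; group
        rw [this]
        exact W₁.mul_mem b'.2 (W₁.inv_mem b.2)
      rw [hd, Subgroup.mem_bot, inv_mul_eq_one] at hm
      have hab : a' = a := Subtype.ext hm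
      subst hab
      exact Prod.ext rfl (Subtype.ext (mul_left_cancel e'))
    · intro g
      have hg : (g : G) ∈ (↑(U ⊔ W₁) : Set G) := g.2
      rw [Subgroup.coe_mul_of_right_le_normalizer_left U W₁ D.U_normal] at hg
      obtain ⟨a, ha, b, hb, e⟩ := hg
      exact ⟨(⟨a, ha⟩, ⟨b, hb⟩), Subtype.ext e⟩
  rw [← Nat.card_congr (Equiv.ofBijective _ h), Nat.card_prod]

/-- Wielandt's formula for a subgroup of `P` normalized by `U` and `W₁`. -/
theorem wielandt {K : Subgroup G} (hK : K ≤ P) (hKU : ∀ u ∈ U, ∀ x ∈ K, u * x * u⁻¹ ∈ K)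
    (hKW : ∀ w ∈ W₁, ∀ x ∈ K, w * x * w⁻¹ ∈ K) :
    Nat.card ↥(K ⊓ Subgroup.centralizer ((U ⊔ W₁ : Subgroup G) : Set G)) ^ Nat.card W₁ * Nat.card K =
      Nat.card ↥(K ⊓ Subgroup.centralizer (W₁ : Set G)) ^ Nat.card W₁ *
        Nat.card ↥(K ⊓ Subgroup.centralizer (U : Set G)) := by
  have hU1 : U ≠ ⊥ := fun h => D.act (h.le.trans bot_le)
  have hd : U ⊓ W₁ = ⊥ := by
    rw [eq_bot_iff, ← D.inf_W₁]
    exact inf_le_inf_right W₁ le_sup_right
  have hKn : U ⊔ W₁ ≤ Subgroup.normalizer (K : Set G) := by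
    refine sup_le (fun x hx => ?_) (fun x hx => ?_) <;>
      refine Subgroup.mem_normalizer_iff.mpr fun y => ⟨fun hy => ?_, fun hy => ?_⟩
    · exact hKU x hx y hy
    · have := hKU _ (U.inv_mem hx) _ hy; simpa [mul_assoc] using this
    · exact hKW x hx y hy
    · have := hKW _ (W₁.inv_mem hx) _ hy; simpa [mul_assoc] using this
  have hsolv : Group.IsSolvable K := by
    haveI : IsMulCommutative K :=
      ⟨⟨fun a b => Subtype.ext (D.P_comm a (hK a.2) b (hK b.2))⟩⟩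
    infer_instance
  have hcop : Nat.Coprime (Nat.card K) (Nat.card ↥(U ⊔ W₁)) := by
    refine Nat.Coprime.coprime_dvd_left (Subgroup.card_dvd_of_le hK) ?_
    rw [D.card_UW]
    exact D.coprime_PU.mul_right D.coprime_P.symm
  refine Cfsg.Agent.S1545.result U W₁ K hU1 ?_ hd (fun w hw u hu => D.conjU hw hu)
    (fun w hw hw1 u hu h => D.fpf_U hw hw1 hu h)
    (fun x hx y hy => (Subgroup.mem_normalizer_iff.mp (hKn hx) y).mp hy)
    (Subgroup.inf_eq_bot_of_coprime hcop) hsolv hcop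
  exact fun h => absurd (h ▸ D.one_lt_q) (by simp)

theorem centralizer_W₁ {K : Subgroup G} (hK : K ≤ P) :
    K ⊓ Subgroup.centralizer (W₁ : Set G) = K ⊓ W₂ := by
  ext x
  constructor
  · rintro ⟨hx, hc⟩
    obtain ⟨w, hw, hw1⟩ := (Subgroup.bot_or_exists_ne_one W₁).resolve_left D.selfN.1
    exact ⟨hx, D.mem_W₂ hw hw1 (hK hx) (hc w hw)⟩
  · rintro ⟨hx, h2⟩
    exact ⟨hx, fun w hw => D.selfN.2.2.2.1 w hw x h2⟩

/-- `C_P(U) = 1`. -/
theorem centralizer_U : P ⊓ Subgroup.centralizer (U : Set G) = ⊥ := by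
  have h := D.wielandt le_rfl (fun u hu x hx => D.le_normP (D.U_le hu) hx)
    (fun w hw x hx => D.le_normP (D.W₁_le hw) hx)
  rw [D.centralizer_W₁ le_rfl, inf_eq_right.mpr D.W₂_le, ← D.P_card] at h
  set a := Nat.card ↥(P ⊓ Subgroup.centralizer ((U ⊔ W₁ : Subgroup G) : Set G)) with ha
  have hd : a ^ Nat.card W₁ = Nat.card ↥(P ⊓ Subgroup.centralizer (U : Set G)) := by
    rw [mul_comm] at h
    exact Nat.eq_of_mul_eq_mul_left Nat.card_pos h
  have hle : P ⊓ Subgroup.centralizer ((U ⊔ W₁ : Subgroup G) : Set G) ≤ W₂ := fun x hx => by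
    have : x ∈ P ⊓ Subgroup.centralizer (W₁ : Set G) :=
      ⟨hx.1, fun w hw => hx.2 w (le_sup_right (a := U) hw)⟩
    rw [D.centralizer_W₁ le_rfl] at this
    exact this.2
  rcases (Nat.dvd_prime D.p_prime).mp (Subgroup.card_dvd_of_le hle) with h1 | h1
  · rw [show a = 1 from h1, one_pow] at hd
    exact Subgroup.eq_bot_of_card_eq _ hd.symm
  · exfalso
    rw [show a = Nat.card W₂ from h1, ← D.P_card] at hd
    have := Subgroup.eq_of_le_of_card_ge (inf_le_left : P ⊓ Subgroup.centralizer (U : Set G) ≤ P) hd.le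
    exact D.act fun u hu x hx => (((this.symm ▸ hx : x ∈ P ⊓ Subgroup.centralizer (U : Set G))).2 u hu).symm

/-- `P` has no non-trivial `S`-invariant subgroup avoiding `W₂`. -/
theorem eq_bot_of_invariant {K : Subgroup G} (hK : K ≤ P)
    (hKU : ∀ u ∈ U, ∀ x ∈ K, u * x * u⁻¹ ∈ K) (hKW : ∀ w ∈ W₁, ∀ x ∈ K, w * x * w⁻¹ ∈ K)
    (h2 : ¬ W₂ ≤ K) : K = ⊥ := by
  have h := D.wielandt hK hKU hKW
  have hU : K ⊓ Subgroup.centralizer (U : Set G) = ⊥ :=
    le_bot_iff.mp ((inf_le_inf_right _ hK).trans_eq D.centralizer_U)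
  have hUW : K ⊓ Subgroup.centralizer ((U ⊔ W₁ : Subgroup G) : Set G) = ⊥ :=
    le_bot_iff.mp (le_trans (inf_le_inf_left K (Subgroup.centralizer_le
      (SetLike.coe_subset_coe.mpr le_sup_left))) hU.le)
  have hW : K ⊓ W₂ = ⊥ := by
    rcases (Nat.dvd_prime D.p_prime).mp (Subgroup.card_dvd_of_le (inf_le_right : K ⊓ W₂ ≤ W₂)) with h1 | h1
    · exact Subgroup.eq_bot_of_card_eq _ h1
    · exact absurd ((Subgroup.eq_of_le_of_card_ge inf_le_right h1.ge).symm.le.trans inf_le_left) h2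
  rw [D.centralizer_W₁ hK, hU, hUW, hW] at h
  simp only [Subgroup.card_bot, one_pow, one_mul, mul_one] at h
  exact Subgroup.eq_bot_of_card_eq _ h

/-! ## The action of `W₁` on `U` -/

/-- A subgroup of `U` normalized by `W₁` contains `u` with every commutator `[w, u]`. -/
theorem mem_of_comm {K : Subgroup G} (hK : K ≤ U) (hKW : ∀ w ∈ W₁, ∀ x ∈ K, w * x * w⁻¹ ∈ K)
    {w : G} (hw : w ∈ W₁) (hw1 : w ≠ 1) {u : G} (hu : u ∈ U) (h : w * u * w⁻¹ * u⁻¹ ∈ K) :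
    u ∈ K := by
  have hc : ∀ a : K, w * (a : G) * w⁻¹ * (a : G)⁻¹ ∈ K := fun a =>
    K.mul_mem (hKW w hw a a.2) (K.inv_mem a.2)
  have hinj : ∀ a b : G, a ∈ U → b ∈ U → w * a * w⁻¹ * a⁻¹ = w * b * w⁻¹ * b⁻¹ → a = b := by
    intro a b ha hb e
    have hab : w * (b⁻¹ * a) = b⁻¹ * a * w := by
      have e2 : (w * b * w⁻¹)⁻¹ * (w * a * w⁻¹) = b⁻¹ * a := by
        have hx : w * a * w⁻¹ = w * b * w⁻¹ * b⁻¹ * a := by rw [← e]; group
        rw [hx]; group
      calc w * (b⁻¹ * a) = (w * b * w⁻¹)⁻¹ * (w * a * w⁻¹) * w := by group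
        _ = b⁻¹ * a * w := by rw [e2]
    have := D.fpf_U hw hw1 (U.mul_mem (U.inv_mem hb) ha) hab
    exact (inv_mul_eq_one.mp this).symm
  haveI : Finite K := inferInstance
  have hb : Function.Bijective (fun a : K => (⟨_, hc a⟩ : K)) :=
    Finite.injective_iff_bijective.mp fun a b e =>
      Subtype.ext (hinj a b (hK a.2) (hK b.2) (congrArg Subtype.val e))
  obtain ⟨a, ha⟩ := hb.2 ⟨_, h⟩
  exact hinj a u (hK a.2) hu (congrArg Subtype.val ha) ▸ a.2

theorem card_modEq_one {K : Subgroup G} (hK : K ≤ U)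
    (hKW : ∀ w ∈ W₁, ∀ x ∈ K, w * x * w⁻¹ ∈ K) : Nat.card K % Nat.card W₁ = 1 := by
  haveI : Fact (Nat.card W₁).Prime := ⟨D.q_prime⟩
  letI : MulAction W₁ K :=
    { smul := fun w x => ⟨(w : G) * x * (w : G)⁻¹, hKW w w.2 x x.2⟩
      one_smul := fun x => Subtype.ext (by
        show ((1 : W₁) : G) * x * ((1 : W₁) : G)⁻¹ = x; simp)
      mul_smul := fun a b x => Subtype.ext (by
        show ((a * b : W₁) : G) * x * ((a * b : W₁) : G)⁻¹ = (a : G) * (b * x * (b : G)⁻¹) * (a : G)⁻¹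
        simp [mul_assoc]) }
  have hp : IsPGroup (Nat.card W₁) W₁ := IsPGroup.of_card (pow_one _).symm
  have h := hp.card_modEq_card_fixedPoints K
  have hfix : Nat.card (MulAction.fixedPoints W₁ K) = 1 := by
    rw [Nat.card_eq_one_iff_unique]
    refine ⟨⟨fun a b => ?_⟩, ⟨⟨1, fun w => Subtype.ext (by
      show (w : G) * 1 * (w : G)⁻¹ = 1; simp)⟩⟩⟩
    obtain ⟨w, hw, hw1⟩ := (Subgroup.bot_or_exists_ne_one W₁).resolve_left D.selfN.1
    have key : ∀ a : MulAction.fixedPoints W₁ K, ((a : K) : G) = 1 := fun a =>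
      D.fpf_U hw hw1 (hK (a : K).2)
        (mul_inv_eq_iff_eq_mul.mp (congrArg Subtype.val (a.2 ⟨w, hw⟩)))
    exact Subtype.ext (Subtype.ext ((key a).trans (key b).symm))
  rw [hfix] at h
  rw [h, Nat.one_mod_eq_one.mpr]
  exact D.q_prime.ne_one

/-- `u = |U : C|`. -/
theorem card_U_eq : Nat.card ↥(cpart P U) * (cpart P U).relIndex U = Nat.card U := by
  have h : cpart P U ≤ U := inf_le_left
  rw [← Nat.card_congr (Subgroup.subgroupOfEquivOfLe h).toEquiv,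
    Subgroup.relIndex]
  exact Subgroup.card_mul_index _

theorem cpart_mod : Nat.card ↥(cpart P U) % Nat.card W₁ = 1 :=
  D.card_modEq_one inf_le_left fun w hw _ hx => D.conj_cpart hw hx

theorem u_mod : (cpart P U).relIndex U % Nat.card W₁ = 1 := by
  have h := D.card_modEq_one le_rfl fun w hw x hx => D.conjU hw hx
  rw [← D.card_U_eq, Nat.mul_mod, D.cpart_mod, one_mul, Nat.mod_mod] at h
  exact h

theorem u_ne_one : (cpart P U).relIndex U ≠ 1 := fun h =>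
  D.act fun _ hu => ((Subgroup.relIndex_eq_one.mp h) hu).2

theorem u_odd : Odd ((cpart P U).relIndex U) :=
  (D.odd.of_dvd_nat (Subgroup.card_subgroup_dvd_card U)).of_dvd_nat ⟨_, (D.card_U_eq).symm.trans (mul_comm _ _)⟩

theorem card_S_eq : Nat.card S =
    Nat.card ↥(hall P U) * (cpart P U).relIndex U * Nat.card W₁ := by
  rw [D.card_S, D.card_hall, ← D.card_U_eq]; ring

/-! ## The fixed characters -/

theorem mem_norm {s : G} (hs : s ∈ S) : s ∈ Subgroup.normalizer (hall P U : Set G) :=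
  D.self_le_hall_norm hs

theorem cj_hall (θ : hall P U →* ℂˣ) {s : G} (hs : s ∈ hall P U) : cj (hall P U) s θ = θ := by
  refine MonoidHom.ext fun h => cj_apply' (D.mem_norm (D.hall_le hs)) θ h h ?_
  rw [D.hall_comm s hs h h.2, mul_inv_cancel_right]

/-- A character of `H` fixed by `W₁`. -/
def IsFixed (_ : Side S P U W₁ W₂) (θ : hall P U →* ℂˣ) : Prop :=
  ∀ w ∈ W₁, cj (hall P U) w θ = θ

/-- Restriction to `W₂`. -/
noncomputable def res₂ (θ : hall P U →* ℂˣ) : W₂ →* ℂˣ :=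
  θ.comp (Subgroup.inclusion (D.W₂_le.trans D.P_le_hall))

theorem res₂_mul (θ φ : hall P U →* ℂˣ) : D.res₂ (θ * φ) = D.res₂ θ * D.res₂ φ := rfl

theorem res₂_inv (θ : hall P U →* ℂˣ) : D.res₂ θ⁻¹ = (D.res₂ θ)⁻¹ := rfl

/-- A character fixed by `W₁` is trivial on `C`. -/
theorem fixed_cpart {θ : hall P U →* ℂˣ} (h : D.IsFixed θ) (z : hall P U) (hz : (z : G) ∈ cpart P U) :
    θ z = 1 := by
  obtain ⟨w, hw, hw1⟩ := (Subgroup.bot_or_exists_ne_one W₁).resolve_left D.selfN.1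
  let K : Subgroup G :=
    { carrier := {x | ∃ hx : x ∈ cpart P U, θ ⟨x, D.cpart_le_hall hx⟩ = 1}
      one_mem' := ⟨one_mem _, map_one θ⟩
      mul_mem' := by
        rintro a b ⟨ha, ea⟩ ⟨hb, eb⟩
        refine ⟨mul_mem ha hb, ?_⟩
        rw [show (⟨a * b, _⟩ : hall P U) = ⟨a, D.cpart_le_hall ha⟩ * ⟨b, D.cpart_le_hall hb⟩ from rfl,
          map_mul, ea, eb, one_mul]
      inv_mem' := by
        rintro a ⟨ha, ea⟩
        refine ⟨inv_mem ha, ?_⟩
        rw [show (⟨a⁻¹, _⟩ : hall P U) = (⟨a, D.cpart_le_hall ha⟩)⁻¹ from rfl, map_inv, ea, inv_one] }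
  have hinv : ∀ v ∈ W₁, ∀ x : hall P U, ∀ y : hall P U, (y : G) = v * x * v⁻¹ → θ y = θ x := by
    intro v hv x y e
    conv_rhs => rw [← h v hv]
    exact (cj_apply' (D.mem_norm (D.W₁_le hv)) θ x y e).symm
  have hKW : ∀ v ∈ W₁, ∀ x ∈ K, v * x * v⁻¹ ∈ K := by
    rintro v hv x ⟨hx, ex⟩
    exact ⟨D.conj_cpart hv hx, (hinv v hv ⟨x, D.cpart_le_hall hx⟩ _ rfl).trans ex⟩
  have hmem : w * (z : G) * w⁻¹ * (z : G)⁻¹ ∈ K := by
    have h1 : w * (z : G) * w⁻¹ * (z : G)⁻¹ ∈ cpart P U :=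
      mul_mem (D.conj_cpart hw hz) (inv_mem hz)
    refine ⟨h1, ?_⟩
    rw [show (⟨_, D.cpart_le_hall h1⟩ : hall P U) =
      ⟨w * z * w⁻¹, D.cpart_le_hall (D.conj_cpart hw hz)⟩ * z⁻¹ from rfl, map_mul, map_inv,
      hinv w hw z ⟨w * z * w⁻¹, D.cpart_le_hall (D.conj_cpart hw hz)⟩ rfl, mul_inv_cancel]
  obtain ⟨_, e⟩ := D.mem_of_comm (K := K) (fun x hx => hx.1.1) hKW hw hw1 hz.1 hmem
  exact e

/-- A fixed character is determined by its restriction to `W₂`. -/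
theorem fixed_ext {θ φ : hall P U →* ℂˣ} (hθ : D.IsFixed θ) (hφ : D.IsFixed φ)
    (h : D.res₂ θ = D.res₂ φ) : θ = φ := by
  set χ := θ * φ⁻¹ with hχ
  have hc : D.IsFixed χ := fun w hw => by
    rw [hχ, cj_map_mul (D.mem_norm (D.W₁_le hw)), cj_map_inv (D.mem_norm (D.W₁_le hw)), hθ w hw, hφ w hw]
  have h2 : ∀ x : W₂, χ (Subgroup.inclusion (D.W₂_le.trans D.P_le_hall) x) = 1 := fun x => by
    show D.res₂ χ x = 1
    rw [hχ, D.res₂_mul, D.res₂_inv, h, MonoidHom.mul_apply, MonoidHom.inv_apply, mul_inv_cancel]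
  let K : Subgroup G :=
    { carrier := {x | ∃ hx : x ∈ P, χ ⟨x, D.P_le_hall hx⟩ = 1 ∧
        ∀ u ∈ U, ∀ y : hall P U, (y : G) = u * x * u⁻¹ → χ y = 1}
      one_mem' := ⟨one_mem _, map_one χ, fun u _ y e => by
        rw [show y = 1 from Subtype.ext (by simpa using e), map_one]⟩
      mul_mem' := by
        rintro a b ⟨ha, ea, ua⟩ ⟨hb, eb, ub⟩
        refine ⟨mul_mem ha hb, ?_, fun u hu y e => ?_⟩
        · rw [show (⟨a * b, _⟩ : hall P U) = ⟨a, D.P_le_hall ha⟩ * ⟨b, D.P_le_hall hb⟩ from rfl,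
            map_mul, ea, eb, one_mul]
        · have ha' := D.P_le_hall (D.le_normP (D.U_le hu) ha)
          have hb' := D.P_le_hall (D.le_normP (D.U_le hu) hb)
          rw [show y = ⟨_, ha'⟩ * ⟨_, hb'⟩ from Subtype.ext (by rw [e]; simp [mul_assoc]),
            map_mul, ua u hu _ rfl, ub u hu _ rfl, one_mul]
      inv_mem' := by
        rintro a ⟨ha, ea, ua⟩
        refine ⟨inv_mem ha, ?_, fun u hu y e => ?_⟩
        · rw [show (⟨a⁻¹, _⟩ : hall P U) = (⟨a, D.P_le_hall ha⟩)⁻¹ from rfl, map_inv, ea, inv_one]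
        · have ha' := D.P_le_hall (D.le_normP (D.U_le hu) ha)
          rw [show y = (⟨_, ha'⟩ : hall P U)⁻¹ from Subtype.ext (by rw [e]; simp [mul_assoc]),
            map_inv, ua u hu _ rfl, inv_one] }
  have hinv : ∀ v ∈ W₁, ∀ x : hall P U, ∀ y : hall P U, (y : G) = v * x * v⁻¹ → χ y = χ x := by
    intro v hv x y e
    conv_rhs => rw [← hc v hv]
    exact (cj_apply' (D.mem_norm (D.W₁_le hv)) χ x y e).symm
  -- averaging over `W₁` sends `P` into `W₂`
  haveI : IsMulCommutative P := ⟨⟨fun a b => Subtype.ext (D.P_comm a a.2 b b.2)⟩⟩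
  haveI : Fintype W₁ := Fintype.ofFinite _
  let N : P →* P := ∏ w : W₁, cjHom P (D.P_normal (D.W₁_le w.2))
  have hN2 : ∀ x : P, (N x : G) ∈ W₂ := by
    intro x
    obtain ⟨w, hw, hw1⟩ := (Subgroup.bot_or_exists_ne_one W₁).resolve_left D.selfN.1
    refine D.mem_W₂ hw hw1 (N x).2 ?_
    have hfix : cjHom P (D.P_normal (D.W₁_le hw)) (N x) = N x := by
      simp only [N, MonoidHom.finsetProd_apply, map_prod]
      refine Fintype.prod_equiv (Equiv.mulLeft (⟨w, hw⟩ : W₁)) _ _ fun v => Subtype.ext ?_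
      simp [cjHom, mul_assoc]
    have := congrArg Subtype.val hfix
    exact mul_inv_eq_iff_eq_mul.mp this
  have hP : ∀ x : P, χ ⟨x, D.P_le_hall x.2⟩ = 1 := by
    intro x
    set f : P →* ℂˣ := χ.comp (Subgroup.inclusion D.P_le_hall) with hf
    have h1 : f (N x) = 1 := h2 ⟨_, hN2 x⟩
    have h3 : f (N x) = f x ^ Nat.card W₁ := by
      simp only [N, MonoidHom.finsetProd_apply, map_prod]
      rw [Nat.card_eq_fintype_card, ← Finset.card_univ, ← Finset.prod_const]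
      refine Finset.prod_congr rfl fun w _ => ?_
      exact hinv w w.2 _ _ rfl
    have h4 : f x ^ Nat.card P = 1 := by rw [← map_pow, pow_card_eq_one', map_one]
    have := (pow_gcd_eq_one (a := f x)).mpr ⟨h3.symm.trans h1, h4⟩
    rwa [D.coprime_P, pow_one] at this
  refine mul_inv_eq_one.mp (MonoidHom.ext fun z => ?_)
  obtain ⟨x, hx, c, hcm, e⟩ := D.mem_hall.mp z.2
  rw [show z = ⟨x, D.P_le_hall hx⟩ * ⟨c, D.cpart_le_hall hcm⟩ from Subtype.ext e, map_mul]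
  show χ _ * χ _ = 1
  rw [hP ⟨x, hx⟩, D.fixed_cpart hc _ hcm, one_mul]

theorem exists_phi (ψ : W₂ →* ℂˣ) :
    ∃ θ : hall P U →* ℂˣ, D.IsFixed θ ∧ D.res₂ θ = ψ := by
  haveI : IsMulCommutative P := ⟨⟨fun a b => Subtype.ext (D.P_comm a a.2 b b.2)⟩⟩
  haveI : Fintype W₁ := Fintype.ofFinite _
  let N : P →* P := ∏ w : W₁, cjHom P (D.P_normal (D.W₁_le w.2))
  have hNconj : ∀ (w : G) (hw : w ∈ W₁) (x : P),
      N (cjHom P (D.P_normal (D.W₁_le hw)) x) = N x := by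
    intro w hw x
    simp only [N, MonoidHom.finsetProd_apply]
    refine Fintype.prod_equiv (Equiv.mulRight (⟨w, hw⟩ : W₁)) _ _ fun v => Subtype.ext ?_
    simp [cjHom, mul_assoc]
  have hN2 : ∀ x : P, (N x : G) ∈ W₂ := by
    intro x
    obtain ⟨w, hw, hw1⟩ := (Subgroup.bot_or_exists_ne_one W₁).resolve_left D.selfN.1
    refine D.mem_W₂ hw hw1 (N x).2 ?_
    have hfix : cjHom P (D.P_normal (D.W₁_le hw)) (N x) = N x := by
      simp only [N, MonoidHom.finsetProd_apply, map_prod]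
      refine Fintype.prod_equiv (Equiv.mulLeft (⟨w, hw⟩ : W₁)) _ _ fun v => Subtype.ext ?_
      simp [cjHom, mul_assoc]
    exact mul_inv_eq_iff_eq_mul.mp (congrArg Subtype.val hfix)
  have hcop : Nat.Coprime (Nat.card W₁) (Nat.card W₂) :=
    D.coprime_P.coprime_dvd_right (Subgroup.card_dvd_of_le D.W₂_le)
  obtain ⟨k, hk⟩ := Nat.exists_mul_mod_eq_one_of_coprime hcop D.p_prime.one_lt
  let π : P →* W₂ := MonoidHom.mk' (fun x => (⟨N x, hN2 x⟩ : W₂))
    (fun a b => Subtype.ext (by simp))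
  let φ : P →* ℂˣ := (ψ.comp π) ^ k
  have hφinv : ∀ b ∈ cpart P U, ∀ (x y : P), (y : G) = b * x * b⁻¹ → φ y = φ x := by
    intro b hb x y e
    rw [show y = x from Subtype.ext (by rw [e, D.cpart_comm hb x.2, mul_inv_cancel_right])]
  obtain ⟨ξ, hξP, hξC⟩ : ∃ ξ : hall P U →* ℂˣ,
      (∀ (x : P) (z : hall P U), (z : G) = x → ξ z = φ x) ∧
        ∀ (b : cpart P U) (z : hall P U), (z : G) = b → ξ z = (1 : cpart P U →* ℂˣ) b :=
    exists_ext (inf_le_left.trans D.U_le_normP)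
    (le_bot_iff.mp ((inf_le_inf_left P inf_le_left).trans D.inf_PU.le)) φ (1 : cpart P U →* ℂˣ) hφinv
  refine ⟨ξ, fun w hw => MonoidHom.ext fun z => ?_, MonoidHom.ext fun x => ?_⟩
  · rw [cj_apply (D.mem_norm (D.W₁_le hw))]
    obtain ⟨x, hx, c, hc, e⟩ := D.mem_hall.mp z.2
    have e1 : z = (⟨x, D.P_le_hall hx⟩ : hall P U) * ⟨c, D.cpart_le_hall hc⟩ := Subtype.ext e
    have hx' := D.le_normP (D.W₁_le hw) hx
    have hc' := D.conj_cpart hw hc
    have e2 : ∀ h : w * (z : G) * w⁻¹ ∈ hall P U, (⟨w * (z : G) * w⁻¹, h⟩ : hall P U) =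
        ⟨_, D.P_le_hall hx'⟩ * ⟨_, D.cpart_le_hall hc'⟩ := fun h => Subtype.ext (by
      show w * (z : G) * w⁻¹ = _ * _
      rw [e]; group)
    rw [e2, e1, map_mul, map_mul, hξP ⟨_, hx'⟩ ⟨_, D.P_le_hall hx'⟩ rfl,
      hξP ⟨x, hx⟩ ⟨x, D.P_le_hall hx⟩ rfl, hξC ⟨_, hc'⟩ ⟨_, D.cpart_le_hall hc'⟩ rfl,
      hξC ⟨c, hc⟩ ⟨c, D.cpart_le_hall hc⟩ rfl]
    congr 1
    simp only [φ, π, MonoidHom.pow_apply, MonoidHom.comp_apply, MonoidHom.mk'_apply]
    congr 2
    exact Subtype.ext (congrArg (fun t : P => (t : G)) (hNconj w hw ⟨x, hx⟩))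
  · have e : D.res₂ ξ x = φ ⟨x, D.W₂_le x.2⟩ := hξP ⟨x, D.W₂_le x.2⟩ _ rfl
    rw [e]
    have hπ : π ⟨x, D.W₂_le x.2⟩ = x ^ Nat.card W₁ := by
      refine Subtype.ext ?_
      show ((N ⟨x, D.W₂_le x.2⟩ : P) : G) = _
      simp only [N, MonoidHom.finsetProd_apply]
      rw [Finset.prod_congr rfl (g := fun _ => (⟨x, D.W₂_le x.2⟩ : P)) (fun w _ => Subtype.ext (by
        show (w : G) * x * (w : G)⁻¹ = x
        rw [D.selfN.2.2.2.1 w w.2 x x.2, mul_inv_cancel_right])), Finset.prod_const, Finset.card_univ,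
        ← Nat.card_eq_fintype_card]
      simp
    simp only [φ, MonoidHom.pow_apply, MonoidHom.comp_apply, hπ, map_pow, ← pow_mul]
    have hord : ψ x ^ Nat.card W₂ = 1 := by rw [← map_pow, pow_card_eq_one', map_one]
    rw [pow_eq_pow_mod (Nat.card W₁ * k) hord, hk.2, pow_one]

/-- The character of `H` fixed by `W₁` with restriction `ψ` to `W₂`. -/
noncomputable def phi (ψ : W₂ →* ℂˣ) : hall P U →* ℂˣ := Classical.choose (D.exists_phi ψ)

theorem phi_fixed (ψ : W₂ →* ℂˣ) : D.IsFixed (D.phi ψ) :=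
  (Classical.choose_spec (D.exists_phi ψ)).1

theorem res₂_phi (ψ : W₂ →* ℂˣ) : D.res₂ (D.phi ψ) = ψ :=
  (Classical.choose_spec (D.exists_phi ψ)).2

theorem eq_phi {θ : hall P U →* ℂˣ} (h : D.IsFixed θ) : θ = D.phi (D.res₂ θ) :=
  D.fixed_ext h (D.phi_fixed _) (D.res₂_phi _).symm

theorem phi_one : D.phi 1 = 1 :=
  (D.fixed_ext (fun w _ => cj_map_one w) (D.phi_fixed 1) (by rw [D.res₂_phi]; rfl)).symm

theorem phi_inv (ψ : W₂ →* ℂˣ) : D.phi ψ⁻¹ = (D.phi ψ)⁻¹ :=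
  D.fixed_ext (D.phi_fixed _) (fun w hw => by
    rw [cj_map_inv (D.mem_norm (D.W₁_le hw)), D.phi_fixed ψ w hw]) (by
    rw [D.res₂_inv, D.res₂_phi, D.res₂_phi])

theorem phi_cpart (ψ : W₂ →* ℂˣ) (z : hall P U) (hz : (z : G) ∈ cpart P U) : D.phi ψ z = 1 :=
  D.fixed_cpart (D.phi_fixed ψ) z hz

/-- The stabiliser of a non-trivial fixed character inside `U` is `C`. -/
theorem stab_U {ψ : W₂ →* ℂˣ} (hψ : ψ ≠ 1) {u : G} (hu : u ∈ U)
    (h : cj (hall P U) u (D.phi ψ) = D.phi ψ) : u ∈ cpart P U := by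
  set θ := D.phi ψ with hθ
  set B : Set G := {b | b ∈ U ∧ cj (hall P U) b θ = θ} with hB
  have hBW : ∀ w ∈ W₁, ∀ b ∈ B, w * b * w⁻¹ ∈ B := by
    intro w hw b hb
    refine ⟨D.conjU hw hb.1, ?_⟩
    have hw' := D.mem_norm (D.W₁_le hw)
    have hb' := D.mem_norm (D.U_le hb.1)
    rw [cj_mul (mul_mem hw' hb') (inv_mem hw'), cj_mul hw' hb', D.phi_fixed ψ w hw, hb.2,
      (cj_eq_iff hw' θ θ).mp (D.phi_fixed ψ w hw)]
  let K : Subgroup G :=
    { carrier := {x | x ∈ P ∧ ∀ s ∈ U ⊔ W₁, ∀ y : hall P U, (y : G) = s * x * s⁻¹ → θ y = 1}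
      one_mem' := ⟨one_mem _, fun s _ y e => by
        rw [show y = 1 from Subtype.ext (by simpa using e), map_one]⟩
      mul_mem' := by
        rintro a b ⟨ha, ea⟩ ⟨hb, eb⟩
        refine ⟨mul_mem ha hb, fun s hs y e => ?_⟩
        have ha' := D.P_le_hall (D.le_normP (sup_le D.U_le D.W₁_le hs) ha)
        have hb' := D.P_le_hall (D.le_normP (sup_le D.U_le D.W₁_le hs) hb)
        rw [show y = ⟨_, ha'⟩ * ⟨_, hb'⟩ from Subtype.ext (by rw [e]; simp [mul_assoc]),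
          map_mul, ea s hs _ rfl, eb s hs _ rfl, one_mul]
      inv_mem' := by
        rintro a ⟨ha, ea⟩
        refine ⟨inv_mem ha, fun s hs y e => ?_⟩
        have ha' := D.P_le_hall (D.le_normP (sup_le D.U_le D.W₁_le hs) ha)
        rw [show y = (⟨_, ha'⟩ : hall P U)⁻¹ from Subtype.ext (by rw [e]; simp [mul_assoc]),
          map_inv, ea s hs _ rfl, inv_one] }
  have hKinv : ∀ t ∈ U ⊔ W₁, ∀ x ∈ K, t * x * t⁻¹ ∈ K := by
    rintro t ht x ⟨hx, ex⟩
    refine ⟨D.le_normP (sup_le D.U_le D.W₁_le ht) hx, fun s hs y e => ex (s * t) (mul_mem hs ht) y ?_⟩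
    rw [e]; group
  have h2 : ¬ W₂ ≤ K := by
    intro hle
    refine hψ (MonoidHom.ext fun x => ?_)
    rw [← D.res₂_phi ψ]
    exact (hle x.2).2 1 (one_mem _) _ (by simp)
  have hbot := D.eq_bot_of_invariant (K := K) (fun x hx => hx.1)
    (fun t ht => hKinv t (le_sup_left (b := W₁) ht)) (fun t ht => hKinv t (le_sup_right (a := U) ht)) h2
  refine ⟨hu, fun x hx => ?_⟩
  have hm : u * x * u⁻¹ * x⁻¹ ∈ K := by
    refine ⟨mul_mem (D.le_normP (D.U_le hu) hx) (inv_mem hx), fun s hs y e => ?_⟩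
    have hg : (s : G) ∈ (↑(U ⊔ W₁) : Set G) := hs
    rw [Subgroup.coe_mul_of_right_le_normalizer_left U W₁ D.U_normal] at hg
    obtain ⟨v, hv, w, hw, rfl⟩ := hg
    have hb : (v * w) * u * (v * w)⁻¹ ∈ B := by
      have h1 := hBW w hw u ⟨hu, h⟩
      have : (v * w) * u * (v * w)⁻¹ = w * u * w⁻¹ := by
        calc (v * w) * u * (v * w)⁻¹ = v * (w * u * w⁻¹) * v⁻¹ := by group
          _ = (w * u * w⁻¹) * v * v⁻¹ := by rw [D.U_comm v hv _ h1.1]
          _ = w * u * w⁻¹ := by group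
      rw [this]; exact h1
    set b := (v * w) * u * (v * w)⁻¹ with hbdef
    have hs' : v * w ∈ S := mul_mem (D.U_le hv) (D.W₁_le hw)
    have hx' : (v * w) * x * (v * w)⁻¹ ∈ hall P U := D.P_le_hall (D.le_normP hs' hx)
    have hbx : b * ((v * w) * x * (v * w)⁻¹) * b⁻¹ ∈ hall P U :=
      D.normal_hall (D.U_le hb.1) hx'
    rw [show y = ⟨_, hbx⟩ * (⟨_, hx'⟩ : hall P U)⁻¹ from Subtype.ext (by
      simp only [e, Subgroup.coe_mul, Subgroup.coe_inv, hbdef]; group), map_mul, map_inv,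
      ← cj_apply' (D.mem_norm (D.U_le hb.1)) θ ⟨_, hx'⟩ ⟨_, hbx⟩ rfl, hb.2, mul_inv_cancel]
  rw [hbot, Subgroup.mem_bot, mul_inv_eq_one] at hm
  exact (mul_inv_eq_iff_eq_mul.mp hm).symm

theorem cj_phi_decomp (ψ : W₂ →* ℂˣ) {s : G} (hs : s ∈ S) :
    ∃ u ∈ U, ∃ w ∈ W₁, ∃ x ∈ P, s = x * u * w ∧
      cj (hall P U) s (D.phi ψ) = cj (hall P U) w (cj (hall P U) u (D.phi ψ)) := by
  obtain ⟨k, hk, w, hw, rfl⟩ := D.mem_S.mp hs
  obtain ⟨x, hx, u, hu, rfl⟩ := D.mem_PU.mp hk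
  refine ⟨u, hu, w, hw, x, hx, rfl, ?_⟩
  rw [cj_mul (D.mem_norm (mul_mem (D.P_le hx) (D.U_le hu))) (D.mem_norm (D.W₁_le hw)),
    cj_mul (D.mem_norm (D.P_le hx)) (D.mem_norm (D.U_le hu)), D.cj_hall _ (D.P_le_hall hx)]

/-- Distinct fixed characters are not conjugate in `S`. -/
theorem phi_conj {ψ ψ' : W₂ →* ℂˣ} (hψ : ψ ≠ 1) {s : G} (hs : s ∈ S)
    (h : cj (hall P U) s (D.phi ψ) = D.phi ψ') : ψ = ψ' ∧ s ∈ hall P U ⊔ W₁ := by
  obtain ⟨u, hu, w, hw, x, hx, rfl, e⟩ := D.cj_phi_decomp ψ hs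
  set H := hall P U with hH
  have hw' := D.mem_norm (D.W₁_le hw)
  have hu' := D.mem_norm (D.U_le hu)
  have h1 : cj H u (D.phi ψ) = D.phi ψ' := by
    rw [e, cj_eq_iff hw'] at h
    rw [← h, (cj_eq_iff hw' _ _).mp (D.phi_fixed ψ' w hw)]
  obtain ⟨v, hv, hv1⟩ := (Subgroup.bot_or_exists_ne_one W₁).resolve_left D.selfN.1
  have hv' := D.mem_norm (D.W₁_le hv)
  have h2 : cj H (v * u * v⁻¹) (D.phi ψ) = D.phi ψ' := by
    rw [cj_mul (mul_mem hv' hu') (inv_mem hv'), cj_mul hv' hu', D.phi_fixed ψ v hv, h1,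
      (cj_eq_iff hv' _ _).mp (D.phi_fixed ψ' v hv)]
  have h3 : cj H (v * u * v⁻¹ * u⁻¹) (D.phi ψ) = D.phi ψ := by
    rw [cj_mul (mul_mem (mul_mem hv' hu') (inv_mem hv')) (inv_mem hu'), h2, ← h1,
      cj_inv_cancel hu']
  have hm := D.stab_U hψ (U.mul_mem (D.conjU hv hu) (U.inv_mem hu)) h3
  have huC := D.mem_of_comm (K := cpart P U) inf_le_left (fun w hw _ hx => D.conj_cpart hw hx)
    hv hv1 hu hm
  refine ⟨?_, mul_mem (le_sup_left (b := W₁) (mul_mem (D.P_le_hall hx) (D.cpart_le_hall huC)))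
    (le_sup_right (a := H) hw)⟩
  rw [D.cj_hall _ (D.cpart_le_hall huC)] at h1
  rw [← D.res₂_phi ψ, h1, D.res₂_phi]

theorem phi_stab {ψ : W₂ →* ℂˣ} (hψ : ψ ≠ 1) {s : G} (hs : s ∈ S) :
    cj (hall P U) s (D.phi ψ) = D.phi ψ ↔ s ∈ hall P U ⊔ W₁ := by
  refine ⟨fun h => (D.phi_conj hψ hs h).2, fun hm => ?_⟩
  have hN : W₁ ≤ Subgroup.normalizer (hall P U : Set G) := fun w hw => D.mem_norm (D.W₁_le hw)
  have hg : s ∈ (↑(hall P U ⊔ W₁) : Set G) := hm
  rw [Subgroup.coe_mul_of_right_le_normalizer_left _ _ hN] at hg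
  obtain ⟨h, hh, w, hw, rfl⟩ := hg
  rw [cj_mul (D.mem_norm (D.hall_le hh)) (hN hw), D.cj_hall _ hh, D.phi_fixed ψ w hw]

theorem card_HW : Nat.card ↥(hall P U ⊔ W₁) = Nat.card ↥(hall P U) * Nat.card W₁ := by
  have hN : W₁ ≤ Subgroup.normalizer (hall P U : Set G) := fun w hw => D.mem_norm (D.W₁_le hw)
  have h : Function.Bijective (fun p : hall P U × W₁ => (⟨(p.1 : G) * p.2,
      mul_mem (le_sup_left (b := W₁) p.1.2) (le_sup_right (a := hall P U) p.2.2)⟩ :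
        ↥(hall P U ⊔ W₁))) := by
    constructor
    · rintro ⟨a, b⟩ ⟨a', b'⟩ e
      have e' : (a : G) * b = a' * b' := congrArg Subtype.val e
      have hm : (a' : G)⁻¹ * a ∈ (P ⊔ U) ⊓ W₁ := by
        refine ⟨D.hall_le_PU (mul_mem (inv_mem a'.2) a.2), ?_⟩
        have : (a' : G)⁻¹ * a = b' * (b : G)⁻¹ := by rw [eq_mul_inv_iff_mul_eq, mul_assoc, e']; group
        rw [this]
        exact W₁.mul_mem b'.2 (W₁.inv_mem b.2)
      rw [D.inf_W₁, Subgroup.mem_bot, inv_mul_eq_one] at hm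
      have hab : a' = a := Subtype.ext hm
      subst hab
      exact Prod.ext rfl (Subtype.ext (mul_left_cancel e'))
    · intro g
      have hg : (g : G) ∈ (↑(hall P U ⊔ W₁) : Set G) := g.2
      rw [Subgroup.coe_mul_of_right_le_normalizer_left _ _ hN] at hg
      obtain ⟨a, ha, b, hb, e⟩ := hg
      exact ⟨(⟨a, ha⟩, ⟨b, hb⟩), Subtype.ext e⟩
  rw [← Nat.card_congr (Equiv.ofBijective _ h), Nat.card_prod]

/-- The orbits of the non-trivial fixed characters give `u (p - 1) ≤ p ^ q - 1`. -/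
theorem u_bound :
    (cpart P U).relIndex U * (Nat.card W₂ - 1) ≤ Nat.card W₂ ^ Nat.card W₁ - 1 := by
  classical
  haveI : IsMulCommutative W₂ := isMulCommutative2 D.selfN
  haveI : IsMulCommutative P := ⟨⟨fun a b => Subtype.ext (D.P_comm a a.2 b b.2)⟩⟩
  haveI := finite_dual P
  haveI := finite_dual W₂
  let C' := (cpart P U).subgroupOf U
  let H := hall P U
  let F : {ψ : W₂ →* ℂˣ // ψ ≠ 1} × (U ⧸ C') → {f : P →* ℂˣ // f ≠ 1} := fun z =>
    ⟨(cj H ((Quotient.out z.2 : U) : G)⁻¹ (D.phi z.1.1)).comp (Subgroup.inclusion D.P_le_hall), ?_⟩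
  · have hinj : Function.Injective F := by
      rintro ⟨⟨ψ, hψ⟩, a⟩ ⟨⟨ψ', hψ'⟩, b⟩ e
      set s := ((Quotient.out a : U) : G)⁻¹ with hs
      set t := ((Quotient.out b : U) : G)⁻¹ with ht
      have hsS : s ∈ S := S.inv_mem (D.U_le (Quotient.out a).2)
      have htS : t ∈ S := S.inv_mem (D.U_le (Quotient.out b).2)
      have hst : cj H s (D.phi ψ) = cj H t (D.phi ψ') := by
        refine MonoidHom.ext fun z => ?_
        obtain ⟨x, hx, c, hc, ez⟩ := D.mem_hall.mp z.2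
        have hcc : ∀ r ∈ U, ∀ χ : W₂ →* ℂˣ,
            cj H r (D.phi χ) ⟨c, D.cpart_le_hall hc⟩ = 1 := fun r hr χ => by
          rw [cj_apply (D.mem_norm (D.U_le hr))]
          refine D.phi_cpart χ _ ?_
          show r * c * r⁻¹ ∈ cpart P U
          rw [D.U_comm r hr c hc.1, mul_inv_cancel_right]
          exact hc
        rw [show z = ⟨x, D.P_le_hall hx⟩ * ⟨c, D.cpart_le_hall hc⟩ from Subtype.ext ez, map_mul,
          map_mul, hcc s (U.inv_mem (Quotient.out a).2) ψ, hcc t (U.inv_mem (Quotient.out b).2) ψ',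
          mul_one, mul_one]
        exact DFunLike.congr_fun (congrArg Subtype.val e) ⟨x, hx⟩
      have h2 : cj H (s * t⁻¹) (D.phi ψ) = D.phi ψ' := by
        rw [cj_mul (D.mem_norm hsS) (inv_mem (D.mem_norm htS)), hst, cj_inv_cancel (D.mem_norm htS)]
      obtain ⟨e1, -⟩ := D.phi_conj hψ (mul_mem hsS (inv_mem htS)) h2
      subst e1
      have hm := D.stab_U hψ (U.mul_mem (U.inv_mem (Quotient.out a).2)
        (U.inv_mem (U.inv_mem (Quotient.out b).2))) h2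
      refine Prod.ext rfl ?_
      rw [← Quotient.out_eq a, ← Quotient.out_eq b]
      refine QuotientGroup.eq.mpr (Subgroup.mem_subgroupOf.mpr ?_)
      show ((Quotient.out a : U) : G)⁻¹ * (Quotient.out b : U) ∈ cpart P U
      simpa [hs, ht] using hm
    haveI : Finite (P →* ℂˣ) := finite_dual P
    have h := Nat.card_le_card_of_injective F hinj
    have hne : ∀ (A : Type u) [Group A] [Finite A] [IsMulCommutative A],
        Nat.card {f : A →* ℂˣ // f ≠ 1} = Nat.card A - 1 := by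
      intro A _ _ _
      haveI := finite_dual A
      haveI := Fintype.ofFinite (A →* ℂˣ)
      rw [← card_hom (H := A), Nat.card_eq_fintype_card, Nat.card_eq_fintype_card,
        Fintype.card_subtype_compl, Fintype.card_subtype_eq]
    rw [Nat.card_prod, hne W₂, hne P, D.P_card] at h
    rw [mul_comm]
    exact h
  · intro hc
    refine z.1.2 (MonoidHom.ext fun x => ?_)
    set t := ((Quotient.out z.2 : U) : G)⁻¹ with ht
    have htS : t ∈ S := S.inv_mem (D.U_le (Quotient.out z.2).2)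
    have hx := D.le_normP (S.inv_mem htS) (D.W₂_le x.2)
    have h1 := DFunLike.congr_fun hc ⟨_, hx⟩
    rw [MonoidHom.comp_apply, cj_apply' (D.mem_norm htS) _ _
      (Subgroup.inclusion (D.W₂_le.trans D.P_le_hall) x) (by simp [mul_assoc])] at h1
    rw [← D.res₂_phi z.1.1]
    exact h1

/-- A character of `H` in no orbit of a fixed character and non-trivial on `P`. -/
def Generic (θ : hall P U →* ℂˣ) : Prop :=
  (∃ z : hall P U, (z : G) ∈ P ∧ θ z ≠ 1) ∧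
    ∀ s ∈ S, ∀ ψ : W₂ →* ℂˣ, cj (hall P U) s (D.phi ψ) ≠ θ

theorem cj_generic {θ : hall P U →* ℂˣ} (hθ : D.Generic θ) {t : G} (ht : t ∈ S) :
    D.Generic (cj (hall P U) t θ) := by
  obtain ⟨⟨z, hz, hz1⟩, h2⟩ := hθ
  refine ⟨⟨⟨t⁻¹ * z * t, by simpa using D.normal_hall (S.inv_mem ht) z.2⟩,
    by simpa using D.le_normP (S.inv_mem ht) hz, ?_⟩, fun s hs ψ h => ?_⟩
  · rwa [cj_apply' (D.mem_norm ht) θ _ z (by simp [mul_assoc])]
  · refine h2 (s * t⁻¹) (mul_mem hs (inv_mem ht)) ψ ?_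
    rw [cj_mul (D.mem_norm hs) (inv_mem (D.mem_norm ht)), h, cj_inv_cancel (D.mem_norm ht)]

/-- The stabiliser of a generic character lies in `P U`. -/
theorem generic_stab {θ : hall P U →* ℂˣ} (hθ : D.Generic θ) {s : G} (hs : s ∈ S)
    (h : cj (hall P U) s θ = θ) : s ∈ P ⊔ U := by
  by_contra hn
  obtain ⟨t, ht, c, hc, w, hw, hw1, e⟩ := D.exists_conj_W hs hn
  have ht' := D.mem_norm ht
  have hc' := D.mem_norm (D.P_le (D.W₂_le hc))
  have hw' := D.mem_norm (D.W₁_le hw)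
  set η := cj (hall P U) t θ with hη
  have h1 : cj (hall P U) w η = η := by
    have h2 : cj (hall P U) (s * t) θ = η := by
      rw [cj_mul (D.mem_norm hs) ht', h]
    rw [show s * t = t * (c * w) from by rw [e]; group, cj_mul ht' (mul_mem hc' hw'),
      cj_mul hc' hw', ← hη, D.cj_hall η (D.P_le_hall (D.W₂_le hc))] at h2
    exact h2
  have hfix : D.IsFixed η := by
    intro v hv
    haveI : Fact (Nat.card W₁).Prime := ⟨D.q_prime⟩
    obtain ⟨n, hn⟩ := (mem_powers_iff_mem_zpowers).mpr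
      (mem_zpowers_of_prime_card (g := (⟨w, hw⟩ : W₁)) (g' := ⟨v, hv⟩) rfl
        (fun e => hw1 (congrArg Subtype.val e)))
    have hn' : w ^ n = v := congrArg Subtype.val hn
    rw [← hn']
    clear hn hn'
    induction n with
    | zero => rw [pow_zero, cj_one]
    | succ n ih => rw [pow_succ, cj_mul (pow_mem hw' n) hw', ih, h1]
  exact hθ.2 t⁻¹ (S.inv_mem ht) (D.res₂ η) (by rw [← D.eq_phi hfix, hη, cj_inv_cancel ht'])

end Side

end Cfsg.Agent.OddChar.P13
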