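/-
Peterfalvi section 13: inner products of functions induced from `H`, and the exact value of
`Ind_H^G (φ_ψ - φ_ψ')` on the family `η`.
-/
import Cfsg.Agent.Lib.OddChar.P13.Fixed
import Cfsg.Agent.Lib.OddChar.P13.Fam
import Cfsg.Agent.Lib.Char.Dade

set_option autoImplicit false
set_option linter.unusedSectionVars false
set_option linter.style.haveILetI false
set_option linter.unusedVariables false
set_option linter.unnecessarySimpa false

namespace Cfsg.Agent.OddChar.P13

open scoped ComplexConjugate IsMulCommutative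
open Cfsg.Agent.Char Cfsg.Agent.Char.CyclicTI

universe u

variable {G : Type u} [Group G] [Fintype G] {S P U W₁ W₂ : Subgroup G}

open Classical in
/-- `Ind_H^G (θ - φ)`. -/
noncomputable def bf {H : Subgroup G} (θ φ : H →* ℂˣ) : G → ℂ :=
  Cfsg.indFun H (lf θ - lf φ)

theorem bf_isGen {H : Subgroup G} (θ φ : H →* ℂˣ) :
    Cfsg.IsGeneralizedCharacter G (bf θ φ) := by
  classical
  haveI : Fintype H := Fintype.ofFinite _
  exact IsGeneralizedCharacter.indFun H (IsGeneralizedCharacter.sub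
    (IsGeneralizedCharacter.of_isCharacter (IsIrrCharacter.isCharacter (isIrrCharacter_linear θ)))
    (IsGeneralizedCharacter.of_isCharacter (IsIrrCharacter.isCharacter (isIrrCharacter_linear φ))))

theorem bf_sub {H : Subgroup G} (θ φ χ : H →* ℂˣ) : bf θ χ - bf φ χ = bf θ φ := by
  simp only [bf, indFun_sub]; abel

theorem bf_add {H : Subgroup G} (θ φ χ : H →* ℂˣ) : bf θ φ + bf φ χ = bf θ χ := by
  simp only [bf, indFun_sub]; abel

theorem SignIrr_isGen {f : G → ℂ} (h : SignIrr f) : Cfsg.IsGeneralizedCharacter G f := by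
  rcases h with h | h
  · exact IsGeneralizedCharacter.of_isCharacter (IsIrrCharacter.isCharacter h)
  · simpa using IsGeneralizedCharacter.neg (IsGeneralizedCharacter.of_isCharacter (IsIrrCharacter.isCharacter h))

namespace Side

variable (D : Side S P U W₁ W₂)
include D

theorem ti_mem {h : G} (hh : h ∈ hall P U) (h1 : h ≠ 1) (g : G) (hg : g * h * g⁻¹ ∈ hall P U) :
    g ∈ S := D.mem_of_conj hh h1 hg

open Classical in
theorem inner_bf (θ θ' φ φ' : hall P U →* ℂˣ) :
    Cfsg.classInner (bf θ θ') (bf φ φ') = (Nat.card ↥(hall P U) : ℂ)⁻¹ *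
      ((fixCount (hall P U) S θ φ : ℂ) - fixCount (hall P U) S θ φ' - fixCount (hall P U) S θ' φ +
        fixCount (hall P U) S θ' φ') := by
  haveI : Fintype (hall P U) := Fintype.ofFinite _
  haveI : Fintype S := Fintype.ofFinite _
  rw [bf, bf, inner_ind_TI (D.self_le_hall_norm) (fun h hh h1 g hg => D.ti_mem hh h1 g hg)
    (by simp [lf])]
  congr 1
  have key : ∀ s : S, Cfsg.classInner (lf θ - lf θ')
      (fun h : (hall P U) => (lf φ - lf φ') ⟨(s : G)⁻¹ * h * s, by
        have := D.normal_hall (S.inv_mem s.2) h.2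
        simpa using this⟩) =
      (if θ = cj (hall P U) (s : G)⁻¹ φ then 1 else 0) - (if θ = cj (hall P U) (s : G)⁻¹ φ' then 1 else 0) -
        (if θ' = cj (hall P U) (s : G)⁻¹ φ then 1 else 0) + (if θ' = cj (hall P U) (s : G)⁻¹ φ' then 1 else 0) := by
    intro s
    have e : (fun h : (hall P U) => (lf φ - lf φ') ⟨(s : G)⁻¹ * h * s, by
        have := D.normal_hall (S.inv_mem s.2) h.2
        simpa using this⟩) = lf (cj (hall P U) (s : G)⁻¹ φ) - lf (cj (hall P U) (s : G)⁻¹ φ') := by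
      funext h
      simp only [Pi.sub_apply, lf, cj_apply (D.mem_norm (S.inv_mem s.2)), inv_inv]
    rw [e, classInner_sub_left, classInner_sub_right, classInner_sub_right, classInner_lin,
      classInner_lin, classInner_lin, classInner_lin]
    ring
  rw [Finset.sum_congr rfl fun s _ => key s]
  have cnt : ∀ a b : (hall P U) →* ℂˣ, ∑ s : S, (if a = cj (hall P U) (s : G)⁻¹ b then (1 : ℂ) else 0) =
      fixCount (hall P U) S a b := by
    intro a b
    rw [Finset.sum_boole, ← Fintype.card_subtype, ← Nat.card_eq_fintype_card, fixCount]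
    congr 1
    refine Nat.card_congr (Equiv.subtypeEquivRight fun s => ?_)
    rw [cj_eq_iff (D.mem_norm s.2), eq_comm]
  simp only [Finset.sum_add_distrib, Finset.sum_sub_distrib]
  rw [← cnt θ φ, ← cnt θ φ', ← cnt θ' φ, ← cnt θ' φ']
  congr!

theorem fixCount_phi {ψ : W₂ →* ℂˣ} (hψ : ψ ≠ 1) :
    fixCount (hall P U) S (D.phi ψ) (D.phi ψ) = Nat.card ↥(hall P U) * Nat.card W₁ := by
  rw [fixCount_self (L := hall P U ⊔ W₁) (sup_le D.hall_le D.W₁_le)
    (fun s hs => D.phi_stab hψ hs), D.card_HW]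

theorem fixCount_phi_ne {ψ ψ' : W₂ →* ℂˣ} (hψ : ψ ≠ 1) (h : ψ ≠ ψ') :
    fixCount (hall P U) S (D.phi ψ) (D.phi ψ') = 0 :=
  fixCount_eq_zero fun _ hs e => h (D.phi_conj hψ hs e).1

theorem fixCount_generic {θ : hall P U →* ℂˣ} (hθ : D.Generic θ) (ψ : W₂ →* ℂˣ) :
    fixCount (hall P U) S θ (D.phi ψ) = 0 ∧ fixCount (hall P U) S (D.phi ψ) θ = 0 := by
  have h : fixCount (hall P U) S (D.phi ψ) θ = 0 := fixCount_eq_zero fun s hs => hθ.2 s hs ψ
  exact ⟨(fixCount_symm D.self_le_hall_norm _ _).trans h, h⟩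

theorem fixCount_phi_pos (θ : hall P U →* ℂˣ) :
    0 < fixCount (hall P U) S θ θ := by
  haveI : Nonempty {s : S // cj (hall P U) (s : G) θ = θ} := ⟨⟨1, cj_one θ⟩⟩
  exact Nat.card_pos

/-- An element `x y` with `x ∈ W₁`, `y ∈ W₂` both non-trivial is conjugate to no element of `H`. -/
theorem reg_not_hall {x : W₁} {y : W₂} (hx : x ≠ 1) (hy : y ≠ 1) (g : G) :
    g * ((x : G) * y) * g⁻¹ ∉ hall P U := by
  intro h
  set n := Nat.card ↥(hall P U) with hn
  have h1 : ((x : G) * y) ^ n = 1 := by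
    have := Subgroup.orderOf_dvd_natCard (hall P U) h
    rw [orderOf_dvd_iff_pow_eq_one, conj_pow, conj_eq_one_iff] at this
    exact this
  have hc : Commute (x : G) (y : G) := D.selfN.2.2.2.1 x x.2 y y.2
  rw [hc.mul_pow, mul_eq_one_iff_eq_inv] at h1
  have hm : (x : G) ^ n ∈ W₁ ⊓ W₂ :=
    ⟨W₁.pow_mem x.2 n, by rw [h1]; exact W₂.inv_mem (W₂.pow_mem y.2 n)⟩
  rw [D.selfN.2.2.1, Subgroup.mem_bot] at hm
  have hcop : Nat.Coprime (Nat.card W₁) n := by
    refine Nat.Coprime.coprime_dvd_right (Subgroup.card_dvd_of_le D.hall_le_PU) ?_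
    rw [D.card_PU]
    exact D.coprime_P.mul_right D.coprime_U
  have h2 : (x : G) ^ Nat.card W₁ = 1 := by
    rw [← orderOf_dvd_iff_pow_eq_one]; exact Subgroup.orderOf_dvd_natCard W₁ x.2
  have := (pow_gcd_eq_one (a := (x : G))).mpr ⟨h2, hm⟩
  rw [hcop, pow_one] at this
  exact hx (Subtype.ext this)

theorem bf_reg (θ φ : hall P U →* ℂˣ) (x : W₁) (y : W₂) (hx : x ≠ 1) (hy : y ≠ 1) :
    bf θ φ ((x : G) * y) = 0 := by
  classical
  rw [bf, indFun_eq_zero_of_forall]
  intro g
  have := D.reg_not_hall hx hy g⁻¹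
  simpa using this

theorem bf_off (θ φ : hall P U →* ℂˣ) {g : G} (hg : ∀ z : G, z * g * z⁻¹ ∉ hall P U) :
    bf θ φ g = 0 := by
  classical
  rw [bf, indFun_eq_zero_of_forall]
  intro z
  simpa using hg z⁻¹

open Classical in
theorem bf_conj (θ φ : hall P U →* ℂˣ) {t : G} (ht : t ∈ S) :
    bf (cj (hall P U) t θ) φ = bf θ φ := by
  rw [bf, bf, indFun_sub, indFun_sub]
  congr 1
  funext g
  rw [indFun_apply, indFun_apply]
  congr 1
  refine Fintype.sum_equiv (Equiv.mulRight t⁻¹) _ _ fun x => ?_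
  have e : (x * t⁻¹)⁻¹ * g * (x * t⁻¹) = t * (x⁻¹ * g * x) * t⁻¹ := by group
  simp only [Equiv.coe_mulRight, e]
  by_cases hm : x⁻¹ * g * x ∈ hall P U
  · rw [extendByZero_mem _ _ hm, extendByZero_mem _ _ (D.normal_hall ht hm)]
    simp only [lf]
    rw [cj_apply (D.mem_norm ht)]
  · rw [extendByZero_not_mem _ _ hm, extendByZero_not_mem]
    intro h
    refine hm ?_
    have := D.normal_hall (S.inv_mem ht) h
    simpa [mul_assoc] using this

variable {η : (W₁ →* ℂˣ) → (W₂ →* ℂˣ) → G → ℂ} (F : Fam W₁ W₂ η)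
include F

theorem bf_one_one {θ φ : hall P U →* ℂˣ} (hθ : θ ≠ 1) (hφ : φ ≠ 1) :
    Cfsg.classInner (bf θ φ) (η 1 1) = 0 := by
  classical
  haveI : Fintype ↥(hall P U) := Fintype.ofFinite _
  rw [F.one, bf, classInner_indFun_left _ _ (fun _ _ => rfl)]
  have : ∀ χ : hall P U →* ℂˣ, χ ≠ 1 → Cfsg.classInner (lf χ) (fun _ => 1) = 0 := by
    intro χ hχ
    simp [Cfsg.classInner, sum_lin hχ, lf]
  rw [classInner_sub_left, this θ hθ, this φ hφ, sub_zero]

theorem bf_grid {θ φ : hall P U →* ℂˣ} (hθ : θ ≠ 1) (hφ : φ ≠ 1) (a : W₁ →* ℂˣ) (b : W₂ →* ℂˣ) :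
    Cfsg.classInner (bf θ φ) (η a b) =
      Cfsg.classInner (bf θ φ) (η a 1) + Cfsg.classInner (bf θ φ) (η 1 b) := by
  rw [F.grid _ (IsGeneralizedCharacter.isClassFunction (bf_isGen θ φ)) (D.bf_reg θ φ) a b,
    D.bf_one_one F hθ hφ, sub_zero]

theorem bf_int (θ φ : hall P U →* ℂˣ) (a : W₁ →* ℂˣ) (b : W₂ →* ℂˣ) :
    ∃ n : ℤ, Cfsg.classInner (bf θ φ) (η a b) = n :=
  IsGeneralizedCharacter.exists_classInner_int (bf_isGen θ φ) (SignIrr_isGen (F.sign a b))

theorem phi_ne_one {ψ : W₂ →* ℂˣ} (hψ : ψ ≠ 1) : D.phi ψ ≠ 1 := fun h => hψ (by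
  rw [← D.res₂_phi ψ, h]; rfl)

theorem generic_ne_one {θ : hall P U →* ℂˣ} (hθ : D.Generic θ) : θ ≠ 1 := by
  obtain ⟨⟨z, -, hz⟩, -⟩ := hθ
  rintro rfl
  exact hz rfl

end Side

/-- Bessel for the family together with further orthonormal functions orthogonal to it. -/
theorem Fam.bessel {W₁ W₂ : Subgroup G} {η : (W₁ →* ℂˣ) → (W₂ →* ℂˣ) → G → ℂ}
    (F : Fam W₁ W₂ η) [Fintype (W₁ →* ℂˣ)] [Fintype (W₂ →* ℂˣ)] (f : G → ℂ) (Q : Finset (G → ℂ))
    (hQ : ∀ μ ∈ Q, Cfsg.IsIrrCharacter G μ) (hQη : ∀ μ ∈ Q, ∀ a b, Cfsg.classInner μ (η a b) = 0) :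
    ∑ a, ∑ b, ‖Cfsg.classInner f (η a b)‖ ^ 2 + ∑ μ ∈ Q, ‖Cfsg.classInner f μ‖ ^ 2 ≤
      (Cfsg.classInner f f).re := by
  classical
  have h := Cfsg.Agent.OddChar.P13.bessel f (Sum.elim (fun p : (W₁ →* ℂˣ) × (W₂ →* ℂˣ) => η p.1 p.2) (fun μ : Q => (μ : G → ℂ)))
    (fun i j => ?_)
  · rw [Fintype.sum_sum_type, Fintype.sum_prod_type] at h
    simp only [Sum.elim_inl, Sum.elim_inr] at h
    rwa [Finset.sum_coe_sort Q (fun μ => ‖Cfsg.classInner f μ‖ ^ 2)] at h
  rcases i with ⟨a, b⟩ | ⟨μ, hμ⟩ <;> rcases j with ⟨a', b'⟩ | ⟨ν, hν⟩ <;>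
    simp only [Sum.elim_inl, Sum.elim_inr]
  · by_cases he : a = a' ∧ b = b'
    · obtain ⟨rfl, rfl⟩ := he
      rw [if_pos rfl]; exact F.norm a b
    · rw [(F.orth a b a' b').resolve_left he, if_neg]
      simpa using he
  · rw [← classInner_conj_symm, hQη ν hν, map_zero, if_neg (by simp)]
  · rw [hQη μ hμ, if_neg (by simp)]
  · by_cases he : μ = ν
    · subst he; rw [if_pos rfl]; exact classInner_self_irr (hQ μ hμ)
    · rw [classInner_irr_of_ne (hQ μ hμ) (hQ ν hν) he, if_neg]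
      simpa using he

namespace Side

variable (D : Side S P U W₁ W₂) {η : (W₁ →* ℂˣ) → (W₂ →* ℂˣ) → G → ℂ} (F : Fam W₁ W₂ η)
include D F

open Classical in
/-- The key identity: `Ind_H^G (φ_ψ - φ_ψ')` is the sum of `η a ψ - η a ψ'` up to `q` times a
generalized character. -/
theorem exists_D [Fintype (W₁ →* ℂˣ)] (ψ ψ' : W₂ →* ℂˣ) :
    ∃ Dg : G → ℂ, Cfsg.IsGeneralizedCharacter G Dg ∧
      bf (D.phi ψ) (D.phi ψ') =
        ∑ a : W₁ →* ℂˣ, (η a ψ - η a ψ') + (Nat.card W₁ : ℂ) • Dg := by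
  haveI := isMulCommutative1 D.selfN
  haveI : Fintype (hall P U) := Fintype.ofFinite _
  have hN : W₁ ≤ Subgroup.normalizer ((hall P U) : Set G) := fun w hw => D.mem_norm (D.W₁_le hw)
  have hd : (hall P U) ⊓ W₁ = ⊥ := by
    rw [eq_bot_iff, ← D.inf_W₁]; exact inf_le_inf_right W₁ D.hall_le_PU
  set L := (hall P U) ⊔ W₁ with hL
  haveI : Fintype L := Fintype.ofFinite _
  have hex : ∀ (a : W₁ →* ℂˣ) (χ : W₂ →* ℂˣ), ∃ ξ : L →* ℂˣ,
      (∀ (x : (hall P U)) (z : L), (z : G) = x → ξ z = D.phi χ x) ∧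
        ∀ (w : W₁) (z : L), (z : G) = w → ξ z = a w := fun a χ =>
    exists_ext hN hd (D.phi χ) a (fun w hw x y e => by
      conv_rhs => rw [← D.phi_fixed χ w hw]
      exact (cj_apply' (hN hw) (D.phi χ) x y e).symm)
  choose ξ hξH hξW using hex
  let τ : (W₁ →* ℂˣ) → G → ℂ := fun a => Cfsg.indFun L (lf (ξ a ψ) - lf (ξ a ψ'))
  have hτgen : ∀ a, Cfsg.IsGeneralizedCharacter G (τ a) := fun a =>
    IsGeneralizedCharacter.indFun L (IsGeneralizedCharacter.sub
      (IsGeneralizedCharacter.of_isCharacter (IsIrrCharacter.isCharacter (isIrrCharacter_linear _)))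
      (IsGeneralizedCharacter.of_isCharacter (IsIrrCharacter.isCharacter (isIrrCharacter_linear _))))
  have hcardL : Nat.card L = Nat.card (hall P U) * Nat.card W₁ := D.card_HW
  have hdec : ∀ z : L, ∃ x : (hall P U), ∃ w : W₁, (z : G) = x * w := by
    intro z
    have hz : (z : G) ∈ (↑((hall P U) ⊔ W₁) : Set G) := z.2
    rw [Subgroup.coe_mul_of_right_le_normalizer_left _ _ hN] at hz
    obtain ⟨x, hx, w, hw, e⟩ := hz
    exact ⟨⟨x, hx⟩, ⟨w, hw⟩, e.symm⟩
  have hξval : ∀ (a : W₁ →* ℂˣ) (χ : W₂ →* ℂˣ) (z : L) (x : (hall P U)) (w : W₁), (z : G) = x * w →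
      ξ a χ z = D.phi χ x * a w := by
    intro a χ z x w e
    rw [show z = ⟨(x : G), le_sup_left (b := W₁) x.2⟩ * ⟨(w : G), le_sup_right (a := (hall P U)) w.2⟩ from
      Subtype.ext e, map_mul, hξH a χ x ⟨(x : G), le_sup_left (b := W₁) x.2⟩ rfl,
      hξW a χ w ⟨(w : G), le_sup_right (a := (hall P U)) w.2⟩ rfl]
  -- (i) the sum over all `a`
  have hsum : ∑ a : W₁ →* ℂˣ, τ a = bf (D.phi ψ) (D.phi ψ') := by
    funext g
    simp only [τ, Finset.sum_apply, bf, indFun_apply]
    rw [← Finset.mul_sum, Finset.sum_comm, hcardL]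
    have key : ∀ y : G, ∑ a : W₁ →* ℂˣ, Cfsg.extendByZero L (lf (ξ a ψ) - lf (ξ a ψ')) y =
        (Nat.card W₁ : ℂ) * Cfsg.extendByZero (hall P U) (lf (D.phi ψ) - lf (D.phi ψ')) y := by
      intro y
      by_cases hy : y ∈ L
      · obtain ⟨x, w, e⟩ := hdec ⟨y, hy⟩
        simp only [extendByZero_mem L _ hy, Pi.sub_apply, lf, hξval _ ψ ⟨y, hy⟩ x w e,
          hξval _ ψ' ⟨y, hy⟩ x w e, Units.val_mul, Finset.sum_sub_distrib, ← Finset.mul_sum, sum_hom]
        by_cases hw : w = 1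
        · have hyH : y ∈ (hall P U) := by
            rw [show y = (x : G) from by rw [show y = _ from e, hw]; simp]; exact x.2
          rw [if_pos hw, extendByZero_mem (hall P U) _ hyH,
            show (⟨y, hyH⟩ : (hall P U)) = x from Subtype.ext (by show y = _; rw [show y = _ from e, hw]; simp)]
          simp only [Pi.sub_apply]; ring
        · rw [if_neg hw, extendByZero_not_mem (hall P U) _ (fun hyH => hw ?_)]
          · simp
          · have : (w : G) ∈ (hall P U) ⊓ W₁ := ⟨by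
              rw [show (w : G) = (x : G)⁻¹ * y from by rw [show y = _ from e]; group]
              exact (hall P U).mul_mem ((hall P U).inv_mem x.2) hyH, w.2⟩
            rw [hd, Subgroup.mem_bot] at this
            exact Subtype.ext this
      · have hyH : y ∉ (hall P U) := fun h => hy (le_sup_left (b := W₁) h)
        simp [extendByZero_not_mem L _ hy, extendByZero_not_mem (hall P U) _ hyH]
    rw [Finset.sum_congr rfl fun z _ => key (z⁻¹ * g * z), ← Finset.mul_sum, Nat.cast_mul]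
    have : (Nat.card W₁ : ℂ) ≠ 0 := Nat.cast_ne_zero.mpr Nat.card_pos.ne'
    field_simp
  -- (ii) differences
  have hdiff : ∀ a : W₁ →* ℂˣ, τ 1 - τ a = η 1 ψ - η 1 ψ' - (η a ψ - η a ψ') := by
    intro a
    funext g
    let f : (W₂ →* ℂˣ) → G → ℂ := fun χ z =>
      if h : ∃ (x : W₁) (y : W₂), z = (x : G) * y then
        (1 - (a h.choose : ℂ)) * (1 - (χ h.choose_spec.choose : ℂ)) else 0
    have hu : ∀ (x x' : W₁) (y y' : W₂), (x : G) * y = x' * y' → x = x' ∧ y = y' := by
      intro x x' y y' e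
      have hm : (x' : G)⁻¹ * x ∈ W₁ ⊓ W₂ := by
        refine ⟨W₁.mul_mem (W₁.inv_mem x'.2) x.2, ?_⟩
        have : (x' : G)⁻¹ * x = y' * (y : G)⁻¹ := by rw [eq_mul_inv_iff_mul_eq, mul_assoc, e]; group
        rw [this]
        exact W₂.mul_mem y'.2 (W₂.inv_mem y.2)
      rw [D.selfN.2.2.1, Subgroup.mem_bot, inv_mul_eq_one] at hm
      have h1 : x' = x := Subtype.ext hm
      subst h1
      exact ⟨rfl, Subtype.ext (mul_left_cancel e)⟩
    have hf : ∀ χ (x : W₁) (y : W₂), f χ ((x : G) * y) = (1 - (a x : ℂ)) * (1 - (χ y : ℂ)) := by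
      intro χ x y
      have h : ∃ (x' : W₁) (y' : W₂), (x : G) * y = (x' : G) * y' := ⟨x, y, rfl⟩
      simp only [f, dif_pos h]
      obtain ⟨e1, e2⟩ := hu _ _ _ _ h.choose_spec.choose_spec
      rw [show h.choose_spec.choose = y from e2.symm, show h.choose = x from e1.symm]
    have hf0 : ∀ χ z, (∀ (x : W₁) (y : W₂), z ≠ (x : G) * y) → f χ z = 0 := by
      intro χ z hz
      simp only [f]
      rw [dif_neg]
      rintro ⟨x, y, e⟩
      exact hz x y e
    let e : G → ℂ := fun z => f ψ' z - f ψ z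
    have he : ∀ (x : W₁) (y : W₂), e ((x : G) * y) = (1 - (a x : ℂ)) * ((ψ y : ℂ) - (ψ' y : ℂ)) := by
      intro x y; simp only [e, hf]; ring
    -- the function on `L` and its lift from `W₁ W₂`
    have key : ∀ z : G, ∑ l : L, e ((l : G)⁻¹ * z * l) =
        (Nat.card W₁ : ℂ) * (Nat.card W₂ : ℂ) *
          Cfsg.extendByZero L ((lf (ξ 1 ψ) - lf (ξ 1 ψ')) - (lf (ξ a ψ) - lf (ξ a ψ'))) z := by
      intro z
      have heW : ∀ l : L, z ∉ L → e ((l : G)⁻¹ * z * l) = 0 := by
        intro l hz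
        have h0 : ∀ (x : W₁) (y : W₂), (l : G)⁻¹ * z * l ≠ (x : G) * y := fun x y h => hz (by
          have hxy : (x : G) * y ∈ L := mul_mem (le_sup_right (a := (hall P U)) x.2)
            (le_sup_left (b := W₁) (D.P_le_hall (D.W₂_le y.2)))
          have := mul_mem (mul_mem l.2 (h ▸ hxy)) (inv_mem l.2)
          simpa [mul_assoc] using this)
        simp [e, hf0 _ _ h0]
      by_cases hz : z ∈ L
      swap
      · rw [Finset.sum_eq_zero fun l _ => heW l hz, extendByZero_not_mem L _ hz, mul_zero]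
      rw [extendByZero_mem L _ hz]
      obtain ⟨x0, w, hzw⟩ := hdec ⟨z, hz⟩
      have hzw' : z = (x0 : G) * w := hzw
      by_cases hw : w = 1
      · have hzH : z ∈ (hall P U) := by rw [hzw', hw]; simpa using x0.2
        rw [Finset.sum_eq_zero fun l _ => ?_]
        · simp [lf, hξval _ _ ⟨z, hz⟩ x0 w hzw, hw]
        · by_cases h : ∀ (x : W₁) (y : W₂), (l : G)⁻¹ * z * l ≠ (x : G) * y
          · simp [e, hf0 _ _ h]
          push Not at h
          obtain ⟨x, y, hxy⟩ := h
          have hm : (x : G) ∈ (hall P U) ⊓ W₁ := by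
            refine ⟨?_, x.2⟩
            have h1 : (x : G) * y ∈ (hall P U) := by
              rw [← hxy]
              have := D.normal_hall (S.inv_mem ((sup_le D.hall_le D.W₁_le) l.2)) hzH
              simpa using this
            simpa using (hall P U).mul_mem h1 ((hall P U).inv_mem (D.P_le_hall (D.W₂_le y.2)))
          rw [hd, Subgroup.mem_bot] at hm
          rw [hxy, he, show x = 1 from Subtype.ext hm]
          simp
      · obtain ⟨y0, hy0, c, hc, hyc⟩ := D.exists_conj D.hall_le_PU hN x0.2 w.2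
          (fun h => hw (Subtype.ext h))
        have hzt : z = y0⁻¹ * (c * w) * y0 := by rw [← hyc, hzw']; group
        have hval : ∀ (b : W₁ →* ℂˣ) (χ : W₂ →* ℂˣ),
            (ξ b χ ⟨z, hz⟩ : ℂ) = (χ ⟨c, hc.1⟩ : ℂ) * (b w : ℂ) := by
          intro b χ
          have hy0L : y0 ∈ L := le_sup_left (b := W₁) hy0
          have hcwL : c * (w : G) ∈ L :=
            mul_mem (le_sup_left (b := W₁) hc.2) (le_sup_right (a := (hall P U)) w.2)
          rw [show (⟨z, hz⟩ : L) = ⟨y0, hy0L⟩⁻¹ * ⟨c * (w : G), hcwL⟩ * ⟨y0, hy0L⟩ from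
            Subtype.ext hzt, map_mul, map_mul, map_inv, inv_mul_cancel_comm,
            hξval b χ ⟨c * (w : G), hcwL⟩ ⟨c, hc.2⟩ w rfl, Units.val_mul]
          rw [← DFunLike.congr_fun (D.res₂_phi χ) ⟨c, hc.1⟩]
          rfl
        simp only [Pi.sub_apply, lf, hval, MonoidHom.one_apply, Units.val_one]
        -- count the conjugators
        have hterm : ∀ l : L, e ((l : G)⁻¹ * z * l) =
            if y0 * (l : G) ∈ W₁ ⊔ W₂ then (1 - (a w : ℂ)) * ((ψ ⟨c, hc.1⟩ : ℂ) - (ψ' ⟨c, hc.1⟩ : ℂ))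
            else 0 := by
          intro l
          have hl' : (l : G)⁻¹ * z * l = (y0 * l)⁻¹ * ((w : G) * c) * (y0 * l) := by
            rw [hzt, D.selfN.2.2.2.1 w w.2 c hc.1]; group
          by_cases hm : y0 * (l : G) ∈ W₁ ⊔ W₂
          · rw [if_pos hm]
            haveI := isMulCommutative_sup D.selfN
            have hwc : (w : G) * c ∈ W₁ ⊔ W₂ :=
              mul_mem (le_sup_left (b := W₂) w.2) (le_sup_right (a := W₁) hc.1)
            have hcomm := congrArg Subtype.val (mul_comm' (⟨_, hwc⟩ : ↥(W₁ ⊔ W₂)) ⟨_, hm⟩)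
            have : (y0 * (l : G))⁻¹ * ((w : G) * c) * (y0 * l) = (w : G) * c := by
              rw [mul_assoc, show ((w : G) * c) * (y0 * l) = (y0 * l) * ((w : G) * c) from hcomm]
              group
            rw [hl', this, show (w : G) * c = (w : G) * ((⟨c, hc.1⟩ : W₂) : G) from rfl, he]
          · rw [if_neg hm]
            by_cases h : ∀ (x : W₁) (y : W₂), (l : G)⁻¹ * z * l ≠ (x : G) * y
            · simp [e, hf0 _ _ h]
            push Not at h
            obtain ⟨x, y, hxy⟩ := h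
            exfalso
            refine hm ?_
            rw [hl'] at hxy
            obtain ⟨h0, v, hhv⟩ := hdec ⟨y0 * (l : G), mul_mem (le_sup_left (b := W₁) hy0) l.2⟩
            have hhv' : y0 * (l : G) = (h0 : G) * v := hhv
            -- `x y = v⁻¹ h₀⁻¹ (w c) h₀ v`
            have hvc : Commute (v : G) ((x : G) * y) :=
              Commute.mul_right (congrArg Subtype.val (mul_comm' v x)) (D.selfN.2.2.2.1 v v.2 y y.2)
            have h3 : (h0 : G)⁻¹ * ((w : G) * c) * h0 = (x : G) * y := by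
              rw [hhv'] at hxy
              calc (h0 : G)⁻¹ * ((w : G) * c) * h0
                  = (v : G) * (((h0 : G) * v)⁻¹ * ((w : G) * c) * ((h0 : G) * v)) * (v : G)⁻¹ := by group
                _ = (v : G) * ((x : G) * y) * (v : G)⁻¹ := by rw [hxy]
                _ = (x : G) * y := by rw [hvc.eq, mul_inv_cancel_right]
            set k : G := (h0 : G)⁻¹ * ((w : G) * h0 * (w : G)⁻¹) with hk
            have hkH : k ∈ (hall P U) := (hall P U).mul_mem ((hall P U).inv_mem h0.2) (D.normal_hall (D.W₁_le w.2) h0.2)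
            have hh0c : (h0 : G) * c = c * h0 := D.hall_comm _ h0.2 _ hc.2
            have hh0c' : (h0 : G)⁻¹ * c = c * (h0 : G)⁻¹ := D.hall_comm _ ((hall P U).inv_mem h0.2) _ hc.2
            have h4 : c * k * w = (y : G) * x := by
              rw [← D.selfN.2.2.2.1 x x.2 y y.2, ← h3, D.selfN.2.2.2.1 w w.2 c hc.1, hk]
              calc c * ((h0 : G)⁻¹ * ((w : G) * h0 * (w : G)⁻¹)) * w
                  = c * (h0 : G)⁻¹ * w * h0 := by group
                _ = (h0 : G)⁻¹ * c * w * h0 := by rw [hh0c']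
                _ = (h0 : G)⁻¹ * (c * w) * h0 := by group
            have hkey : (⟨c * k, (hall P U).mul_mem hc.2 hkH⟩ : (hall P U)) =
                ⟨y, D.P_le_hall (D.W₂_le y.2)⟩ ∧ (w : W₁) = x := by
              have hmm : (y : G)⁻¹ * (c * k) ∈ (hall P U) ⊓ W₁ := by
                refine ⟨(hall P U).mul_mem ((hall P U).inv_mem (D.P_le_hall (D.W₂_le y.2))) ((hall P U).mul_mem hc.2 hkH), ?_⟩
                have : (y : G)⁻¹ * (c * k) = (x : G) * (w : G)⁻¹ := by
                  rw [eq_mul_inv_iff_mul_eq, mul_assoc, h4]; group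
                rw [this]
                exact W₁.mul_mem x.2 (W₁.inv_mem w.2)
              rw [hd, Subgroup.mem_bot, inv_mul_eq_one] at hmm
              exact ⟨Subtype.ext hmm.symm, Subtype.ext (by
                rw [← hmm] at h4; exact mul_left_cancel h4)⟩
            have hk2 : k ∈ W₂ := by
              rw [show k = c⁻¹ * y from by rw [← congrArg Subtype.val hkey.1]; group]
              exact W₂.mul_mem (W₂.inv_mem hc.1) y.2
            have hwk : Commute (w : G) k := D.selfN.2.2.2.1 w w.2 k hk2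
            have hit : ∀ n : ℕ, (w : G) ^ n * h0 * ((w : G) ^ n)⁻¹ = (h0 : G) * k ^ n := by
              intro n
              induction n with
              | zero => simp
              | succ n ih =>
                rw [pow_succ' (w : G) n, show (w : G) * (w : G) ^ n * h0 * ((w : G) * (w : G) ^ n)⁻¹ =
                  (w : G) * ((w : G) ^ n * h0 * ((w : G) ^ n)⁻¹) * (w : G)⁻¹ from by group, ih,
                  show (w : G) * ((h0 : G) * k ^ n) * (w : G)⁻¹ =
                    (w : G) * h0 * (w : G)⁻¹ * ((w : G) * k ^ n * (w : G)⁻¹) from by group,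
                  (hwk.pow_right n).eq, mul_inv_cancel_right,
                  show (w : G) * h0 * (w : G)⁻¹ = h0 * k from by rw [hk]; group, pow_succ', mul_assoc]
            have hk1 : k = 1 := by
              have h5 := hit (Nat.card W₁)
              rw [show (w : G) ^ Nat.card W₁ = 1 from
                orderOf_dvd_iff_pow_eq_one.mp (Subgroup.orderOf_dvd_natCard W₁ w.2)] at h5
              have h6 : k ^ Nat.card W₁ = 1 := by simpa using h5.symm
              have h7 : k ^ Nat.card W₂ = 1 :=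
                orderOf_dvd_iff_pow_eq_one.mp (Subgroup.orderOf_dvd_natCard W₂ hk2)
              have := (pow_gcd_eq_one (a := k)).mpr ⟨h6, h7⟩
              rwa [D.coprime_P.coprime_dvd_right (Subgroup.card_dvd_of_le D.W₂_le), pow_one] at this
            have hh2 : (h0 : G) ∈ W₂ := by
              rw [← D.cent w w.2 (fun h => hw (Subtype.ext h))]
              refine ⟨D.hall_le_PU h0.2, Subgroup.mem_centralizer_singleton_iff.mpr ?_⟩
              rw [hk, inv_mul_eq_one] at hk1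
              rw [eq_comm, ← mul_inv_eq_iff_eq_mul]
              exact hk1.symm
            rw [hhv']
            exact mul_mem (le_sup_right (a := W₁) hh2) (le_sup_left (b := W₂) v.2)
        rw [Finset.sum_congr rfl fun l _ => hterm l, ← Finset.sum_filter, Finset.sum_const,
          nsmul_eq_mul]
        have hcnt : (Finset.univ.filter fun l : L => y0 * (l : G) ∈ W₁ ⊔ W₂).card =
            Nat.card W₁ * Nat.card W₂ := by
          rw [← Nat.card_prod, Nat.card_congr (prodIso (split_of D.selfN)).toEquiv,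
            ← Fintype.card_subtype, ← Nat.card_eq_fintype_card]
          have hWL : W₁ ⊔ W₂ ≤ L :=
            sup_le le_sup_right ((D.W₂_le.trans D.P_le_hall).trans le_sup_left)
          refine Nat.card_congr
            { toFun := fun l => ⟨y0 * (l.1 : G), l.2⟩
              invFun := fun v => ⟨⟨y0⁻¹ * v, mul_mem (inv_mem (le_sup_left (b := W₁) hy0)) (hWL v.2)⟩,
                by simp⟩
              left_inv := fun l => by simp
              right_inv := fun v => by simp }
        rw [hcnt, Nat.cast_mul]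
        ring
    have h1 := F.ind a ψ' (f ψ') (hf ψ') (hf0 ψ') g
    have h2 := F.ind a ψ (f ψ) (hf ψ) (hf0 ψ) g
    have h3 : (τ 1 - τ a) g = ((Nat.card W₁ : ℂ) * (Nat.card W₂ : ℂ))⁻¹ *
        ∑ x : G, e (x⁻¹ * g * x) := by
      have h4 : (τ 1 - τ a) g = Cfsg.indFun L
          ((lf (ξ 1 ψ) - lf (ξ 1 ψ')) - (lf (ξ a ψ) - lf (ξ a ψ'))) g := by
        simp only [τ, indFun_sub, Pi.sub_apply]
      rw [h4, indFun_apply]
      have h5 : ∀ x : G, Cfsg.extendByZero L
          ((lf (ξ 1 ψ) - lf (ξ 1 ψ')) - (lf (ξ a ψ) - lf (ξ a ψ'))) (x⁻¹ * g * x) =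
          ((Nat.card W₁ : ℂ) * (Nat.card W₂ : ℂ))⁻¹ * ∑ l : L, e ((l : G)⁻¹ * (x⁻¹ * g * x) * l) := by
        intro x
        have hne : ((Nat.card W₁ : ℂ) * (Nat.card W₂ : ℂ)) ≠ 0 :=
          mul_ne_zero (Nat.cast_ne_zero.mpr Nat.card_pos.ne') (Nat.cast_ne_zero.mpr Nat.card_pos.ne')
        rw [key, ← mul_assoc, inv_mul_cancel₀ hne, one_mul]
      rw [Finset.sum_congr rfl fun x _ => h5 x, ← Finset.mul_sum, Finset.sum_comm]
      have h6 : ∀ l : L, ∑ x : G, e ((l : G)⁻¹ * (x⁻¹ * g * x) * l) = ∑ x : G, e (x⁻¹ * g * x) := by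
        intro l
        refine Fintype.sum_equiv (Equiv.mulRight (l : G)) _ _ fun x => ?_
        simp [mul_assoc]
      rw [Finset.sum_congr rfl fun l _ => h6 l, Finset.sum_const, Finset.card_univ, nsmul_eq_mul,
        ← Nat.card_eq_fintype_card (α := L)]
      have : (Nat.card L : ℂ) ≠ 0 := Nat.cast_ne_zero.mpr Nat.card_pos.ne'
      field_simp
    rw [h3]
    simp only [e, Finset.sum_sub_distrib, mul_sub, h1, h2, Pi.sub_apply]
    ring
  refine ⟨τ 1 - (η 1 ψ - η 1 ψ'), IsGeneralizedCharacter.sub (hτgen 1)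
    (IsGeneralizedCharacter.sub (SignIrr_isGen (F.sign 1 ψ)) (SignIrr_isGen (F.sign 1 ψ'))), ?_⟩
  rw [← hsum, ← card_hom (H := W₁), Nat.card_eq_fintype_card, ← Finset.card_univ,
    Nat.cast_smul_eq_nsmul, ← Finset.sum_const, ← Finset.sum_add_distrib]
  refine Finset.sum_congr rfl fun a _ => ?_
  have := hdiff a
  linear_combination (norm := abel) -this

/-- `Ind_H^G (φ_ψ - φ_ψ')` on the family. -/
theorem bf_phi_phi [Fintype (W₁ →* ℂˣ)] {ψ ψ' : W₂ →* ℂˣ} (hψ : ψ ≠ 1) (hψ' : ψ' ≠ 1)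
    (h : ψ ≠ ψ') :
    bf (D.phi ψ) (D.phi ψ') = ∑ a : W₁ →* ℂˣ, (η a ψ - η a ψ') := by
  classical
  haveI := isMulCommutative1 D.selfN
  haveI := finite_dual W₂
  haveI : Fintype (W₂ →* ℂˣ) := Fintype.ofFinite _
  obtain ⟨Dg, hDg, hγ⟩ := D.exists_D F ψ ψ'
  set q := Nat.card W₁ with hq
  have hq0 : (q : ℂ) ≠ 0 := Nat.cast_ne_zero.mpr Nat.card_pos.ne'
  have hqcard : (Fintype.card (W₁ →* ℂˣ) : ℂ) = q := by
    rw [← Nat.card_eq_fintype_card, card_hom]
  set σ : G → ℂ := ∑ a : W₁ →* ℂˣ, (η a ψ - η a ψ') with hσ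
  have hb : ∀ a b, ∃ n : ℤ, Cfsg.classInner Dg (η a b) = n := fun a b =>
    IsGeneralizedCharacter.exists_classInner_int hDg (SignIrr_isGen (F.sign a b))
  choose d hd using hb
  have horth : ∀ a b a' b', Cfsg.classInner (η a b) (η a' b') =
      if a = a' ∧ b = b' then 1 else 0 := by
    intro a b a' b'
    by_cases he : a = a' ∧ b = b'
    · obtain ⟨rfl, rfl⟩ := he
      rw [if_pos ⟨rfl, rfl⟩, F.norm]
    · rw [if_neg he, (F.orth a b a' b').resolve_left he]
  have hσc : ∀ a b, Cfsg.classInner σ (η a b) =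
      (if b = ψ then 1 else 0) - (if b = ψ' then 1 else 0) := by
    intro a b
    rw [hσ, classInner_sum_left]
    simp only [classInner_sub_left, horth]
    rw [Finset.sum_eq_single a (fun x _ hx => by simp [hx]) (by simp)]
    simp [eq_comm]
  have hc : ∀ a b, Cfsg.classInner (bf (D.phi ψ) (D.phi ψ')) (η a b) =
      (if b = ψ then 1 else 0) - (if b = ψ' then 1 else 0) + (q : ℂ) * d a b := by
    intro a b
    rw [hγ, classInner_add_left, classInner_smul_left, hσc, hd]
  have h11 : d 1 1 = 0 := by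
    have := D.bf_one_one F (D.phi_ne_one F hψ) (D.phi_ne_one F hψ')
    rw [hc, if_neg (Ne.symm hψ), if_neg (Ne.symm hψ'), sub_zero, zero_add, mul_eq_zero] at this
    exact_mod_cast this.resolve_left hq0
  have hgrid : ∀ a b, d a b = d a 1 + d 1 b := by
    intro a b
    have := D.bf_grid F (D.phi_ne_one F hψ) (D.phi_ne_one F hψ') a b
    rw [hc, hc, hc, if_neg (Ne.symm hψ), if_neg (Ne.symm hψ')] at this
    have h2 : (d a b : ℂ) = d a 1 + d 1 b := mul_left_cancel₀ hq0 (by linear_combination this)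
    exact_mod_cast h2
  set e : ℤ := d 1 ψ - d 1 ψ' with he
  have hσσ : Cfsg.classInner σ σ = 2 * q := by
    rw [show Cfsg.classInner σ σ = Cfsg.classInner σ (∑ a : W₁ →* ℂˣ, (η a ψ - η a ψ')) from rfl,
      classInner_sum_right]
    simp only [classInner_sub_right, hσc, if_neg h, if_neg (Ne.symm h)]
    simp [hqcard]
    ring
  have hσD : Cfsg.classInner Dg σ = q * e := by
    rw [hσ, classInner_sum_right]
    simp only [classInner_sub_right, hd]
    rw [Finset.sum_congr rfl (g := fun _ => (e : ℂ)) (fun a _ => by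
      rw [hgrid a ψ, hgrid a ψ', he]; push_cast; ring)]
    simp [hqcard]
  have hnorm : Cfsg.classInner (bf (D.phi ψ) (D.phi ψ')) (bf (D.phi ψ) (D.phi ψ')) = 2 * q := by
    rw [D.inner_bf, D.fixCount_phi hψ, D.fixCount_phi hψ', D.fixCount_phi_ne hψ h,
      D.fixCount_phi_ne hψ' (Ne.symm h)]
    have : (Nat.card ↥(hall P U) : ℂ) ≠ 0 := Nat.cast_ne_zero.mpr Nat.card_pos.ne'
    push_cast
    field_simp
    ring
  rw [hγ, classInner_add_left, classInner_add_right, classInner_add_right, classInner_smul_left,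
    classInner_smul_left, classInner_smul_right, classInner_smul_right, hσσ, hσD,
    ← classInner_conj_symm Dg σ, hσD] at hnorm
  have hDD : (q : ℂ) * (2 * (e : ℂ) + Cfsg.classInner Dg Dg) = 0 :=
    mul_left_cancel₀ hq0 (by
      rw [mul_zero]
      simp only [map_mul, map_natCast, map_intCast] at hnorm
      linear_combination hnorm)
  have hDD' : Cfsg.classInner Dg Dg = -(2 * (e : ℂ)) := by
    have h0 := Or.resolve_left (mul_eq_zero.mp hDD) hq0
    linear_combination h0
  have hbes := F.bessel Dg ∅ (by simp) (by simp)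
  rw [Finset.sum_empty, add_zero, hDD'] at hbes
  simp only [hd, Complex.norm_intCast, sq_abs] at hbes
  have hbes' : ∑ a, ∑ b, d a b ^ 2 ≤ -(2 * e) := by
    have : ((∑ a, ∑ b, d a b ^ 2 : ℤ) : ℝ) ≤ ((-(2 * e) : ℤ) : ℝ) := by
      push_cast
      simpa using hbes
    exact_mod_cast this
  have hlow : (q : ℤ) * |e| ≤ ∑ a, ∑ b, d a b ^ 2 := by
    calc (q : ℤ) * |e| = ∑ _a : W₁ →* ℂˣ, |e| := by
          rw [Finset.sum_const, Finset.card_univ, nsmul_eq_mul, ← Nat.card_eq_fintype_card, card_hom]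
      _ ≤ ∑ a, ∑ b, d a b ^ 2 := by
          refine Finset.sum_le_sum fun a _ => ?_
          refine le_trans ?_ (Finset.sum_le_sum_of_subset_of_nonneg
            (Finset.subset_univ ({ψ, ψ'} : Finset (W₂ →* ℂˣ))) (fun b _ _ => sq_nonneg _))
          rw [Finset.sum_pair h]
          have h1 : d a ψ - d a ψ' = e := by rw [hgrid a ψ, hgrid a ψ', he]; ring
          have h2 : ∀ n : ℤ, |n| ≤ n ^ 2 := fun n => by
            rcases eq_or_ne n 0 with rfl | hn
            · simp
            · rw [← sq_abs]; nlinarith [Int.one_le_abs hn]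
          calc |e| = |d a ψ - d a ψ'| := by rw [h1]
            _ ≤ |d a ψ| + |d a ψ'| := abs_sub _ _
            _ ≤ _ := add_le_add (h2 _) (h2 _)
  have hq3 : (3 : ℤ) ≤ q := by exact_mod_cast D.three_le_q
  have he0 : e = 0 := by
    by_contra hne
    have := Int.one_le_abs hne
    nlinarith [neg_abs_le e, hlow, hbes']
  have hD0 : Dg = 0 := classInner_self_eq_zero (by rw [hDD', he0]; simp)
  rw [hγ, hD0, smul_zero, add_zero]

end Side

end Cfsg.Agent.OddChar.P13
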