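/-
Peterfalvi section 13: for a generic character `θ` of `H`, the images under the Dade map of
`λ - conj λ`, `λ` running over the constituents of `Ind_H^S θ`; they give one pair of irreducible
characters of `G` orthogonal to the family `η` for each constituent.
-/
import Cfsg.Agent.Lib.OddChar.P13.Induced
import Cfsg.Agent.S1500
import Cfsg.Agent.S1501
import Cfsg.Agent.S1518
import Mathlib.GroupTheory.FiniteAbelian.Duality

set_option autoImplicit false
set_option linter.unusedSectionVars false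
set_option linter.unusedVariables false
set_option linter.unnecessarySimpa false
set_option linter.style.haveILetI false

namespace Cfsg.Agent.OddChar.P13

open scoped ComplexConjugate IsMulCommutative
open Cfsg.Agent.Char Cfsg.Agent.Char.CyclicTI

universe u v

variable {G : Type u} [Group G] [Fintype G] {S P U W₁ W₂ : Subgroup G}

open Classical in
/-- Induced linear characters with no common restriction to any intersection are orthogonal. -/
theorem inner_ind_lin_zero {X : Type v} [Group X] [Fintype X] {L L' : Subgroup X}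
    (ξ : L →* ℂˣ) (ξ' : L' →* ℂˣ)
    (h : ∀ x : X, ∃ (a : L) (b : L'), (b : X) = x⁻¹ * a * x ∧ ξ a ≠ ξ' b) :
    Cfsg.classInner (Cfsg.indFun L (lf ξ)) (Cfsg.indFun L' (lf ξ')) = 0 := by
  haveI : Fintype L := Fintype.ofFinite _
  rw [classInner_indFun_left L _ (isClassFunction_indFun L' _)]
  simp only [Cfsg.classInner, indFun_apply, map_mul, map_inv₀, map_natCast, map_sum, Finset.mul_sum]
  rw [Finset.sum_comm]
  refine Finset.sum_eq_zero fun x _ => ?_
  let M : Subgroup L :=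
    { carrier := {l | x⁻¹ * (l : X) * x ∈ L'}
      one_mem' := by simp
      mul_mem' := fun {a b} ha hb => by
        have := L'.mul_mem ha hb
        simpa [mul_assoc] using this
      inv_mem' := fun {a} ha => by
        have := L'.inv_mem ha
        simpa [mul_assoc] using this }
  let c : M →* L' :=
    { toFun := fun m => ⟨x⁻¹ * ((m : L) : X) * x, m.2⟩
      map_one' := Subtype.ext (by simp)
      map_mul' := fun a b => Subtype.ext (by simp [mul_assoc]) }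
  let χ : M →* ℂˣ := (ξ.comp M.subtype) * (ξ'.comp c)⁻¹
  have hχ : χ ≠ 1 := by
    obtain ⟨a, b, hb, hne⟩ := h x
    have ha : a ∈ M := show x⁻¹ * (a : X) * x ∈ L' from hb ▸ b.2
    intro he
    have h2 := DFunLike.congr_fun he ⟨a, ha⟩
    have hc : c ⟨a, ha⟩ = b := Subtype.ext hb.symm
    simp only [χ, MonoidHom.mul_apply, MonoidHom.inv_apply, MonoidHom.comp_apply, hc,
      MonoidHom.one_apply, mul_inv_eq_one] at h2
    exact hne h2
  simp only [← Finset.mul_sum]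
  refine mul_eq_zero_of_right _ ?_
  rw [← Finset.sum_filter_add_sum_filter_not Finset.univ (fun l : L => l ∈ M),
    Finset.sum_eq_zero (s := Finset.univ.filter fun l : L => ¬ l ∈ M) (fun l hl => by
      rw [extendByZero_not_mem L' _ (Finset.mem_filter.mp hl).2, map_zero, mul_zero, mul_zero]),
    add_zero, Finset.sum_subtype (p := fun l => l ∈ M) _ (fun l => by simp)]
  have e : ∀ m : M, lf ξ (m : L) * ((Nat.card L' : ℂ)⁻¹ *
      conj (Cfsg.extendByZero L' (lf ξ') (x⁻¹ * ((m : L) : X) * x))) =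
      (Nat.card L' : ℂ)⁻¹ * (χ m : ℂ) := by
    intro m
    rw [extendByZero_mem L' (lf ξ') m.2]
    show (ξ (m : L) : ℂ) * ((Nat.card L' : ℂ)⁻¹ * conj (ξ' (c m) : ℂ)) = _
    rw [lf_inv]
    simp [χ]
    ring
  rw [Finset.sum_congr rfl fun m _ => e m, ← Finset.mul_sum, sum_lin hχ, mul_zero]

theorem inv_inv_hom {A : Type v} [Group A] (θ : A →* ℂˣ) : θ⁻¹⁻¹ = θ :=
  MonoidHom.ext fun z => by simp

namespace Side

variable (D : Side S P U W₁ W₂)
include D

/-- The stabiliser of `θ` in `U`. -/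
def ustab (θ : hall P U →* ℂˣ) : Subgroup G where
  carrier := {u | u ∈ U ∧ cj (hall P U) u θ = θ}
  one_mem' := ⟨one_mem _, cj_one θ⟩
  mul_mem' := by
    rintro a b ⟨ha, ea⟩ ⟨hb, eb⟩
    exact ⟨mul_mem ha hb, by
      rw [cj_mul (D.mem_norm (D.U_le ha)) (D.mem_norm (D.U_le hb)), ea, eb]⟩
  inv_mem' := by
    rintro a ⟨ha, ea⟩
    exact ⟨inv_mem ha, (cj_eq_iff (D.mem_norm (D.U_le ha)) θ θ).mp ea⟩

theorem ustab_le (θ : hall P U →* ℂˣ) : D.ustab θ ≤ U := fun _ h => h.1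

theorem cpart_le_ustab (θ : hall P U →* ℂˣ) : cpart P U ≤ D.ustab θ := fun c hc =>
  ⟨hc.1, D.cj_hall θ (D.cpart_le_hall hc)⟩

/-- The stabiliser of a generic `θ` in `S`. -/
def lstab (θ : hall P U →* ℂˣ) : Subgroup G := P ⊔ D.ustab θ

theorem lstab_le (θ : hall P U →* ℂˣ) : D.lstab θ ≤ S :=
  sup_le D.P_le ((D.ustab_le θ).trans D.U_le)

theorem hall_le_lstab (θ : hall P U →* ℂˣ) : hall P U ≤ D.lstab θ :=
  sup_le_sup le_rfl (D.cpart_le_ustab θ)

theorem mem_lstab {θ : hall P U →* ℂˣ} {g : G} :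
    g ∈ D.lstab θ ↔ ∃ x ∈ P, ∃ b ∈ D.ustab θ, g = x * b := by
  constructor
  · intro hg
    have h : g ∈ (↑(P ⊔ D.ustab θ) : Set G) := hg
    rw [Subgroup.coe_mul_of_right_le_normalizer_left P _ ((D.ustab_le θ).trans D.U_le_normP)] at h
    obtain ⟨x, hx, b, hb, rfl⟩ := h
    exact ⟨x, hx, b, hb, rfl⟩
  · rintro ⟨x, hx, b, hb, rfl⟩
    exact mul_mem (le_sup_left (b := D.ustab θ) hx) (le_sup_right (a := P) hb)

variable {θ : hall P U →* ℂˣ}

theorem stab_iff (hθ : D.Generic θ) {s : G} (hs : s ∈ S) :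
    cj (hall P U) s θ = θ ↔ s ∈ D.lstab θ := by
  constructor
  · intro h
    obtain ⟨x, hx, u, hu, rfl⟩ := D.mem_PU.mp (D.generic_stab hθ hs h)
    rw [cj_mul (D.mem_norm (D.P_le hx)) (D.mem_norm (D.U_le hu)), D.cj_hall _ (D.P_le_hall hx)] at h
    exact D.mem_lstab.mpr ⟨x, hx, u, ⟨hu, h⟩, rfl⟩
  · intro h
    obtain ⟨x, hx, u, hu, rfl⟩ := D.mem_lstab.mp h
    rw [cj_mul (D.mem_norm (D.P_le hx)) (D.mem_norm (D.U_le hu.1)), D.cj_hall _ (D.P_le_hall hx), hu.2]

theorem fixCount_lstab (hθ : D.Generic θ) :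
    fixCount (hall P U) S θ θ = Nat.card ↥(D.lstab θ) :=
  fixCount_self (D.lstab_le θ) fun _ hs => D.stab_iff hθ hs

theorem inv_generic (hθ : D.Generic θ) : D.Generic θ⁻¹ := by
  obtain ⟨⟨z, hz, hz1⟩, h2⟩ := hθ
  refine ⟨⟨z, hz, by simpa using hz1⟩, fun s hs ψ h => h2 s hs ψ⁻¹ ?_⟩
  rw [D.phi_inv, cj_map_inv (D.mem_norm hs), h, inv_inv_hom]

/-- No `S`-conjugate of a generic character is its inverse. -/
theorem not_conj_inv (hθ : D.Generic θ) {s : G} (hs : s ∈ S) :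
    cj (hall P U) s θ ≠ θ⁻¹ := by
  intro h
  have hn := D.mem_norm hs
  have h2 : cj (hall P U) (s * s) θ = θ := by
    rw [cj_mul hn hn, h, cj_map_inv hn, h, inv_inv_hom]
  have hpow : ∀ n : ℕ, cj (hall P U) ((s * s) ^ n) θ = θ := by
    intro n
    induction n with
    | zero => rw [pow_zero, cj_one]
    | succ n ih => rw [pow_succ, cj_mul (pow_mem (mul_mem hn hn) n) (mul_mem hn hn), ih, h2]
  obtain ⟨k, hk⟩ := D.odd.of_dvd_nat (orderOf_dvd_natCard s)
  have hs1 : (s * s) ^ (k + 1) = s := by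
    rw [← sq, ← pow_mul, show 2 * (k + 1) = orderOf s + 1 by omega, pow_succ, pow_orderOf_eq_one,
      one_mul]
  have h3 := hpow (k + 1)
  rw [hs1, h] at h3
  obtain ⟨z, hz, hz1⟩ := hθ.1
  have h4 : θ z * θ z = 1 := by
    have e : (θ z)⁻¹ = θ z := DFunLike.congr_fun h3 z
    calc θ z * θ z = (θ z)⁻¹ * θ z := by rw [e]
      _ = 1 := inv_mul_cancel _
  obtain ⟨m, hm⟩ := D.odd.of_dvd_nat (Subgroup.card_subgroup_dvd_card (hall P U))
  have h5 : θ z ^ Nat.card ↥(hall P U) = 1 := by rw [← map_pow, pow_card_eq_one', map_one]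
  rw [hm, pow_succ, pow_mul, sq, h4, one_pow, one_mul] at h5
  exact hz1 h5

/-- The extensions of `θ` to its stabiliser. -/
def Exts (θ : hall P U →* ℂˣ) : Type u :=
  {ξ : ↥(D.lstab θ) →* ℂˣ // ∀ (h : hall P U) (z : ↥(D.lstab θ)), (z : G) = h → ξ z = θ h}

/-- `ξ` as a character of the subgroup `lstab θ` of `S`. -/
def extS (ξ : D.Exts θ) : ↥((D.lstab θ).subgroupOf S) →* ℂˣ :=
  ξ.1.comp (Subgroup.subgroupOfEquivOfLe (D.lstab_le θ)).toMonoidHom

/-- The constituent `Ind ξ` of `Ind_H^S θ`. -/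
noncomputable def lam [Fintype S] (ξ : D.Exts θ) : S → ℂ :=
  Cfsg.indFun ((D.lstab θ).subgroupOf S) (lf (D.extS ξ))

theorem extS_hall (ξ : D.Exts θ) (l : ↥((D.lstab θ).subgroupOf S)) (h : hall P U)
    (e : ((l : S) : G) = h) : D.extS ξ l = θ h := ξ.2 h _ e

theorem conj_lam [Fintype S] (ξ : D.Exts θ) :
    Cfsg.conjFun (D.lam ξ) = Cfsg.indFun ((D.lstab θ).subgroupOf S) (lf (D.extS ξ)⁻¹) := by
  classical
  funext x
  show conj (Cfsg.indFun ((D.lstab θ).subgroupOf S) (lf (D.extS ξ)) x) = _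
  rw [indFun_apply, indFun_apply, map_mul, map_inv₀, map_natCast, map_sum]
  congr 1
  refine Finset.sum_congr rfl fun y _ => ?_
  by_cases h : y⁻¹ * x * y ∈ (D.lstab θ).subgroupOf S
  · rw [extendByZero_mem _ _ h, extendByZero_mem _ _ h]
    simp only [lf]
    rw [lf_inv, map_inv, MonoidHom.inv_apply]
  · rw [extendByZero_not_mem _ _ h, extendByZero_not_mem _ _ h, map_zero]

theorem sep {θ φ : hall P U →* ℂˣ} (L L' : Subgroup G) (hL : hall P U ≤ L) (hL' : hall P U ≤ L')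
    (x : S) (hne : cj (hall P U) ((x : G)) φ ≠ θ) :
    ∃ (a : L.subgroupOf S) (b : L'.subgroupOf S) (h k : hall P U),
      ((a : S) : G) = h ∧ ((b : S) : G) = k ∧ (b : S) = x * (a : S) * x⁻¹ ∧ θ h ≠ φ k := by
  obtain ⟨h, hh⟩ : ∃ h, cj (hall P U) (x : G) φ h ≠ θ h := by
    by_contra hc
    push Not at hc
    exact hne (MonoidHom.ext hc)
  refine ⟨⟨⟨h, D.hall_le h.2⟩, hL h.2⟩, ⟨x * ⟨h, D.hall_le h.2⟩ * x⁻¹,
    hL' (D.normal_hall x.2 h.2)⟩, h, ⟨_, D.normal_hall x.2 h.2⟩, rfl, rfl, rfl, ?_⟩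
  intro e
  exact hh ((cj_apply' (D.mem_norm x.2) φ h ⟨_, D.normal_hall x.2 h.2⟩ rfl).trans e.symm)

theorem lam_norm [Fintype S] (hθ : D.Generic θ) (ξ ξ' : D.Exts θ) [Decidable (ξ = ξ')] :
    Cfsg.classInner (D.lam ξ) (D.lam ξ') = if ξ = ξ' then 1 else 0 := by
  classical
  haveI : Fintype ↥((D.lstab θ).subgroupOf S) := Fintype.ofFinite _
  rw [lam, lam, inner_ind_lin]
  · congr 1
    refine propext ⟨fun e => Subtype.ext (MonoidHom.ext fun z => ?_), fun e => by rw [e]⟩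
    have := DFunLike.congr_fun e ((Subgroup.subgroupOfEquivOfLe (D.lstab_le θ)).symm z)
    simpa [extS] using this
  · intro x hx
    have hne : cj (hall P U) (x : G) θ ≠ θ := fun e =>
      hx (Subgroup.mem_subgroupOf.mpr ((D.stab_iff hθ x.2).mp e))
    obtain ⟨a, b, h, k, ea, eb, eab, hne'⟩ :=
      D.sep _ _ (D.hall_le_lstab θ) (D.hall_le_lstab θ) x hne
    exact ⟨a, b, eab, by rwa [D.extS_hall ξ a h ea, D.extS_hall ξ' b k eb]⟩

theorem lam_irr [Fintype S] (hθ : D.Generic θ) (ξ : D.Exts θ) :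
    Cfsg.IsIrrCharacter S (D.lam ξ) := by
  classical
  refine IsCharacter.isIrr_of_norm_one
    (isCharacter_indFun _ (IsIrrCharacter.isCharacter (isIrrCharacter_linear _))) ?_
  have := D.lam_norm hθ ξ ξ
  rwa [if_pos rfl] at this

theorem lam_orth [Fintype S] {θ θ' : hall P U →* ℂˣ} (ξ : D.Exts θ) (ξ' : D.Exts θ')
    (h : ∀ s ∈ S, cj (hall P U) s θ' ≠ θ) :
    Cfsg.classInner (D.lam ξ) (D.lam ξ') = 0 := by
  refine inner_ind_lin_zero _ _ fun x => ?_
  obtain ⟨a, b, hh, k, ea, eb, eab, hne'⟩ :=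
    D.sep (θ := θ) (φ := θ') _ _ (D.hall_le_lstab θ) (D.hall_le_lstab θ') x⁻¹ (h _ (x⁻¹).2)
  exact ⟨a, b, by rw [eab, inv_inv], by rwa [D.extS_hall ξ a hh ea, D.extS_hall ξ' b k eb]⟩

theorem lam_conj_orth [Fintype S] {θ θ' : hall P U →* ℂˣ} (ξ : D.Exts θ) (ξ' : D.Exts θ')
    (h : ∀ s ∈ S, cj (hall P U) s θ'⁻¹ ≠ θ) :
    Cfsg.classInner (D.lam ξ) (Cfsg.conjFun (D.lam ξ')) = 0 := by
  rw [D.conj_lam]
  refine inner_ind_lin_zero _ _ fun x => ?_
  obtain ⟨a, b, hh, k, ea, eb, eab, hne'⟩ :=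
    D.sep (θ := θ) (φ := θ'⁻¹) _ _ (D.hall_le_lstab θ) (D.hall_le_lstab θ') x⁻¹ (h _ (x⁻¹).2)
  refine ⟨a, b, by rw [eab, inv_inv], ?_⟩
  rw [MonoidHom.inv_apply, D.extS_hall ξ a hh ea, D.extS_hall ξ' b k eb]
  exact hne'

theorem lam_res [Fintype S] (ξ : D.Exts θ) (h : hall P U) :
    D.lam ξ ⟨h, D.hall_le h.2⟩ =
      (Nat.card ↥(D.lstab θ) : ℂ)⁻¹ * ∑ s : S, (cj (hall P U) (s : G) θ h : ℂ) := by
  classical
  rw [lam, indFun_apply, Nat.card_congr (Subgroup.subgroupOfEquivOfLe (D.lstab_le θ)).toEquiv]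
  congr 1
  refine Fintype.sum_equiv (Equiv.inv S) _ _ fun x => ?_
  have hmem : x⁻¹ * (⟨h, D.hall_le h.2⟩ : S) * x ∈ (D.lstab θ).subgroupOf S := by
    refine D.hall_le_lstab θ ?_
    have := D.normal_hall (S.inv_mem x.2) h.2
    simpa using this
  have hk : (x : G)⁻¹ * h * x ∈ hall P U := by
    have := D.normal_hall (S.inv_mem x.2) h.2
    simpa using this
  rw [extendByZero_mem _ _ hmem]
  simp only [lf, Equiv.inv_apply, Subgroup.coe_inv]
  rw [D.extS_hall ξ ⟨_, hmem⟩ ⟨_, hk⟩ rfl,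
    cj_apply' (D.mem_norm (S.inv_mem x.2)) θ h ⟨_, hk⟩ (by simp)]

/-- `λ` vanishes off the identity and the set on which the Dade map is defined. -/
theorem lam_supp [Fintype S] (hθ : D.Generic θ) (ξ : D.Exts θ) (g : S) (hg1 : g ≠ 1)
    (hgA : (g : G) ∉ aset P U) : D.lam ξ g = 0 := by
  classical
  rw [lam, indFun_apply, Finset.sum_eq_zero, mul_zero]
  intro y _
  refine extendByZero_not_mem _ _ fun hm => hgA ?_
  have hl : ((y⁻¹ * g * y : S) : G) ∈ D.lstab θ := hm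
  suffices h : ((y⁻¹ * g * y : S) : G) ∈ aset P U by
    have h2 := D.aset_conj y.2 h
    simpa [mul_assoc] using h2
  obtain ⟨x, hx, b, hb, e⟩ := D.mem_lstab.mp hl
  rw [e]
  refine ⟨mul_mem (le_sup_left (b := U) hx) (le_sup_right (a := P) hb.1), ?_, ?_⟩
  · rw [← e]
    exact fun h => hg1 (by
      have h' : y⁻¹ * g * y = 1 := Subtype.ext h
      calc g = y * (y⁻¹ * g * y) * y⁻¹ := by group
        _ = 1 := by rw [h']; group)
  · by_contra hc
    push Not at hc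
    -- otherwise `z ↦ [b, z]` is a bijection of `P` and `θ` is trivial on `P`
    have hinj : ∀ z : P, b * (z : G) = z * b → z = 1 := by
      intro z hz
      by_contra hz1
      refine hc z z.2 (fun e => hz1 (Subtype.ext e)) ?_
      rw [mul_assoc, hz, ← mul_assoc, D.P_comm x hx z z.2, mul_assoc]
    have hmem : ∀ z : P, b * (z : G) * b⁻¹ * (z : G)⁻¹ ∈ P := fun z =>
      P.mul_mem (D.le_normP (D.U_le hb.1) z.2) (P.inv_mem z.2)
    have hbij : Function.Bijective (fun z : P => (⟨_, hmem z⟩ : P)) := by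
      refine Finite.injective_iff_bijective.mp fun z z' ez => ?_
      have e' : b * (z : G) * b⁻¹ * (z : G)⁻¹ = b * z' * b⁻¹ * (z' : G)⁻¹ := congrArg Subtype.val ez
      have hz := hinj (z'⁻¹ * z) ?_
      · exact (inv_mul_eq_one.mp hz).symm
      · show b * ((z' : G)⁻¹ * z) = (z' : G)⁻¹ * z * b
        have e1 : (b * (z' : G) * b⁻¹)⁻¹ * (b * z * b⁻¹) = (z' : G)⁻¹ * z := by
          have ha : b * (z : G) * b⁻¹ = b * z' * b⁻¹ * (z' : G)⁻¹ * z := by rw [← e']; group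
          rw [ha]; group
        calc b * ((z' : G)⁻¹ * z) = (b * (z' : G) * b⁻¹)⁻¹ * (b * z * b⁻¹) * b := by group
          _ = (z' : G)⁻¹ * z * b := by rw [e1]
    obtain ⟨⟨t, ht⟩, htP, ht1⟩ := hθ.1
    obtain ⟨z, hz⟩ := hbij.2 ⟨t, htP⟩
    refine ht1 ?_
    have hbz := D.normal_hall (D.U_le hb.1) (D.P_le_hall z.2)
    rw [show (⟨t, ht⟩ : hall P U) = (⟨_, hbz⟩ : hall P U) * (⟨z, D.P_le_hall z.2⟩ : hall P U)⁻¹ from
      Subtype.ext (congrArg Subtype.val hz).symm, map_mul, map_inv,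
      ← cj_apply' (D.mem_norm (D.U_le hb.1)) θ ⟨z, D.P_le_hall z.2⟩ ⟨_, hbz⟩ rfl, hb.2, mul_inv_cancel]

/-- The chosen supports of the Dade map. -/
noncomputable def supp (D : Side S P U W₁ W₂) : G → Subgroup G := Classical.choose D.dade

theorem supp_spec : Cfsg.DadeHypothesis (aset P U) S D.supp := Classical.choose_spec D.dade

/-- The Dade image of `λ - conj λ`. -/
noncomputable def tau [Fintype S] (ξ : D.Exts θ) : G → ℂ :=
  Cfsg.dadeIsometry (aset P U) S D.supp (D.lam ξ - Cfsg.conjFun (D.lam ξ))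

theorem diff_vanish [Fintype S] (hθ : D.Generic θ) (ξ : D.Exts θ) (x : S)
    (hx : (x : G) ∉ aset P U) : (D.lam ξ - Cfsg.conjFun (D.lam ξ)) x = 0 := by
  obtain ⟨d, -, hd⟩ := IsIrrCharacter.exists_degree (D.lam_irr hθ ξ)
  by_cases h1 : x = 1
  · subst h1; simp [Cfsg.conjFun, hd]
  · simp [Cfsg.conjFun, D.lam_supp hθ ξ x h1 hx]

theorem diff_gen [Fintype S] (hθ : D.Generic θ) (ξ : D.Exts θ) :
    Cfsg.IsGeneralizedCharacter S (D.lam ξ - Cfsg.conjFun (D.lam ξ)) :=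
  IsGeneralizedCharacter.sub
    (IsGeneralizedCharacter.of_isCharacter (IsIrrCharacter.isCharacter (D.lam_irr hθ ξ)))
    (IsGeneralizedCharacter.of_isCharacter
      (IsIrrCharacter.isCharacter (IsIrrCharacter.conj (D.lam_irr hθ ξ))))

theorem tau_gen [Fintype S] (hθ : D.Generic θ) (ξ : D.Exts θ) :
    Cfsg.IsGeneralizedCharacter G (D.tau ξ) :=
  Cfsg.Agent.S1501.result _ S _ D.supp_spec _ (D.diff_gen hθ ξ) (D.diff_vanish hθ ξ)

theorem tau_class [Fintype S] (hθ : D.Generic θ) (ξ : D.Exts θ) :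
    Cfsg.IsClassFunction G (D.tau ξ) :=
  IsGeneralizedCharacter.isClassFunction (D.tau_gen hθ ξ)

theorem tau_inner [Fintype S] {θ θ' : hall P U →* ℂˣ} (hθ : D.Generic θ) (hθ' : D.Generic θ')
    (ξ : D.Exts θ) (ξ' : D.Exts θ') :
    Cfsg.classInner (D.tau ξ) (D.tau ξ') =
      Cfsg.classInner (D.lam ξ - Cfsg.conjFun (D.lam ξ)) (D.lam ξ' - Cfsg.conjFun (D.lam ξ')) :=
  (Cfsg.Agent.S1500.result _ S _ D.supp_spec _
    (IsGeneralizedCharacter.isClassFunction (D.diff_gen hθ ξ)) (D.diff_vanish hθ ξ)).1 _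
    (IsGeneralizedCharacter.isClassFunction (D.diff_gen hθ' ξ')) (D.diff_vanish hθ' ξ')

theorem inner_conj_conj {X : Type v} [Group X] [Fintype X] (a b : X → ℂ) :
    Cfsg.classInner (Cfsg.conjFun a) (Cfsg.conjFun b) = conj (Cfsg.classInner a b) := by
  simp [Cfsg.classInner, Cfsg.conjFun]

theorem tau_orth [Fintype S] {θ θ' : hall P U →* ℂˣ} (hθ : D.Generic θ) (hθ' : D.Generic θ')
    (h : ∀ s ∈ S, cj (hall P U) s θ' ≠ θ) (h' : ∀ s ∈ S, cj (hall P U) s θ'⁻¹ ≠ θ)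
    (ξ : D.Exts θ) (ξ' : D.Exts θ') : Cfsg.classInner (D.tau ξ) (D.tau ξ') = 0 := by
  rw [D.tau_inner hθ hθ', classInner_sub_left, classInner_sub_right, classInner_sub_right,
    D.inner_conj_conj, D.lam_orth ξ ξ' h, D.lam_conj_orth ξ ξ' h']
  have : Cfsg.classInner (Cfsg.conjFun (D.lam ξ)) (D.lam ξ') =
      conj (Cfsg.classInner (D.lam ξ) (Cfsg.conjFun (D.lam ξ'))) := by
    simp [Cfsg.classInner, Cfsg.conjFun]
  rw [this, D.lam_conj_orth ξ ξ' h']
  simp

theorem tau_inner_same [Fintype S] (hθ : D.Generic θ) (ξ ξ' : D.Exts θ) [Decidable (ξ = ξ')] :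
    Cfsg.classInner (D.tau ξ) (D.tau ξ') = if ξ = ξ' then 2 else 0 := by
  have h0 : ∀ s ∈ S, cj (hall P U) s θ⁻¹ ≠ θ := fun s hs e => by
    have := D.not_conj_inv (D.inv_generic hθ) hs
    rw [inv_inv_hom] at this
    exact this e
  have : Cfsg.classInner (Cfsg.conjFun (D.lam ξ)) (D.lam ξ') =
      conj (Cfsg.classInner (D.lam ξ) (Cfsg.conjFun (D.lam ξ'))) := by
    simp [Cfsg.classInner, Cfsg.conjFun]
  rw [D.tau_inner hθ hθ, classInner_sub_left, classInner_sub_right, classInner_sub_right,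
    D.inner_conj_conj, D.lam_conj_orth ξ ξ' h0, this, D.lam_conj_orth ξ ξ' h0, D.lam_norm hθ ξ ξ']
  split_ifs <;> norm_num

theorem tau_mu [Fintype S] (hθ : D.Generic θ) (ξ : D.Exts θ) :
    ∃ μ : G → ℂ, Cfsg.IsIrrCharacter G μ ∧ D.tau ξ = μ - Cfsg.conjFun μ ∧ Cfsg.conjFun μ ≠ μ := by
  classical
  obtain ⟨μ, hμ, e⟩ := Cfsg.Agent.S1518.result _ S _ D.supp_spec _ (D.lam_irr hθ ξ)
    (fun x h1 hx => D.lam_supp hθ ξ x h1 hx)
  refine ⟨μ, hμ, e, fun hr => ?_⟩
  have := D.tau_inner_same hθ ξ ξ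
  rw [if_pos rfl, show D.tau ξ = μ - Cfsg.conjFun μ from e, hr, sub_self] at this
  simp [Cfsg.classInner] at this

/-- The pairing of `Ind_H^G (α - β)` with `tau`. -/
theorem tau_bf [Fintype S] (hθ : D.Generic θ) (ξ : D.Exts θ) (α β : hall P U →* ℂˣ) :
    Cfsg.classInner (bf α β) (D.tau ξ) = (Nat.card ↥(D.lstab θ) : ℂ)⁻¹ *
      ((fixCount (hall P U) S θ α : ℂ) - fixCount (hall P U) S θ⁻¹ α -
        fixCount (hall P U) S θ β + fixCount (hall P U) S θ⁻¹ β) := by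
  classical
  haveI : Fintype ↥(hall P U) := Fintype.ofFinite _
  rw [bf, classInner_indFun_left _ _ (D.tau_class hθ ξ)]
  have hres : ∀ h : hall P U, D.tau ξ h =
      (Nat.card ↥(D.lstab θ) : ℂ)⁻¹ * ∑ s : S, (((cj (hall P U) (s : G) θ h : ℂˣ) : ℂ) -
        ((cj (hall P U) (s : G) θ⁻¹ h : ℂˣ) : ℂ)) := by
    intro h
    have hval : (D.lam ξ - Cfsg.conjFun (D.lam ξ)) ⟨h, D.hall_le h.2⟩ =
        (Nat.card ↥(D.lstab θ) : ℂ)⁻¹ * ∑ s : S, (((cj (hall P U) (s : G) θ h : ℂˣ) : ℂ) -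
          ((cj (hall P U) (s : G) θ⁻¹ h : ℂˣ) : ℂ)) := by
      rw [Pi.sub_apply, Cfsg.conjFun, D.lam_res, map_mul, map_inv₀, map_natCast, map_sum,
        Finset.sum_sub_distrib, mul_sub]
      congr 2
      refine Finset.sum_congr rfl fun s _ => ?_
      rw [lf_inv, cj_map_inv (D.mem_norm s.2), MonoidHom.inv_apply, map_inv]
    by_cases h1 : (h : G) = 1
    · have hh : h = 1 := Subtype.ext h1
      subst hh
      have hz : D.tau ξ 1 = 0 := by
        refine Cfsg.Agent.Char.Dade.dadeIsometry_zero D.supp_spec fun a ha hg => ?_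
        obtain ⟨u, hu, x, hx⟩ := Cfsg.Agent.Char.Dade.mem_coset.mp hg
        have hSD := D.supp_spec
        refine hSD.one_not_mem ?_
        rw [mul_one, mul_inv_cancel] at hx
        have hmem : a ∈ D.supp a ⊓ (S ⊓ Subgroup.centralizer ({a} : Set G)) :=
          ⟨eq_inv_of_mul_eq_one_left hx.symm ▸ (D.supp a).inv_mem hu,
            hSD.subset ha, Subgroup.mem_centralizer_singleton_iff.mpr rfl⟩
        rw [hSD.inf_eq_bot a ha, Subgroup.mem_bot] at hmem
        exact hmem ▸ ha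
      rw [show ((1 : hall P U) : G) = 1 from rfl, hz]
      simp
    · rw [← hval]
      exact Cfsg.Agent.Char.Dade.dadeIsometry_eq D.supp_spec
        (IsGeneralizedCharacter.isClassFunction (D.diff_gen hθ ξ))
        (D.hall_subset_aset h.2 h1)
        (Cfsg.Agent.Char.Dade.mem_coset.mpr ⟨1, one_mem _, 1, by simp⟩)
  have hfun : (fun h : hall P U => D.tau ξ h) = (Nat.card ↥(D.lstab θ) : ℂ)⁻¹ •
      ∑ s : S, (lf (cj (hall P U) (s : G) θ) - lf (cj (hall P U) (s : G) θ⁻¹)) := by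
    funext h
    rw [hres h]
    simp [lf]
  rw [hfun, classInner_smul_right, map_inv₀, map_natCast, classInner_sum_right]
  congr 1
  simp only [classInner_sub_left, classInner_sub_right, classInner_lin]
  have cnt : ∀ a b : hall P U →* ℂˣ, ∑ s : S, (if a = cj (hall P U) (s : G) b then (1 : ℂ) else 0) =
      fixCount (hall P U) S b a := by
    intro a b
    rw [Finset.sum_boole, ← Fintype.card_subtype, ← Nat.card_eq_fintype_card, fixCount]
    congr 1
    exact Nat.card_congr (Equiv.subtypeEquivRight fun s => eq_comm)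
  simp only [Finset.sum_sub_distrib]
  rw [← cnt α θ, ← cnt α θ⁻¹, ← cnt β θ, ← cnt β θ⁻¹]
  ring

theorem tau_reg [Fintype S] (hθ : D.Generic θ) (ξ : D.Exts θ) (x : W₁) (y : W₂) (hx : x ≠ 1)
    (hy : y ≠ 1) : D.tau ξ ((x : G) * y) = 0 := by
  refine Cfsg.Agent.Char.Dade.dadeIsometry_zero D.supp_spec fun a ha hg => ?_
  obtain ⟨u, hu, z, hz⟩ := Cfsg.Agent.Char.Dade.mem_coset.mp hg
  set g := (x : G) * y with hgdef
  have hau : Commute a u := Cfsg.Agent.Char.Dade.commute_H D.supp_spec ha hu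
  -- `a` and `u` have coprime orders
  have hcop : Nat.Coprime (orderOf u) (orderOf a) :=
    ((D.supp_spec.coprime a ha a ha).coprime_dvd_left (Subgroup.orderOf_dvd_natCard _ hu)).coprime_dvd_right
      (Subgroup.orderOf_dvd_natCard (S ⊓ Subgroup.centralizer ({a} : Set G))
        (Subgroup.mem_inf.mpr ⟨D.supp_spec.subset ha, Subgroup.mem_centralizer_singleton_iff.mpr rfl⟩))
  have hcomm : Commute (x : G) y := D.selfN.2.2.2.1 x x.2 y y.2
  have hgpq : g ^ (Nat.card W₁ * Nat.card W₂) = 1 := by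
    rw [hgdef, hcomm.mul_pow, orderOf_dvd_iff_pow_eq_one.mp
      ((Subgroup.orderOf_dvd_natCard W₁ x.2).trans (dvd_mul_right _ _)),
      orderOf_dvd_iff_pow_eq_one.mp ((Subgroup.orderOf_dvd_natCard W₂ y.2).trans (dvd_mul_left _ _)),
      one_mul]
  have hord : orderOf a * orderOf u ∣ Nat.card W₁ * Nat.card W₂ := by
    rw [← hau.orderOf_mul_eq_mul_orderOf_of_coprime hcop.symm]
    refine orderOf_dvd_of_pow_eq_one ?_
    rw [← hz, conj_pow, hgpq]; group
  -- `a` lies in `P`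
  have haPU : a ∈ P ⊔ U := ha.1
  have hq : Nat.Coprime (Nat.card W₁) (orderOf a) := by
    refine Nat.Coprime.coprime_dvd_right (Subgroup.orderOf_dvd_natCard _ haPU) ?_
    rw [D.card_PU]
    exact D.coprime_P.mul_right D.coprime_U
  have hap : orderOf a ∣ Nat.card W₂ := hq.symm.dvd_of_dvd_mul_left ((dvd_mul_right _ _).trans hord)
  have haP : a ∈ P := by
    obtain ⟨k, hk, v, hv, e⟩ := D.mem_PU.mp haPU
    have hcopU : Nat.Coprime (Nat.card W₂) (Nat.card U) :=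
      D.coprime_PU.coprime_dvd_left (Subgroup.card_dvd_of_le D.W₂_le)
    have hvn : ∀ n : ℕ, ∃ k' ∈ P, a ^ n = k' * v ^ n := by
      intro n
      induction n with
      | zero => exact ⟨1, one_mem _, by simp⟩
      | succ n ih =>
        obtain ⟨k', hk', e'⟩ := ih
        exact ⟨k' * (v ^ n * k * (v ^ n)⁻¹), mul_mem hk' (D.le_normP (D.U_le (pow_mem hv n)) hk),
          by rw [pow_succ, e', e, pow_succ]; group⟩
    obtain ⟨k', hk', e'⟩ := hvn (Nat.card W₂)
    rw [orderOf_dvd_iff_pow_eq_one.mp hap] at e'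
    have hvU : v ^ Nat.card W₂ ∈ P ⊓ U :=
      ⟨by rw [eq_inv_of_mul_eq_one_right e'.symm]; exact P.inv_mem hk', U.pow_mem hv _⟩
    rw [D.inf_PU, Subgroup.mem_bot] at hvU
    have := (pow_gcd_eq_one (a := v)).mpr
      ⟨hvU, orderOf_dvd_iff_pow_eq_one.mp (Subgroup.orderOf_dvd_natCard U hv)⟩
    rw [hcopU, pow_one] at this
    rw [e, this, mul_one]; exact hk
  have hu1 : u = 1 := by
    have h := D.centralizer_le (D.P_le_hall haP) ha.2.1
    have hm : u ∈ D.supp a ⊓ (S ⊓ Subgroup.centralizer ({a} : Set G)) :=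
      ⟨hu, h (D.supp_spec.le_centralizer a ha hu), D.supp_spec.le_centralizer a ha hu⟩
    rwa [D.supp_spec.inf_eq_bot a ha, Subgroup.mem_bot] at hm
  rw [hu1, mul_one] at hz
  exact D.reg_not_hall hx hy z (by rw [← hgdef, hz]; exact D.P_le_hall haP)

variable {η : (W₁ →* ℂˣ) → (W₂ →* ℂˣ) → G → ℂ} (F : Fam W₁ W₂ η)
include F

theorem tau_eta [Fintype S] (hθ : D.Generic θ) (ξ : D.Exts θ) (a : W₁ →* ℂˣ) (b : W₂ →* ℂˣ) :
    Cfsg.classInner (D.tau ξ) (η a b) = 0 := by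
  classical
  haveI := isMulCommutative1 D.selfN
  haveI := isMulCommutative2 D.selfN
  haveI := finite_dual W₁
  haveI := finite_dual W₂
  haveI : Fintype (W₁ →* ℂˣ) := Fintype.ofFinite _
  haveI : Fintype (W₂ →* ℂˣ) := Fintype.ofFinite _
  have hgen := D.tau_gen hθ ξ
  have hone : Cfsg.classInner (D.tau ξ) (η 1 1) = 0 := by
    simp only [F.one, tau]
    rw [(Cfsg.Agent.S1500.result _ S _ D.supp_spec _
      (IsGeneralizedCharacter.isClassFunction (D.diff_gen hθ ξ)) (D.diff_vanish hθ ξ)).2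
      (fun _ => 1) (fun _ => 1) (fun _ _ => rfl) (fun x hx => by
        rw [finsum_mem_eq_finite_toFinset_sum _ (Set.toFinite _), Finset.sum_const, nsmul_eq_mul,
          mul_one, ← Nat.card_eq_card_finite_toFinset (Set.toFinite _)]
        exact (inv_mul_cancel₀ (Nat.cast_ne_zero.mpr Nat.card_pos.ne')).symm)]
    have hl1 : D.lam ξ ≠ fun _ => 1 := by
      intro e
      have h2 := D.lam_norm hθ ξ ξ
      have h3 : Cfsg.classInner (D.lam ξ) (Cfsg.conjFun (D.lam ξ)) = 0 :=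
        D.lam_conj_orth ξ ξ fun s hs e' => by
          have := D.not_conj_inv (D.inv_generic hθ) hs
          rw [inv_inv_hom] at this
          exact this e'
      rw [if_pos rfl, e] at h2
      rw [e, show Cfsg.conjFun (fun _ : S => (1 : ℂ)) = fun _ => 1 from funext fun _ => by
        simp [Cfsg.conjFun], h2] at h3
      exact one_ne_zero h3
    have e1 := classInner_irr_of_ne (D.lam_irr hθ ξ) isIrrCharacter_one hl1
    rw [classInner_sub_left, e1]
    have : Cfsg.classInner (Cfsg.conjFun (D.lam ξ)) (fun _ => 1) =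
        conj (Cfsg.classInner (D.lam ξ) (fun _ => 1)) := by simp [Cfsg.classInner, Cfsg.conjFun]
    rw [this, e1]
    simp
  choose c hc using fun a b =>
    IsGeneralizedCharacter.exists_classInner_int hgen (SignIrr_isGen (F.sign a b))
  have hgrid : ∀ a b, c a b = c a 1 + c 1 b := by
    intro a b
    have := F.grid _ (D.tau_class hθ ξ) (fun x y hx hy => D.tau_reg hθ ξ x y hx hy) a b
    rw [hc, hc, hc, hone, sub_zero] at this
    exact_mod_cast this
  have h11 : c 1 1 = 0 := by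
    have := hone; rw [hc] at this; exact_mod_cast this
  have hq : (Nat.card W₁ : ℤ) = ∑ _a : W₁ →* ℂˣ, (1 : ℤ) := by
    rw [Finset.sum_const, Finset.card_univ, ← Nat.card_eq_fintype_card, card_hom]; simp
  have hcol : ∀ ψ ψ' : W₂ →* ℂˣ, ψ ≠ 1 → ψ' ≠ 1 → c 1 ψ = c 1 ψ' := by
    intro ψ ψ' hψ hψ'
    by_cases he : ψ = ψ'
    · rw [he]
    have h0 : Cfsg.classInner (bf (D.phi ψ) (D.phi ψ')) (D.tau ξ) = 0 := by
      rw [D.tau_bf hθ]
      simp [(D.fixCount_generic hθ ψ).1, (D.fixCount_generic hθ ψ').1,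
        (D.fixCount_generic (D.inv_generic hθ) ψ).1, (D.fixCount_generic (D.inv_generic hθ) ψ').1]
    rw [D.bf_phi_phi F hψ hψ' he, classInner_sum_left] at h0
    have hc' : ∀ a b, Cfsg.classInner (η a b) (D.tau ξ) = (c a b : ℂ) := fun a b => by
      rw [← classInner_conj_symm (D.tau ξ) (η a b), hc, map_intCast]
    rw [Finset.sum_congr rfl (g := fun _ => ((c 1 ψ : ℂ) - c 1 ψ')) (fun a _ => by
      rw [classInner_sub_left, hc', hc', hgrid a ψ, hgrid a ψ']; push_cast; ring)] at h0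
    simp only [Finset.sum_const, nsmul_eq_mul, mul_eq_zero, Finset.card_univ] at h0
    have := Or.resolve_left h0 (Nat.cast_ne_zero.mpr Fintype.card_ne_zero)
    exact_mod_cast sub_eq_zero.mp this
  have hbes := F.bessel (D.tau ξ) ∅ (by simp) (by simp)
  rw [Finset.sum_empty, add_zero, D.tau_inner_same hθ ξ ξ, if_pos rfl] at hbes
  simp only [hc, Complex.norm_intCast, sq_abs] at hbes
  have hbes' : ∑ a, ∑ b, c a b ^ 2 ≤ 2 := by
    have : ((∑ a, ∑ b, c a b ^ 2 : ℤ) : ℝ) ≤ ((2 : ℤ) : ℝ) := by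
      push_cast
      simpa using hbes
    exact_mod_cast this
  obtain ⟨ψ₁, hψ₁⟩ : ∃ ψ : W₂ →* ℂˣ, ψ ≠ 1 := by
    obtain ⟨y, hy⟩ := (Subgroup.bot_or_exists_ne_one W₂).resolve_left D.selfN.2.1
    obtain ⟨f, hf⟩ := exists_hom_ne_one (x := (⟨y, hy.1⟩ : W₂)) (fun e => hy.2 (congrArg Subtype.val e))
    exact ⟨f, fun e => hf (by rw [e]; rfl)⟩
  set x := c 1 ψ₁ with hx
  have hp3 : (3 : ℤ) ≤ Fintype.card (W₂ →* ℂˣ) := by
    rw [← Nat.card_eq_fintype_card, card_hom]; exact_mod_cast D.three_le_p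
  have hq3 : (3 : ℤ) ≤ Fintype.card (W₁ →* ℂˣ) := by
    rw [← Nat.card_eq_fintype_card, card_hom]; exact_mod_cast D.three_le_q
  have hrow : ∀ a, ∑ b, c a b ^ 2 = c a 1 ^ 2 + ((Fintype.card (W₂ →* ℂˣ) : ℤ) - 1) * (c a 1 + x) ^ 2 := by
    intro a
    rw [← Finset.add_sum_erase _ _ (Finset.mem_univ (1 : W₂ →* ℂˣ))]
    congr 1
    rw [Finset.sum_congr rfl (g := fun _ => (c a 1 + x) ^ 2) (fun b hb => by
      rw [hgrid a b, hx, hcol b ψ₁ (Finset.ne_of_mem_erase hb) hψ₁]), Finset.sum_const,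
      Finset.card_erase_of_mem (Finset.mem_univ _), Finset.card_univ, nsmul_eq_mul,
      Nat.cast_sub Fintype.card_pos]
    simp
  simp only [hrow] at hbes'
  have hterm : ∀ a, c a 1 ^ 2 + ((Fintype.card (W₂ →* ℂˣ) : ℤ) - 1) * (c a 1 + x) ^ 2 ≥
      c a 1 ^ 2 + 2 * (c a 1 + x) ^ 2 := fun a => by
    nlinarith [sq_nonneg (c a 1 + x)]
  have hx0 : x = 0 := by
    by_contra hne
    have h1 : ∀ a, 1 ≤ c a 1 ^ 2 + ((Fintype.card (W₂ →* ℂˣ) : ℤ) - 1) * (c a 1 + x) ^ 2 := by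
      intro a
      refine le_trans ?_ (hterm a)
      by_cases hy : c a 1 = 0
      · have := Int.one_le_abs hne
        rw [hy]; nlinarith [sq_abs x]
      · have := Int.one_le_abs hy
        nlinarith [sq_abs (c a 1), sq_nonneg (c a 1 + x)]
    have := Finset.sum_le_sum (s := Finset.univ) (fun a _ => h1 a)
    rw [Finset.sum_const, Finset.card_univ, nsmul_eq_mul, mul_one] at this
    omega
  have hy0 : ∀ a, c a 1 = 0 := by
    intro a
    by_contra hne
    have h1 := Finset.single_le_sum (f := fun a => c a 1 ^ 2 +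
      ((Fintype.card (W₂ →* ℂˣ) : ℤ) - 1) * (c a 1 + x) ^ 2)
      (fun a _ => le_trans (by positivity) (hterm a)) (Finset.mem_univ a)
    have h2 := hterm a
    simp only [hx0, add_zero] at h1 h2 hbes'
    have := Int.one_le_abs hne
    nlinarith [sq_abs (c a 1)]
  rw [hc, hgrid, hy0]
  by_cases hb : b = 1
  · rw [hb, h11]; simp
  · rw [hcol b ψ₁ hb hψ₁, ← hx, hx0]; simp

end Side

end Cfsg.Agent.OddChar.P13
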