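/-
Peterfalvi (13.3)-(13.5) without coherence: the values of `Ind_H^G (θ - φ)` on the family `η` for
generic `θ`, and the resulting coefficients of `η` restricted to `H`.
-/
import Cfsg.Agent.Lib.OddChar.P13.Pairs

set_option autoImplicit false
set_option linter.unusedSectionVars false
set_option linter.unusedVariables false
set_option linter.unnecessarySimpa false
set_option linter.style.haveILetI false

namespace Cfsg.Agent.OddChar.P13

open scoped ComplexConjugate IsMulCommutative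
open Cfsg.Agent.Char Cfsg.Agent.Char.CyclicTI

universe u

variable {G : Type u} [Group G] [Fintype G] {S P U W₁ W₂ : Subgroup G}

theorem abs_le_sq_add_sq (x y : ℤ) : |x - y| ≤ x ^ 2 + y ^ 2 := by
  have h2 : ∀ n : ℤ, |n| ≤ n ^ 2 := fun n => by
    rcases eq_or_ne n 0 with rfl | hn
    · simp
    · rw [← sq_abs]; nlinarith [Int.one_le_abs hn]
  exact (abs_sub x y).trans (add_le_add (h2 x) (h2 y))

theorem ne_inv_of_odd {A : Type*} [Group A] [Finite A] [IsMulCommutative A]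
    (hA : Odd (Nat.card A)) {ψ : A →* ℂˣ} (h : ψ ≠ 1) : ψ⁻¹ ≠ ψ := by
  intro e
  refine h (MonoidHom.ext fun x => ?_)
  have h2 : ψ x * ψ x = 1 := by
    conv_lhs => arg 1; rw [← e]
    rw [MonoidHom.inv_apply, inv_mul_cancel]
  obtain ⟨k, hk⟩ := hA
  have h3 : ψ x ^ Nat.card A = 1 := by rw [← map_pow, pow_card_eq_one', map_one]
  rw [hk, pow_succ, pow_mul, sq, h2, one_pow, one_mul] at h3
  exact h3

theorem hom_inv_inj {M : Type*} [MulOneClass M] {a b : M →* ℂˣ} : a⁻¹ = b⁻¹ ↔ a = b :=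
  ⟨fun h => MonoidHom.ext fun x => inv_inj.mp (DFunLike.congr_fun h x), fun h => by rw [h]⟩

theorem hom_inv_one {M : Type*} [MulOneClass M] {a : M →* ℂˣ} : a⁻¹ = 1 ↔ a = 1 :=
  ⟨fun h => MonoidHom.ext fun x => inv_eq_one.mp (DFunLike.congr_fun h x),
    fun h => MonoidHom.ext fun x => inv_eq_one.mpr (DFunLike.congr_fun h x)⟩

namespace Side

variable (D : Side S P U W₁ W₂)
include D

theorem cj_stab_self {θ : hall P U →* ℂˣ} (hθ : D.Generic θ) {s : G} (hs : s ∈ S) :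
    cj (hall P U) s θ⁻¹ = θ⁻¹ ↔ cj (hall P U) s θ = θ := by
  rw [cj_map_inv (D.mem_norm hs)]; exact hom_inv_inj

theorem lstab_inv {θ : hall P U →* ℂˣ} (hθ : D.Generic θ) : D.lstab θ⁻¹ = D.lstab θ := by
  ext g
  constructor <;> intro hg
  · have hgS := D.lstab_le _ hg
    exact (D.stab_iff hθ hgS).mp ((D.cj_stab_self hθ hgS).mp ((D.stab_iff (D.inv_generic hθ) hgS).mpr hg))
  · have hgS := D.lstab_le _ hg
    exact (D.stab_iff (D.inv_generic hθ) hgS).mp ((D.cj_stab_self hθ hgS).mpr ((D.stab_iff hθ hgS).mpr hg))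

theorem fixCount_inv_self {θ : hall P U →* ℂˣ} (hθ : D.Generic θ) :
    fixCount (hall P U) S θ θ⁻¹ = 0 ∧ fixCount (hall P U) S θ⁻¹ θ = 0 := by
  have h : fixCount (hall P U) S θ θ⁻¹ = 0 := fixCount_eq_zero fun _ hs => D.not_conj_inv hθ hs
  exact ⟨h, (fixCount_symm D.self_le_hall_norm _ _).trans h⟩

theorem fintype_exts (θ : hall P U →* ℂˣ) : Finite (D.Exts θ) := by
  haveI := finite_dual ↥(D.lstab θ)
  exact Finite.of_injective (fun ξ : D.Exts θ => ξ.1) fun a b h => Subtype.ext h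

theorem card_exts {θ : hall P U →* ℂˣ} (hθ : D.Generic θ) :
    fixCount (hall P U) S θ θ ≤ Nat.card (D.Exts θ) * Nat.card ↥(hall P U) := by
  set B := D.ustab θ with hB
  set C' := (cpart P U).subgroupOf B with hC'
  haveI : IsMulCommutative B :=
    ⟨⟨fun a b => Subtype.ext (D.U_comm a (D.ustab_le θ a.2) b (D.ustab_le θ b.2))⟩⟩
  haveI : C'.Normal := inferInstance
  haveI := D.fintype_exts θ
  have hBN : B ≤ Subgroup.normalizer (P : Set G) := (D.ustab_le θ).trans D.U_le_normP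
  have hBd : P ⊓ B = ⊥ := le_bot_iff.mp ((inf_le_inf_left P (D.ustab_le θ)).trans D.inf_PU.le)
  -- an extension of `θ` on `C` to `B`
  haveI : NeZero (Monoid.exponent B : ℂ) :=
    ⟨Nat.cast_ne_zero.mpr Monoid.exponent_ne_zero_of_finite⟩
  obtain ⟨γ, hγ⟩ := MonoidHom.domRestrict_surjective ℂ C'
    (θ.comp ((Subgroup.inclusion D.cpart_le_hall).comp
      (Subgroup.subgroupOfEquivOfLe (D.cpart_le_ustab θ)).toMonoidHom))
  have hext : ∀ χ : B ⧸ C' →* ℂˣ, ∃ ξ : D.Exts θ, ∀ (b : B) (z : ↥(D.lstab θ)),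
      (z : G) = b → ξ.1 z = γ b * χ b := by
    intro χ
    obtain ⟨ξ, hξP, hξB⟩ := exists_ext hBN hBd (θ.comp (Subgroup.inclusion D.P_le_hall))
      (γ * χ.comp (QuotientGroup.mk' C')) (fun b hb x y e => by
        show θ (Subgroup.inclusion D.P_le_hall y) = θ (Subgroup.inclusion D.P_le_hall x)
        conv_rhs => rw [← hb.2]
        exact (cj_apply' (D.mem_norm (D.U_le hb.1)) θ (Subgroup.inclusion D.P_le_hall x)
          (Subgroup.inclusion D.P_le_hall y) e).symm)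
    refine ⟨⟨ξ, fun h z e => ?_⟩, fun b z e => hξB b z e⟩
    obtain ⟨x, hx, c, hc, ehc⟩ := D.mem_hall.mp h.2
    have hxL : x ∈ D.lstab θ := le_sup_left (b := B) hx
    have hcL : c ∈ D.lstab θ := le_sup_right (a := P) (D.cpart_le_ustab θ hc)
    have h1 : z = (⟨x, hxL⟩ : ↥(D.lstab θ)) * ⟨c, hcL⟩ := Subtype.ext (e.trans ehc)
    have h2 : h = (⟨x, D.P_le_hall hx⟩ : hall P U) * ⟨c, D.cpart_le_hall hc⟩ := Subtype.ext ehc
    rw [h1, h2, map_mul θ]
    refine (map_mul ξ (⟨x, hxL⟩ : ↥(P ⊔ B)) ⟨c, hcL⟩).trans ?_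
    rw [hξP ⟨x, hx⟩ ⟨x, hxL⟩ rfl, hξB ⟨c, D.cpart_le_ustab θ hc⟩ ⟨c, hcL⟩ rfl]
    congr 1
    have hc' : (⟨c, D.cpart_le_ustab θ hc⟩ : B) ∈ C' := hc
    show γ _ * χ _ = _
    rw [show (QuotientGroup.mk' C') (⟨c, D.cpart_le_ustab θ hc⟩ : B) = 1 from
      (QuotientGroup.eq_one_iff _).mpr hc', map_one, mul_one]
    exact DFunLike.congr_fun hγ ⟨_, hc'⟩
  choose ξ hξ using hext
  have hinj : Function.Injective ξ := by
    intro χ χ' e
    refine MonoidHom.ext fun b => ?_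
    obtain ⟨b, rfl⟩ := QuotientGroup.mk_surjective b
    have h1 := hξ χ b ⟨b, le_sup_right (a := P) b.2⟩ rfl
    have h2 := hξ χ' b ⟨b, le_sup_right (a := P) b.2⟩ rfl
    rw [e, h2] at h1
    exact (mul_left_cancel h1).symm
  haveI : IsMulCommutative (B ⧸ C') := ⟨⟨fun a b => by
    obtain ⟨a, rfl⟩ := QuotientGroup.mk_surjective a
    obtain ⟨b, rfl⟩ := QuotientGroup.mk_surjective b
    rw [← QuotientGroup.mk_mul, ← QuotientGroup.mk_mul, mul_comm' a b]⟩⟩
  have hle : C'.index ≤ Nat.card (D.Exts θ) := by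
    rw [Subgroup.index, ← card_hom (H := B ⧸ C')]
    exact Nat.card_le_card_of_injective ξ hinj
  have hL : Nat.card ↥(D.lstab θ) = Nat.card P * Nat.card B := by
    have h : Function.Bijective (fun p : P × B => (⟨(p.1 : G) * p.2,
        mul_mem (le_sup_left (b := B) p.1.2) (le_sup_right (a := P) p.2.2)⟩ : ↥(D.lstab θ))) := by
      constructor
      · rintro ⟨a, b⟩ ⟨a', b'⟩ e
        obtain ⟨e1, e2⟩ := D.eq_of_mul_eq a.2 a'.2 (D.ustab_le θ b.2) (D.ustab_le θ b'.2)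
          (congrArg Subtype.val e)
        exact Prod.ext (Subtype.ext e1) (Subtype.ext e2)
      · intro g
        obtain ⟨x, hx, b, hb, e⟩ := D.mem_lstab.mp g.2
        exact ⟨(⟨x, hx⟩, ⟨b, hb⟩), Subtype.ext e.symm⟩
    rw [← Nat.card_congr (Equiv.ofBijective _ h), Nat.card_prod]
  have hC : Nat.card ↥(cpart P U) * C'.index = Nat.card B := by
    rw [← Nat.card_congr (Subgroup.subgroupOfEquivOfLe (D.cpart_le_ustab θ)).toEquiv]
    exact Subgroup.card_mul_index _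
  rw [D.fixCount_lstab hθ, hL, ← hC, D.card_hall]
  calc Nat.card P * (Nat.card ↥(cpart P U) * C'.index)
      = C'.index * (Nat.card P * Nat.card ↥(cpart P U)) := by ring
    _ ≤ _ := Nat.mul_le_mul_right _ hle

variable {η : (W₁ →* ℂˣ) → (W₂ →* ℂˣ) → G → ℂ} (F : Fam W₁ W₂ η)
include F

/-- The irreducible characters carried by the pairs of a generic character. -/
theorem exists_pairs [Fintype S] {θ : hall P U →* ℂˣ} (hθ : D.Generic θ) :
    ∃ Q : Finset (G → ℂ), (∀ μ ∈ Q, Cfsg.IsIrrCharacter G μ) ∧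
      (∀ μ ∈ Q, ∀ a b, Cfsg.classInner μ (η a b) = 0) ∧
      (∀ μ ∈ Q, ∃ ξ : D.Exts θ, D.tau ξ = μ - Cfsg.conjFun μ ∨ D.tau ξ = Cfsg.conjFun μ - μ) ∧
      ∀ f : G → ℂ, Cfsg.IsGeneralizedCharacter G f → ∀ k : ℤ,
        (∀ ξ : D.Exts θ, Cfsg.classInner f (D.tau ξ) = k) →
        (Nat.card (D.Exts θ) : ℝ) * |(k : ℝ)| ≤ ∑ μ ∈ Q, ‖Cfsg.classInner f μ‖ ^ 2 := by
  classical
  haveI := D.fintype_exts θ
  haveI : Fintype (D.Exts θ) := Fintype.ofFinite _
  have hmu := fun ξ : D.Exts θ => D.tau_mu hθ ξ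
  choose μ hirr hτ hne using hmu
  have hirr' : ∀ ξ, Cfsg.IsIrrCharacter G (Cfsg.conjFun (μ ξ)) := fun ξ => IsIrrCharacter.conj (hirr ξ)
  have hcc : ∀ f : G → ℂ, Cfsg.conjFun (Cfsg.conjFun f) = f := fun f => funext fun x => by
    simp [Cfsg.conjFun]
  have hpair : ∀ ξ ξ', (μ ξ = μ ξ' ∨ μ ξ = Cfsg.conjFun (μ ξ')) → ξ = ξ' := by
    intro ξ ξ' h
    by_contra hn
    have h2 := D.tau_inner_same hθ ξ ξ'
    rw [if_neg hn, show D.tau ξ = _ from hτ ξ, show D.tau ξ' = _ from hτ ξ'] at h2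
    have hne2 : Cfsg.conjFun (μ ξ') ≠ μ ξ' := hne ξ'
    rcases h with h | h <;>
      simp [h, hcc, classInner_sub_left, classInner_sub_right, classInner_self_irr (hirr ξ'),
        classInner_self_irr (hirr' ξ'), classInner_irr_of_ne (hirr ξ') (hirr' ξ') hne2.symm,
        classInner_irr_of_ne (hirr' ξ') (hirr ξ') hne2] at h2
    all_goals norm_num at h2
  let e : D.Exts θ × Bool → (G → ℂ) := fun p => if p.2 then μ p.1 else Cfsg.conjFun (μ p.1)
  have hinj : Function.Injective e := by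
    rintro ⟨ξ, b⟩ ⟨ξ', b'⟩ h
    cases b <;> cases b' <;> simp only [e, Bool.false_eq_true, if_false, if_true] at h
    · have := congrArg Cfsg.conjFun h
      rw [hcc, hcc] at this
      rw [hpair ξ ξ' (Or.inl this)]
    · have := congrArg Cfsg.conjFun h
      rw [hcc] at this
      have e1 := hpair ξ ξ' (Or.inr this)
      subst e1
      exact absurd h (hne ξ)
    · have e1 := hpair ξ ξ' (Or.inr h)
      subst e1
      exact absurd h.symm (hne ξ)
    · rw [hpair ξ ξ' (Or.inl h)]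
  refine ⟨Finset.univ.image e, ?_, ?_, ?_, ?_⟩
  · intro ν hν
    obtain ⟨⟨ξ, b⟩, -, rfl⟩ := Finset.mem_image.mp hν
    cases b
    · simpa [e] using hirr' ξ
    · simpa [e] using hirr ξ
  · intro ν hν a b
    obtain ⟨⟨ξ, c⟩, -, rfl⟩ := Finset.mem_image.mp hν
    have h0 := D.tau_eta F hθ ξ a b
    rw [show D.tau ξ = _ from hτ ξ, classInner_sub_left, sub_eq_zero] at h0
    have key : Cfsg.classInner (μ ξ) (η a b) = 0 := by
      by_contra hn
      rcases SignIrr.eq_or_neg (Or.inl (hirr ξ)) (F.sign a b) hn with h | h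
      · rw [← h, classInner_self_irr (hirr ξ), classInner_irr_of_ne (hirr' ξ) (hirr ξ) (hne ξ)] at h0
        exact one_ne_zero h0
      · rw [show η a b = -μ ξ from by rw [h, neg_neg], classInner_neg_right, classInner_neg_right,
          classInner_self_irr (hirr ξ), classInner_irr_of_ne (hirr' ξ) (hirr ξ) (hne ξ)] at h0
        simp at h0
    cases c
    · simp only [e, Bool.false_eq_true, if_false]; rw [← h0, key]
    · simpa [e] using key
  · intro ν hν
    obtain ⟨⟨ξ, b⟩, -, rfl⟩ := Finset.mem_image.mp hν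
    refine ⟨ξ, ?_⟩
    cases b
    · simp only [e, Bool.false_eq_true, if_false, hcc]; exact Or.inr (hτ ξ)
    · simp only [e, if_true]; exact Or.inl (hτ ξ)
  · intro f hf k hk
    rw [Finset.sum_image fun a _ b _ h => hinj h, Fintype.sum_prod_type]
    have : ∀ ξ, |(k : ℝ)| ≤ ∑ b : Bool, ‖Cfsg.classInner f (e (ξ, b))‖ ^ 2 := by
      intro ξ
      obtain ⟨x, hx⟩ := IsGeneralizedCharacter.exists_classInner_int hf
        (SignIrr_isGen (Or.inl (hirr ξ)))
      obtain ⟨y, hy⟩ := IsGeneralizedCharacter.exists_classInner_int hf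
        (SignIrr_isGen (Or.inl (hirr' ξ)))
      have hkk := hk ξ
      rw [show D.tau ξ = _ from hτ ξ, classInner_sub_right, hx, hy] at hkk
      have hkxy : x - y = k := by exact_mod_cast hkk
      simp only [e, Fintype.sum_bool, if_true, Bool.false_eq_true, if_false, hx, hy,
        Complex.norm_intCast, sq_abs]
      have h := abs_le_sq_add_sq x y
      rw [hkxy] at h
      exact_mod_cast h
    calc (Nat.card (D.Exts θ) : ℝ) * |(k : ℝ)| = ∑ _ξ : D.Exts θ, |(k : ℝ)| := by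
          simp [Nat.card_eq_fintype_card]
      _ ≤ _ := Finset.sum_le_sum fun ξ _ => this ξ

open Classical in
/-- The value pattern of `Ind_H^G (θ - φ_ψ₁)` on the family. -/
def Pattern (_ : Side S P U W₁ W₂) (_ : Fam W₁ W₂ η) (θ : hall P U →* ℂˣ) (φ : hall P U →* ℂˣ)
    (bs : W₂ →* ℂˣ) (e : ℤ) : Prop :=
  ∀ a b, Cfsg.classInner (bf θ φ) (η a b) = if b = bs then (e : ℂ) else 0

omit D F in
/-- The two admissible patterns. -/
def Valid (ψ₁ bs : W₂ →* ℂˣ) (e : ℤ) : Prop :=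
  (bs = ψ₁ ∧ e = -1) ∨ (Nat.card W₂ = 3 ∧ bs = ψ₁⁻¹ ∧ e = 1)

omit F in
theorem valid_ne_one {ψ₁ bs : W₂ →* ℂˣ} {e : ℤ} (h1 : ψ₁ ≠ 1) (h : Valid ψ₁ bs e) : bs ≠ 1 := by
  rcases h with ⟨rfl, -⟩ | ⟨-, rfl, -⟩
  · exact h1
  · exact fun hh => h1 (hom_inv_one.mp hh)

omit D F in
theorem valid_sq {ψ₁ bs : W₂ →* ℂˣ} {e : ℤ} (h : Valid ψ₁ bs e) : e ^ 2 = 1 := by
  rcases h with ⟨-, rfl⟩ | ⟨-, -, rfl⟩ <;> norm_num

omit F in
theorem valid_unique {ψ₁ bs bs' : W₂ →* ℂˣ} {e e' : ℤ} (h : Valid ψ₁ bs e) (h' : Valid ψ₁ bs' e')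
    (hb : bs = bs') (h1 : ψ₁ ≠ 1) : e = e' := by
  haveI := isMulCommutative2 D.selfN
  have hn := ne_inv_of_odd (D.odd.of_dvd_nat (Subgroup.card_subgroup_dvd_card W₂)) h1
  rcases h with ⟨rfl, rfl⟩ | ⟨-, rfl, rfl⟩ <;> rcases h' with ⟨e2, rfl⟩ | ⟨-, e2, rfl⟩ <;>
    first | rfl | (exact absurd (hb.trans e2).symm hn) | (exact absurd (hb.trans e2) hn)

theorem fixCount_norm_bf {θ : hall P U →* ℂˣ} (hθ : D.Generic θ) {ψ₁ : W₂ →* ℂˣ} (h1 : ψ₁ ≠ 1) :
    Cfsg.classInner (bf θ (D.phi ψ₁)) (bf θ (D.phi ψ₁)) =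
      (Nat.card ↥(hall P U) : ℂ)⁻¹ * (fixCount (hall P U) S θ θ : ℂ) + Nat.card W₁ := by
  rw [D.inner_bf, (D.fixCount_generic hθ ψ₁).1, (D.fixCount_generic hθ ψ₁).2, D.fixCount_phi h1]
  have : (Nat.card ↥(hall P U) : ℂ) ≠ 0 := Nat.cast_ne_zero.mpr Nat.card_pos.ne'
  push_cast
  field_simp
  ring

theorem exists_pattern {θ : hall P U →* ℂˣ} (hθ : D.Generic θ) {ψ₁ : W₂ →* ℂˣ} (h1 : ψ₁ ≠ 1) :
    ∃ bs e, Valid ψ₁ bs e ∧ D.Pattern F θ (D.phi ψ₁) bs e := by
  classical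
  haveI := isMulCommutative1 D.selfN
  haveI := isMulCommutative2 D.selfN
  haveI := finite_dual W₁
  haveI := finite_dual W₂
  haveI : Fintype (W₁ →* ℂˣ) := Fintype.ofFinite _
  haveI : Fintype (W₂ →* ℂˣ) := Fintype.ofFinite _
  haveI : Fintype S := Fintype.ofFinite _
  have hθ1 := D.generic_ne_one F hθ
  have hφ1 := D.phi_ne_one F h1
  choose c hc using fun a b => D.bf_int F θ (D.phi ψ₁) a b
  have hgrid : ∀ a b, c a b = c a 1 + c 1 b := by
    intro a b
    have := D.bf_grid F hθ1 hφ1 a b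
    rw [hc, hc, hc] at this
    exact_mod_cast this
  have h11 : c 1 1 = 0 := by
    have := D.bf_one_one F hθ1 hφ1
    rw [hc] at this
    exact_mod_cast this
  have hqcard : (Fintype.card (W₁ →* ℂˣ) : ℕ) = Nat.card W₁ := by
    rw [← Nat.card_eq_fintype_card, card_hom]
  have hpcard : (Fintype.card (W₂ →* ℂˣ) : ℕ) = Nat.card W₂ := by
    rw [← Nat.card_eq_fintype_card, card_hom]
  set x := c 1 ψ₁ with hx
  have hcol : ∀ b, b ≠ 1 → b ≠ ψ₁ → c 1 b = x + 1 := by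
    intro b hb hbψ
    have h0 : Cfsg.classInner (bf θ (D.phi ψ₁)) (bf (D.phi ψ₁) (D.phi b)) = -(Nat.card W₁ : ℂ) := by
      rw [D.inner_bf, (D.fixCount_generic hθ ψ₁).1, (D.fixCount_generic hθ b).1, D.fixCount_phi h1,
        D.fixCount_phi_ne h1 (Ne.symm hbψ)]
      have : (Nat.card ↥(hall P U) : ℂ) ≠ 0 := Nat.cast_ne_zero.mpr Nat.card_pos.ne'
      push_cast
      field_simp
      ring
    rw [D.bf_phi_phi F h1 hb (Ne.symm hbψ), classInner_sum_right,
      Finset.sum_congr rfl (g := fun _ => ((c 1 ψ₁ : ℂ) - c 1 b)) (fun a _ => by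
        rw [classInner_sub_right, hc, hc, hgrid a ψ₁, hgrid a b]; push_cast; ring),
      Finset.sum_const, Finset.card_univ, hqcard, nsmul_eq_mul] at h0
    have hq0 : (Nat.card W₁ : ℂ) ≠ 0 := Nat.cast_ne_zero.mpr Nat.card_pos.ne'
    have h2 : ((c 1 ψ₁ : ℂ) - c 1 b) = -1 := mul_left_cancel₀ hq0 (by rw [h0]; ring)
    have h3 : c 1 ψ₁ - c 1 b = -1 := by exact_mod_cast h2
    omega
  obtain ⟨Q, hQ, hQη, -, hQb⟩ := D.exists_pairs F hθ
  have hk : ∀ ξ : D.Exts θ, Cfsg.classInner (bf θ (D.phi ψ₁)) (D.tau ξ) = ((1 : ℤ) : ℂ) := by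
    intro ξ
    rw [D.tau_bf hθ, (D.fixCount_generic hθ ψ₁).1, (D.fixCount_generic (D.inv_generic hθ) ψ₁).1,
      (D.fixCount_inv_self hθ).2, D.fixCount_lstab hθ]
    have : (Nat.card ↥(D.lstab θ) : ℂ) ≠ 0 := Nat.cast_ne_zero.mpr Nat.card_pos.ne'
    push_cast
    field_simp
    ring
  have hpairs := hQb _ (bf_isGen θ (D.phi ψ₁)) 1 hk
  have hbes := F.bessel (bf θ (D.phi ψ₁)) Q hQ hQη
  simp only [hc, Complex.norm_intCast, sq_abs] at hbes
  rw [D.fixCount_norm_bf F hθ h1] at hbes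
  have hH0 : (0 : ℝ) < (Nat.card ↥(hall P U) : ℝ) := by exact_mod_cast Nat.card_pos
  have hn : (Nat.card ↥(hall P U) : ℝ)⁻¹ * (fixCount (hall P U) S θ θ : ℝ) ≤ Nat.card (D.Exts θ) := by
    rw [inv_mul_le_iff₀ hH0, mul_comm]
    exact_mod_cast D.card_exts hθ
  have hsum : ∑ a, ∑ b, c a b ^ 2 ≤ (Nat.card W₁ : ℤ) := by
    have hre : ((Nat.card ↥(hall P U) : ℂ)⁻¹ * (fixCount (hall P U) S θ θ : ℂ) + (Nat.card W₁ : ℂ)).re =
        (Nat.card ↥(hall P U) : ℝ)⁻¹ * (fixCount (hall P U) S θ θ : ℝ) + (Nat.card W₁ : ℝ) := by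
      rw [show (Nat.card ↥(hall P U) : ℂ)⁻¹ * (fixCount (hall P U) S θ θ : ℂ) + (Nat.card W₁ : ℂ) =
        (((Nat.card ↥(hall P U) : ℝ)⁻¹ * (fixCount (hall P U) S θ θ : ℝ) + (Nat.card W₁ : ℝ) : ℝ) : ℂ)
        from by push_cast; rfl, Complex.ofReal_re]
    rw [hre] at hbes
    simp only [Int.cast_one, abs_one, mul_one] at hpairs
    have : ((∑ a, ∑ b, c a b ^ 2 : ℤ) : ℝ) ≤ ((Nat.card W₁ : ℤ) : ℝ) := by
      push_cast
      linarith
    exact_mod_cast this
  -- each row has weight at least one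
  have hrow : ∀ a, ∑ b, c a b ^ 2 = c a 1 ^ 2 + (c a 1 + x) ^ 2 +
      ((Nat.card W₂ : ℤ) - 2) * (c a 1 + x + 1) ^ 2 := by
    intro a
    rw [← Finset.add_sum_erase _ _ (Finset.mem_univ (1 : W₂ →* ℂˣ)),
      ← Finset.add_sum_erase _ _ (Finset.mem_erase.mpr ⟨h1, Finset.mem_univ ψ₁⟩)]
    rw [Finset.sum_congr rfl (g := fun _ => (c a 1 + x + 1) ^ 2) (fun b hb => by
      rw [hgrid a b, hcol b (Finset.ne_of_mem_erase (Finset.mem_of_mem_erase hb))
        (Finset.ne_of_mem_erase hb), add_assoc]), Finset.sum_const,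
      Finset.card_erase_of_mem (Finset.mem_erase.mpr ⟨h1, Finset.mem_univ ψ₁⟩),
      Finset.card_erase_of_mem (Finset.mem_univ _), Finset.card_univ, hpcard, nsmul_eq_mul,
      hgrid a ψ₁, ← hx]
    have := D.three_le_p
    push_cast [Nat.cast_sub (show 1 ≤ Nat.card W₂ - 1 by omega), Nat.cast_sub (show 1 ≤ Nat.card W₂ by omega)]
    ring
  have hp3 : (3 : ℤ) ≤ Nat.card W₂ := by exact_mod_cast D.three_le_p
  have hlow : ∀ a, (1 : ℤ) ≤ ∑ b, c a b ^ 2 := by
    intro a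
    rw [hrow]
    set y := c a 1
    by_cases hz : y + x = 0
    · rw [hz]; nlinarith [sq_nonneg y]
    · have := Int.one_le_abs hz
      nlinarith [sq_abs (y + x), sq_nonneg y, mul_nonneg (by linarith : (0:ℤ) ≤ (Nat.card W₂ : ℤ) - 2)
        (sq_nonneg (y + x + 1))]
  have hone : ∀ a, ∑ b, c a b ^ 2 = 1 := by
    by_contra hne
    push Not at hne
    obtain ⟨a, ha⟩ := hne
    have := Finset.sum_lt_sum (fun a _ => hlow a) ⟨a, Finset.mem_univ a, lt_of_le_of_ne (hlow a) (Ne.symm ha)⟩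
    rw [Finset.sum_const, Finset.card_univ, hqcard, nsmul_eq_mul, mul_one] at this
    linarith
  have h0 := hone 1
  rw [hrow, h11] at h0
  simp only [ne_eq, OfNat.ofNat_ne_zero, not_false_eq_true, zero_pow, zero_add] at h0
  have hxcase : x = -1 ∨ (x = 0 ∧ Nat.card W₂ = 3) := by
    have hx1 : x ^ 2 ≤ 1 := by nlinarith [sq_nonneg (x + 1)]
    have hlo : -1 ≤ x := by nlinarith
    have hhi : x ≤ 1 := by nlinarith
    rcases (show x = -1 ∨ x = 0 ∨ x = 1 by omega) with h | h | h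
    · exact Or.inl h
    · rw [h] at h0; refine Or.inr ⟨h, ?_⟩; norm_num [-Nat.card_eq_fintype_card] at h0; omega
    · exfalso; rw [h] at h0; norm_num [-Nat.card_eq_fintype_card] at h0; omega
  have hy : ∀ a, c a 1 = 0 := by
    intro a
    have h := hone a
    rw [hrow] at h
    set y := c a 1
    have hy1 : y ^ 2 ≤ 1 := by nlinarith [sq_nonneg (y + x), sq_nonneg (y + x + 1)]
    have hlo : -1 ≤ y := by nlinarith
    have hhi : y ≤ 1 := by nlinarith
    rcases hxcase with hx' | ⟨hx', hp⟩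
    · rw [hx'] at h
      rcases (show y = -1 ∨ y = 0 ∨ y = 1 by omega) with e | e | e <;> rw [e] at h ⊢ <;> norm_num [-Nat.card_eq_fintype_card] at h ⊢ <;> omega
    · rw [hx', hp] at h
      rcases (show y = -1 ∨ y = 0 ∨ y = 1 by omega) with e | e | e <;> rw [e] at h ⊢ <;> norm_num at h
  rcases hxcase with hx' | ⟨hx', hp⟩
  · refine ⟨ψ₁, -1, Or.inl ⟨rfl, rfl⟩, fun a b => ?_⟩
    rw [hc, hgrid, hy, zero_add]
    by_cases hb : b = ψ₁
    · rw [if_pos hb, hb, ← hx, hx']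
    · rw [if_neg hb]
      by_cases hb1 : b = 1
      · rw [hb1, h11]; simp
      · rw [hcol b hb1 hb, hx']; simp
  · refine ⟨ψ₁⁻¹, 1, Or.inr ⟨hp, rfl, rfl⟩, fun a b => ?_⟩
    rw [hc, hgrid, hy, zero_add]
    have hninv := ne_inv_of_odd (D.odd.of_dvd_nat (Subgroup.card_subgroup_dvd_card W₂)) h1
    by_cases hb : b = ψ₁⁻¹
    · rw [if_pos hb, hb, hcol _ (fun e => h1 (hom_inv_one.mp e)) hninv, hx']; simp
    · rw [if_neg hb]
      by_cases hb1 : b = 1
      · rw [hb1, h11]; simp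
      · have hbψ : b = ψ₁ := by
          by_contra hbψ
          have h4 : ({1, ψ₁, ψ₁⁻¹, b} : Finset (W₂ →* ℂˣ)).card ≤ 3 :=
            le_trans (Finset.card_le_univ _) (le_of_eq (hpcard.trans hp))
          have h5 : ({1, ψ₁, ψ₁⁻¹, b} : Finset (W₂ →* ℂˣ)).card = 4 := by
            simp [Finset.card_insert_of_notMem, Ne.symm h1, Ne.symm hninv, Ne.symm hb1, Ne.symm hbψ,
              Ne.symm hb, eq_comm (a := (1 : W₂ →* ℂˣ)), hom_inv_one, h1]
          omega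
        rw [hbψ, ← hx, hx']; simp

theorem pattern_conj {θ φ : hall P U →* ℂˣ} {bs : W₂ →* ℂˣ} {e : ℤ} {s : G} (hs : s ∈ S)
    (h : D.Pattern F θ φ bs e) : D.Pattern F (cj (hall P U) s θ) φ bs e := by
  intro a b
  rw [D.bf_conj θ φ hs]
  exact h a b

/-- All generic characters have the same pattern. -/
theorem exists_common_pattern {ψ₁ : W₂ →* ℂˣ} (h1 : ψ₁ ≠ 1) :
    ∃ bs e, Valid ψ₁ bs e ∧ ∀ θ, D.Generic θ → D.Pattern F θ (D.phi ψ₁) bs e := by
  classical
  by_cases hex : ∃ θ, D.Generic θ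
  swap
  · push Not at hex
    exact ⟨ψ₁, -1, Or.inl ⟨rfl, rfl⟩, fun θ hθ => absurd hθ (hex θ)⟩
  obtain ⟨θ, hθ⟩ := hex
  obtain ⟨bs, e, hv, hp⟩ := D.exists_pattern F hθ h1
  refine ⟨bs, e, hv, fun θ' hθ' => ?_⟩
  obtain ⟨bs', e', hv', hp'⟩ := D.exists_pattern F hθ' h1
  by_cases hb : bs = bs'
  · rw [hb, D.valid_unique hv hv' hb h1]; exact hp'
  exfalso
  haveI := isMulCommutative1 D.selfN
  haveI := finite_dual W₁
  haveI := finite_dual W₂
  haveI : Fintype (W₁ →* ℂˣ) := Fintype.ofFinite _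
  haveI : Fintype (W₂ →* ℂˣ) := Fintype.ofFinite _
  haveI : Fintype S := Fintype.ofFinite _
  set f := bf θ θ' with hf
  have hfc : ∀ a b, Cfsg.classInner f (η a b) =
      (if b = bs then (e : ℂ) else 0) - if b = bs' then (e' : ℂ) else 0 := by
    intro a b
    rw [hf, ← bf_sub θ θ' (D.phi ψ₁), classInner_sub_left, hp a b, hp' a b]
  by_cases hsame : ∃ s ∈ S, cj (hall P U) s θ = θ'
  · obtain ⟨s, hs, hsθ⟩ := hsame
    have := D.pattern_conj F hs hp
    rw [hsθ] at this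
    have h2 := this 1 bs
    rw [if_pos rfl, hp' 1 bs, if_neg hb] at h2
    have h3 := valid_sq hv
    rw [show e = 0 by exact_mod_cast h2.symm] at h3
    norm_num at h3
  push Not at hsame
  have hq : (Fintype.card (W₁ →* ℂˣ) : ℝ) = Nat.card W₁ := by
    rw [← Nat.card_eq_fintype_card, card_hom]
  have heta : ∑ a, ∑ b, ‖Cfsg.classInner f (η a b)‖ ^ 2 = 2 * (Nat.card W₁ : ℝ) := by
    have he : (e : ℝ) ^ 2 = 1 := by exact_mod_cast valid_sq hv
    have he' : (e' : ℝ) ^ 2 = 1 := by exact_mod_cast valid_sq hv'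
    have : ∀ a, ∑ b, ‖Cfsg.classInner f (η a b)‖ ^ 2 = 2 := by
      intro a
      rw [← Finset.add_sum_erase _ _ (Finset.mem_univ bs),
        ← Finset.add_sum_erase _ _ (Finset.mem_erase.mpr ⟨Ne.symm hb, Finset.mem_univ bs'⟩),
        Finset.sum_eq_zero (fun b hb' => by
          rw [hfc, if_neg (Finset.ne_of_mem_erase (Finset.mem_of_mem_erase hb')),
            if_neg (Finset.ne_of_mem_erase hb')]; simp)]
      rw [hfc, hfc, if_pos rfl, if_neg hb, if_neg (Ne.symm hb), if_pos rfl]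
      simp only [sub_zero, zero_sub, norm_neg, Complex.norm_intCast, sq_abs, he, he']
      norm_num
    rw [Finset.sum_congr rfl fun a _ => this a, Finset.sum_const, Finset.card_univ, nsmul_eq_mul, hq]
    ring
  have hH0 : (0 : ℝ) < (Nat.card ↥(hall P U) : ℝ) := by exact_mod_cast Nat.card_pos
  have hnorm : (Cfsg.classInner f f).re = (Nat.card ↥(hall P U) : ℝ)⁻¹ *
      ((fixCount (hall P U) S θ θ : ℝ) + fixCount (hall P U) S θ' θ') := by
    rw [hf, D.inner_bf, fixCount_eq_zero hsame, fixCount_symm D.self_le_hall_norm θ' θ,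
      fixCount_eq_zero hsame]
    rw [show (Nat.card ↥(hall P U) : ℂ)⁻¹ * ((fixCount (hall P U) S θ θ : ℂ) - ((0 : ℕ) : ℂ) - ((0 : ℕ) : ℂ) +
        (fixCount (hall P U) S θ' θ' : ℂ)) = (((Nat.card ↥(hall P U) : ℝ)⁻¹ *
      ((fixCount (hall P U) S θ θ : ℝ) + fixCount (hall P U) S θ' θ') : ℝ) : ℂ) from by push_cast; ring,
      Complex.ofReal_re]
  have hn : ∀ χ, D.Generic χ →
      (Nat.card ↥(hall P U) : ℝ)⁻¹ * (fixCount (hall P U) S χ χ : ℝ) ≤ Nat.card (D.Exts χ) := by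
    intro χ hχ
    rw [inv_mul_le_iff₀ hH0, mul_comm]
    exact_mod_cast D.card_exts hχ
  have hq3 : (3 : ℝ) ≤ Nat.card W₁ := by exact_mod_cast D.three_le_q
  obtain ⟨Q, hQ, hQη, hQτ, hQb⟩ := D.exists_pairs F hθ
  by_cases hinv : ∃ s ∈ S, cj (hall P U) s θ⁻¹ = θ'
  · obtain ⟨s, hs, hsθ⟩ := hinv
    have hN' : fixCount (hall P U) S θ' θ' = fixCount (hall P U) S θ θ := by
      rw [← hsθ, fixCount_conj D.self_le_hall_norm hs, fixCount_symm D.self_le_hall_norm,
        fixCount_conj D.self_le_hall_norm hs, D.fixCount_lstab (D.inv_generic hθ),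
        D.fixCount_lstab hθ, D.lstab_inv hθ]
    have hN'' : fixCount (hall P U) S θ⁻¹ θ' = fixCount (hall P U) S θ θ := by
      rw [fixCount_symm D.self_le_hall_norm, ← hsθ, fixCount_conj D.self_le_hall_norm hs,
        D.fixCount_lstab (D.inv_generic hθ), D.fixCount_lstab hθ, D.lstab_inv hθ]
    have hk : ∀ ξ : D.Exts θ, Cfsg.classInner f (D.tau ξ) = ((2 : ℤ) : ℂ) := by
      intro ξ
      rw [hf, D.tau_bf hθ, (D.fixCount_inv_self hθ).2, fixCount_eq_zero hsame, hN'',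
        D.fixCount_lstab hθ]
      have : (Nat.card ↥(D.lstab θ) : ℂ) ≠ 0 := Nat.cast_ne_zero.mpr Nat.card_pos.ne'
      push_cast
      field_simp
      ring
    have h2 := hQb f (bf_isGen θ θ') 2 hk
    have hbes := F.bessel f Q hQ hQη
    rw [heta, hnorm, hN'] at hbes
    have := hn θ hθ
    norm_num at h2
    linarith
  · push Not at hinv
    obtain ⟨Q', hQ', hQη', hQτ', hQb'⟩ := D.exists_pairs F hθ'
    have hdisj : Disjoint Q Q' := by
      rw [Finset.disjoint_left]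
      intro μ hμ hμ'
      obtain ⟨ξ, hξ⟩ := hQτ μ hμ
      obtain ⟨ξ', hξ'⟩ := hQτ' μ hμ'
      have h0 := D.tau_orth hθ hθ' (fun s hs e' => hsame s⁻¹ (S.inv_mem hs)
          ((cj_eq_iff (D.mem_norm hs) θ' θ).mp e'))
        (fun s hs e' => by
          refine hinv s⁻¹ (S.inv_mem hs) ?_
          have := (cj_eq_iff (D.mem_norm hs) θ'⁻¹ θ).mp e'
          rw [cj_map_inv (D.mem_norm (S.inv_mem hs)), this, inv_inv_hom]) ξ ξ'
      have hne2 : Cfsg.classInner (D.tau ξ) (D.tau ξ) = 2 := by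
        rw [D.tau_inner_same hθ, if_pos rfl]
      have hsgn : D.tau ξ' = D.tau ξ ∨ D.tau ξ' = -D.tau ξ := by
        rcases hξ with h | h <;> rcases hξ' with h' | h'
        · exact Or.inl (h'.trans h.symm)
        · exact Or.inr (by rw [h', h, neg_sub])
        · exact Or.inr (by rw [h', h, neg_sub])
        · exact Or.inl (h'.trans h.symm)
      rcases hsgn with h | h <;> rw [h] at h0
      · rw [hne2] at h0; norm_num [-Nat.card_eq_fintype_card] at h0
      · rw [classInner_neg_right, hne2] at h0; norm_num [-Nat.card_eq_fintype_card] at h0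
    have hk : ∀ ξ : D.Exts θ, Cfsg.classInner f (D.tau ξ) = ((1 : ℤ) : ℂ) := by
      intro ξ
      rw [hf, D.tau_bf hθ, (D.fixCount_inv_self hθ).2, fixCount_eq_zero hsame,
        fixCount_eq_zero (θ := θ⁻¹) hinv, D.fixCount_lstab hθ]
      have : (Nat.card ↥(D.lstab θ) : ℂ) ≠ 0 := Nat.cast_ne_zero.mpr Nat.card_pos.ne'
      push_cast
      field_simp
      ring
    have hk' : ∀ ξ : D.Exts θ', Cfsg.classInner f (D.tau ξ) = ((-1 : ℤ) : ℂ) := by
      intro ξ
      have hz : fixCount (hall P U) S θ' θ = 0 :=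
        (fixCount_symm D.self_le_hall_norm θ' θ).trans (fixCount_eq_zero hsame)
      have hz' : fixCount (hall P U) S θ'⁻¹ θ = 0 := fixCount_eq_zero fun s hs e' => by
        refine hinv s⁻¹ (S.inv_mem hs) ?_
        have := (cj_eq_iff (D.mem_norm hs) θ'⁻¹ θ).mp e'
        rw [cj_map_inv (D.mem_norm (S.inv_mem hs)), this, inv_inv_hom]
      rw [hf, D.tau_bf hθ', hz, hz', (D.fixCount_inv_self hθ').2, D.fixCount_lstab hθ']
      have : (Nat.card ↥(D.lstab θ') : ℂ) ≠ 0 := Nat.cast_ne_zero.mpr Nat.card_pos.ne'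
      push_cast
      field_simp
      ring
    have h2 := hQb f (bf_isGen θ θ') 1 hk
    have h2' := hQb' f (bf_isGen θ θ') (-1) hk'
    have hbes := F.bessel f (Q ∪ Q') (fun μ hμ => by
        rcases Finset.mem_union.mp hμ with h | h
        · exact hQ μ h
        · exact hQ' μ h) (fun μ hμ => by
        rcases Finset.mem_union.mp hμ with h | h
        · exact hQη μ h
        · exact hQη' μ h)
    rw [heta, hnorm, Finset.sum_union hdisj, mul_add] at hbes
    have := hn θ hθ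
    have := hn θ' hθ'
    norm_num at h2 h2'
    linarith

end Side

end Cfsg.Agent.OddChar.P13
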