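/-
Peterfalvi section 13: the Fourier coefficients on `H` of the members of the family `η` and of
the character attached to a generic character with trivial inertia. Outside the characters
trivial on `P` they are constant up to the indicator of one orbit.
-/
import Cfsg.Agent.Lib.OddChar.P13.Pattern

set_option autoImplicit false
set_option linter.unusedSectionVars false
set_option linter.unusedVariables false
set_option linter.deprecated false
set_option linter.style.haveILetI false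

namespace Cfsg.Agent.OddChar.P13

open scoped ComplexConjugate IsMulCommutative
open Cfsg.Agent.Char Cfsg.Agent.Char.CyclicTI

universe u

variable {G : Type u} [Group G] [Fintype G] {S P U W₁ W₂ : Subgroup G}

/-- The Fourier coefficient of the restriction of `χ` to `H` at `θ`. -/
noncomputable def coef {H : Subgroup G} [Fintype H] (χ : G → ℂ) (θ : H →* ℂˣ) : ℂ :=
  Cfsg.classInner (fun h : H => χ h) (lf θ)

theorem coef_sub {H : Subgroup G} [Fintype H] {χ : G → ℂ} (hχ : Cfsg.IsClassFunction G χ)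
    (θ φ : H →* ℂˣ) : coef χ θ - coef χ φ = conj (Cfsg.classInner (bf θ φ) χ) := by
  classical
  rw [bf, classInner_indFun_left H _ hχ, classInner_conj_symm, classInner_sub_right]
  rfl

theorem coef_int {H : Subgroup G} [Fintype H] {χ : G → ℂ}
    (hχ : Cfsg.IsGeneralizedCharacter G χ) (θ : H →* ℂˣ) : ∃ n : ℤ, coef χ θ = n :=
  IsGeneralizedCharacter.exists_classInner_int (IsGeneralizedCharacter.restrict hχ H)
    (IsGeneralizedCharacter.of_isCharacter (IsIrrCharacter.isCharacter (isIrrCharacter_linear θ)))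

theorem exists_hom_ne_one {A : Subgroup G} [IsMulCommutative A] (hA : A ≠ ⊥) :
    ∃ γ : A →* ℂˣ, γ ≠ 1 := by
  by_contra hc
  push Not at hc
  haveI : Subsingleton (A →* ℂˣ) := ⟨fun a b => (hc a).trans (hc b).symm⟩
  have h := card_hom (H := A)
  rw [Nat.card_of_subsingleton (1 : A →* ℂˣ)] at h
  exact hA (Subgroup.eq_bot_of_card_eq _ h.symm)

/-- Trivial on `P`. -/
def TrivP {H : Subgroup G} (P : Subgroup G) (θ : H →* ℂˣ) : Prop :=
  ∀ z : H, (z : G) ∈ P → θ z = 1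

/-- Coefficients constant off the characters trivial on `P`, up to `σ` times an indicator. -/
def SplitAt {H : Subgroup G} [Fintype H] (P : Subgroup G) (χ : G → ℂ) (O : Finset (H →* ℂˣ))
    (σ : ℤ) : Prop :=
  (∀ θ ∈ O, ¬ TrivP P θ) ∧ ∃ c₀ : ℤ,
    ∀ θ : H →* ℂˣ, ¬ TrivP P θ → (θ ∈ O → coef χ θ = c₀ + σ) ∧ (θ ∉ O → coef χ θ = c₀)

namespace Side

variable (D : Side S P U W₁ W₂)
include D

theorem conj_cpart_S {s c : G} (hs : s ∈ S) (hc : c ∈ cpart P U) : s * c * s⁻¹ ∈ cpart P U := by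
  obtain ⟨k, hk, w, hw, rfl⟩ := D.mem_S.mp hs
  obtain ⟨x, hx, v, hv, rfl⟩ := D.mem_PU.mp hk
  have hd := D.conj_cpart hw hc
  have h1 : v * (w * c * w⁻¹) * v⁻¹ = w * c * w⁻¹ := by
    rw [D.U_comm v hv _ hd.1, mul_inv_cancel_right]
  have e : x * v * w * c * (x * v * w)⁻¹ = x * (v * (w * c * w⁻¹) * v⁻¹) * x⁻¹ := by group
  rw [e, h1, ← D.cpart_comm hd hx, mul_inv_cancel_right]
  exact hd

theorem cj_not_triv {θ : hall P U →* ℂˣ} (hθ : ¬ TrivP P θ) {t : G} (ht : t ∈ S) :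
    ¬ TrivP P (cj (hall P U) t θ) := by
  intro h
  refine hθ fun z hz => ?_
  have := h ⟨t⁻¹ * z * t, by simpa using D.normal_hall (S.inv_mem ht) z.2⟩
    (by simpa using D.le_normP (S.inv_mem ht) hz)
  rwa [cj_apply' (D.mem_norm ht) θ _ z (by simp [mul_assoc])] at this

theorem phi_not_triv {ψ : W₂ →* ℂˣ} (hψ : ψ ≠ 1) : ¬ TrivP P (D.phi ψ) := by
  intro h
  refine hψ (MonoidHom.ext fun x => ?_)
  rw [← D.res₂_phi ψ]
  exact h _ (D.W₂_le x.2)

theorem generic_not_triv {θ : hall P U →* ℂˣ} (hθ : D.Generic θ) : ¬ TrivP P θ := by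
  obtain ⟨⟨z, hz, hz1⟩, -⟩ := hθ
  exact fun h => hz1 (h z hz)

theorem classify {θ : hall P U →* ℂˣ} (hθ : ¬ TrivP P θ) :
    D.Generic θ ∨ ∃ ψ : W₂ →* ℂˣ, ψ ≠ 1 ∧ ∃ s ∈ S, cj (hall P U) s (D.phi ψ) = θ := by
  by_cases h : ∃ s ∈ S, ∃ ψ : W₂ →* ℂˣ, cj (hall P U) s (D.phi ψ) = θ
  · obtain ⟨s, hs, ψ, e⟩ := h
    refine Or.inr ⟨ψ, ?_, s, hs, e⟩
    rintro rfl
    refine hθ fun z _ => ?_
    rw [← e, D.phi_one, cj_map_one]
    rfl
  · push Not at h
    simp only [TrivP, not_forall] at hθ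
    obtain ⟨z, hz, hz1⟩ := hθ
    exact Or.inl ⟨⟨z, hz, hz1⟩, fun s hs ψ => h s hs ψ⟩

/-- The orbit of `θ` under `S`. -/
noncomputable def orbit (_ : Side S P U W₁ W₂) [Fintype (hall P U →* ℂˣ)] (θ : hall P U →* ℂˣ) :
    Finset (hall P U →* ℂˣ) :=
  open Classical in Finset.univ.filter fun φ => ∃ s ∈ S, cj (hall P U) s θ = φ

theorem mem_orbit [Fintype (hall P U →* ℂˣ)] {θ φ : hall P U →* ℂˣ} :
    φ ∈ D.orbit θ ↔ ∃ s ∈ S, cj (hall P U) s θ = φ := by simp [orbit]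

theorem card_orbit [Fintype (hall P U →* ℂˣ)] (θ : hall P U →* ℂˣ) :
    (D.orbit θ).card * fixCount (hall P U) S θ θ = Nat.card S := by
  classical
  haveI : Fintype S := Fintype.ofFinite _
  rw [Nat.card_eq_fintype_card, ← Finset.card_univ, Finset.card_eq_sum_card_fiberwise
    (f := fun s : S => cj (hall P U) (s : G) θ) (t := D.orbit θ)
    (fun s _ => D.mem_orbit.mpr ⟨s, s.2, rfl⟩), ← smul_eq_mul, ← Finset.sum_const]
  refine Finset.sum_congr rfl fun φ hφ => ?_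
  obtain ⟨t, ht, rfl⟩ := D.mem_orbit.mp hφ
  rw [← Fintype.card_subtype, ← Nat.card_eq_fintype_card,
    ← fixCount_conj D.self_le_hall_norm ht θ θ, fixCount_symm D.self_le_hall_norm]
  rfl

theorem card_orbit_phi [Fintype (hall P U →* ℂˣ)] {ψ : W₂ →* ℂˣ} (hψ : ψ ≠ 1) :
    (D.orbit (D.phi ψ)).card = (cpart P U).relIndex U := by
  have h := D.card_orbit (D.phi ψ)
  rw [D.fixCount_phi hψ, D.card_S_eq] at h
  refine Nat.eq_of_mul_eq_mul_right (m := Nat.card ↥(hall P U) * Nat.card W₁)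
    (Nat.mul_pos Nat.card_pos Nat.card_pos) ?_
  rw [h]; ring

/-- A character with inertia group `H`. -/
theorem exists_free (hC : cpart P U ≠ ⊥) :
    ∃ θ : hall P U →* ℂˣ, D.Generic θ ∧
      fixCount (hall P U) S θ θ = Nat.card ↥(hall P U) := by
  haveI : IsMulCommutative (cpart P U) :=
    ⟨⟨fun a b => Subtype.ext (D.U_comm a a.2.1 b b.2.1)⟩⟩
  haveI := isMulCommutative2 D.selfN
  obtain ⟨γ, hγ⟩ := exists_hom_ne_one hC
  obtain ⟨ψ, hψ⟩ := exists_hom_ne_one D.selfN.2.1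
  set φ := D.phi ψ with hφ
  obtain ⟨θ, hθP, hθC⟩ : ∃ θ : hall P U →* ℂˣ,
      (∀ (x : P) (z : hall P U), (z : G) = x → θ z = φ.comp (Subgroup.inclusion D.P_le_hall) x) ∧
        ∀ (b : cpart P U) (z : hall P U), (z : G) = b → θ z = γ b :=
    exists_ext (inf_le_left.trans D.U_le_normP)
      (le_bot_iff.mp ((inf_le_inf_left P inf_le_left).trans D.inf_PU.le)) _ γ (fun b hb x y e => by
        rw [show y = x from Subtype.ext (by rw [e, D.cpart_comm hb x.2, mul_inv_cancel_right])])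
  have hP : ∀ z : hall P U, (z : G) ∈ P → θ z = φ z := fun z hz => hθP ⟨z, hz⟩ z rfl
  have hnt : ¬ TrivP P θ := fun h => D.phi_not_triv hψ fun z hz => (hP z hz).symm.trans (h z hz)
  obtain ⟨c, hc⟩ : ∃ c, γ c ≠ 1 := by
    by_contra hh
    push Not at hh
    exact hγ (MonoidHom.ext hh)
  have hθc : θ ⟨c, D.cpart_le_hall c.2⟩ = γ c := hθC c _ rfl
  have hgen : D.Generic θ := by
    refine (D.classify hnt).resolve_right ?_
    rintro ⟨ψ', hψ', s, hs, e⟩
    refine hc ?_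
    rw [← hθc, ← e, cj_apply (D.mem_norm hs)]
    exact D.phi_cpart ψ' _ (D.conj_cpart_S hs c.2)
  refine ⟨θ, hgen, fixCount_self D.hall_le fun s hs => ⟨fun h => ?_, fun h => D.cj_hall θ h⟩⟩
  have hfix : cj (hall P U) s φ = φ := by
    refine MonoidHom.ext fun z => ?_
    obtain ⟨x, hx, d, hd, e⟩ := D.mem_hall.mp z.2
    rw [show z = ⟨x, D.P_le_hall hx⟩ * ⟨d, D.cpart_le_hall hd⟩ from Subtype.ext e, map_mul,
      map_mul]
    congr 1
    · have hsx := D.le_normP hs hx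
      rw [cj_apply' (D.mem_norm hs) φ ⟨x, D.P_le_hall hx⟩ ⟨_, D.P_le_hall hsx⟩ rfl,
        ← hP ⟨_, D.P_le_hall hsx⟩ hsx,
        ← cj_apply' (D.mem_norm hs) θ ⟨x, D.P_le_hall hx⟩ ⟨_, D.P_le_hall hsx⟩ rfl, h]
      exact hP ⟨x, D.P_le_hall hx⟩ hx
    · rw [cj_apply (D.mem_norm hs), hφ, D.phi_cpart ψ ⟨d, D.cpart_le_hall hd⟩ hd]
      exact D.phi_cpart ψ _ (D.conj_cpart_S hs hd)
  have hL := (D.phi_stab hψ hs).mp hfix
  have hN : W₁ ≤ Subgroup.normalizer (hall P U : Set G) := fun w hw => D.mem_norm (D.W₁_le hw)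
  have hg : s ∈ (↑(hall P U ⊔ W₁) : Set G) := hL
  rw [Subgroup.coe_mul_of_right_le_normalizer_left _ _ hN] at hg
  obtain ⟨a, ha, w, hw, e⟩ := hg
  have hwm : w ∈ (P ⊔ U) ⊓ W₁ := by
    refine ⟨?_, hw⟩
    have := (P ⊔ U).mul_mem ((P ⊔ U).inv_mem (D.hall_le_PU ha)) (D.generic_stab hgen hs h)
    rwa [← e, inv_mul_cancel_left] at this
  rw [D.inf_W₁, Subgroup.mem_bot] at hwm
  rw [← e]
  simpa [hwm] using ha

variable {η : (W₁ →* ℂˣ) → (W₂ →* ℂˣ) → G → ℂ} (F : Fam W₁ W₂ η)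
include F

theorem eta_class (a : W₁ →* ℂˣ) (b : W₂ →* ℂˣ) : Cfsg.IsClassFunction G (η a b) :=
  SignIrr.isClassFunction (F.sign a b)

open Classical in
theorem inner_phi_phi [Fintype (W₁ →* ℂˣ)] {ψ ψ' : W₂ →* ℂˣ} (hψ : ψ ≠ 1) (hψ' : ψ' ≠ 1)
    (a : W₁ →* ℂˣ) (b : W₂ →* ℂˣ) :
    Cfsg.classInner (bf (D.phi ψ) (D.phi ψ')) (η a b) =
      (if b = ψ then 1 else 0) - (if b = ψ' then 1 else 0) := by
  classical
  by_cases h : ψ = ψ'
  · subst h
    rw [show bf (D.phi ψ) (D.phi ψ) = 0 from by rw [← bf_sub (D.phi ψ) (D.phi ψ) 1, sub_self],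
      sub_self]
    simp [Cfsg.classInner]
  rw [D.bf_phi_phi F hψ hψ' h, classInner_sum_left]
  simp only [classInner_sub_left]
  have horth : ∀ a' b', Cfsg.classInner (η a' b') (η a b) = if a' = a ∧ b' = b then 1 else 0 := by
    intro a' b'
    by_cases he : a' = a ∧ b' = b
    · obtain ⟨rfl, rfl⟩ := he
      rw [if_pos ⟨rfl, rfl⟩, F.norm]
    · rw [if_neg he, (F.orth a' b' a b).resolve_left he]
  simp only [horth]
  rw [Finset.sum_eq_single a (fun x _ hx => by simp [hx]) (by simp)]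
  simp [eq_comm]

/-- The coefficients of a class function from its products with the differences. -/
theorem coef_cases [Fintype ↥(hall P U)] {χ : G → ℂ} (hχ : Cfsg.IsClassFunction G χ)
    (ψ₁ : W₂ →* ℂˣ) {θ : hall P U →* ℂˣ} (hθ : ¬ TrivP P θ) :
    (D.Generic θ ∧ coef χ θ - coef χ (D.phi ψ₁) = conj (Cfsg.classInner (bf θ (D.phi ψ₁)) χ)) ∨
      ∃ ψ, ψ ≠ 1 ∧ (∃ s ∈ S, cj (hall P U) s (D.phi ψ) = θ) ∧
        coef χ θ - coef χ (D.phi ψ₁) = conj (Cfsg.classInner (bf (D.phi ψ) (D.phi ψ₁)) χ) := by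
  rcases D.classify hθ with h | ⟨ψ, hψ, s, hs, e⟩
  · exact Or.inl ⟨h, coef_sub hχ _ _⟩
  · refine Or.inr ⟨ψ, hψ, ⟨s, hs, e⟩, ?_⟩
    rw [coef_sub hχ, ← e, D.bf_conj _ _ hs]

/-- The members `η a 1`: constant. -/
theorem split_row [Fintype ↥(hall P U)] (a : W₁ →* ℂˣ) :
    SplitAt (H := hall P U) P (η a 1) ∅ 0 := by
  classical
  haveI := isMulCommutative1 D.selfN
  haveI := isMulCommutative2 D.selfN
  haveI := finite_dual W₁
  haveI : Fintype (W₁ →* ℂˣ) := Fintype.ofFinite _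
  obtain ⟨ψ₁, h1⟩ := exists_hom_ne_one D.selfN.2.1
  obtain ⟨bs, e, hv, hp⟩ := D.exists_common_pattern F h1
  obtain ⟨c₀, hc₀⟩ := coef_int (SignIrr_isGen (F.sign a 1)) (D.phi ψ₁)
  refine ⟨by simp, c₀, fun θ hθ => ⟨fun h => by simp at h, fun _ => ?_⟩⟩
  have h0 : coef (η a 1) θ - coef (η a 1) (D.phi ψ₁) = 0 := by
    rcases D.coef_cases F (D.eta_class F a 1) ψ₁ hθ with ⟨hg, h⟩ | ⟨ψ, hψ, -, h⟩
    · rw [h, hp θ hg a 1, if_neg (Ne.symm (D.valid_ne_one h1 hv)), map_zero]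
    · rw [h, D.inner_phi_phi F hψ h1, if_neg (Ne.symm hψ), if_neg (Ne.symm h1), sub_zero, map_zero]
  rw [sub_eq_zero.mp h0, hc₀]

/-- The members `η a ψ₁`, `ψ₁ ≠ 1`: the indicator of the orbit of one fixed character. -/
theorem split_col [Fintype ↥(hall P U)] [Fintype (hall P U →* ℂˣ)] {ψ₁ : W₂ →* ℂˣ} (h1 : ψ₁ ≠ 1)
    (a : W₁ →* ℂˣ) :
    ∃ (O : Finset (hall P U →* ℂˣ)) (σ : ℤ), O.card = (cpart P U).relIndex U ∧ σ ^ 2 = 1 ∧
      SplitAt P (η a ψ₁) O σ := by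
  classical
  haveI := isMulCommutative1 D.selfN
  haveI := isMulCommutative2 D.selfN
  haveI := finite_dual W₁
  haveI := finite_dual W₂
  haveI : Fintype (W₁ →* ℂˣ) := Fintype.ofFinite _
  haveI : Fintype (W₂ →* ℂˣ) := Fintype.ofFinite _
  obtain ⟨bs, e, hv, hp⟩ := D.exists_common_pattern F h1
  obtain ⟨m, hm⟩ := coef_int (SignIrr_isGen (F.sign a ψ₁)) (D.phi ψ₁)
  have hnt : ∀ ψ : W₂ →* ℂˣ, ψ ≠ 1 → ∀ θ ∈ D.orbit (D.phi ψ), ¬ TrivP P θ := by
    intro ψ hψ θ hθ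
    obtain ⟨s, hs, rfl⟩ := D.mem_orbit.mp hθ
    exact D.cj_not_triv (D.phi_not_triv hψ) hs
  have huniq : ∀ ψ ψ' : W₂ →* ℂˣ, ψ ≠ 1 → ∀ θ, (∃ s ∈ S, cj (hall P U) s (D.phi ψ) = θ) →
      θ ∈ D.orbit (D.phi ψ') → ψ = ψ' := by
    rintro ψ ψ' hψ θ ⟨s, hs, rfl⟩ hθ
    obtain ⟨t, ht, e⟩ := D.mem_orbit.mp hθ
    refine (D.phi_conj hψ (mul_mem hs (S.inv_mem ht)) ?_).1
    rw [cj_mul (D.mem_norm hs) (D.mem_norm (S.inv_mem ht)), ← e, cj_inv_cancel (D.mem_norm ht)]
  have hgen : ∀ ψ : W₂ →* ℂˣ, ∀ θ, D.Generic θ → θ ∉ D.orbit (D.phi ψ) := by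
    intro ψ θ hg hθ
    obtain ⟨s, hs, e⟩ := D.mem_orbit.mp hθ
    exact hg.2 s hs ψ e
  rcases hv with ⟨rfl, rfl⟩ | ⟨hp3, rfl, rfl⟩
  · refine ⟨D.orbit (D.phi bs), 1, D.card_orbit_phi h1, by norm_num, hnt bs h1, m - 1,
      fun θ hθ => ?_⟩
    have h0 : coef (η a bs) θ - coef (η a bs) (D.phi bs) =
        if θ ∈ D.orbit (D.phi bs) then (0 : ℂ) else -1 := by
      rcases D.coef_cases F (D.eta_class F a bs) bs hθ with ⟨hg, h⟩ | ⟨ψ, hψ, hs, h⟩
      · rw [h, hp θ hg a bs, if_pos rfl, if_neg (hgen _ θ hg)]; simp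
      · rw [h, D.inner_phi_phi F hψ h1, if_pos rfl]
        by_cases hb : bs = ψ
        · subst hb
          rw [if_pos rfl, if_pos (D.mem_orbit.mpr hs), sub_self, map_zero]
        · rw [if_neg hb, if_neg fun h' => hb (huniq ψ bs hψ θ hs h').symm]; simp
    constructor <;> intro hm'
    · rw [if_pos hm'] at h0; push_cast; linear_combination h0 + hm
    · rw [if_neg hm'] at h0; push_cast; linear_combination h0 + hm
  · have hinv : ψ₁⁻¹ ≠ 1 := fun e => h1 (hom_inv_one.mp e)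
    have hne : ψ₁⁻¹ ≠ ψ₁ :=
      ne_inv_of_odd (D.odd.of_dvd_nat (Subgroup.card_subgroup_dvd_card W₂)) h1
    refine ⟨D.orbit (D.phi ψ₁⁻¹), -1, D.card_orbit_phi hinv, by norm_num, hnt _ hinv, m,
      fun θ hθ => ?_⟩
    have h0 : coef (η a ψ₁) θ - coef (η a ψ₁) (D.phi ψ₁) =
        if θ ∈ D.orbit (D.phi ψ₁⁻¹) then (-1 : ℂ) else 0 := by
      rcases D.coef_cases F (D.eta_class F a ψ₁) ψ₁ hθ with ⟨hg, h⟩ | ⟨ψ, hψ, hs, h⟩
      · rw [h, hp θ hg a ψ₁, if_neg hne.symm, if_neg (hgen _ θ hg), map_zero]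
      · rw [h, D.inner_phi_phi F hψ h1, if_pos rfl]
        by_cases hb : ψ = ψ₁
        · subst hb
          rw [if_pos rfl, if_neg fun h' => hne (huniq ψ _ hψ θ hs h').symm, sub_self, map_zero]
        · have hψ' : ψ = ψ₁⁻¹ := by
            by_contra hb'
            have h4 : ({1, ψ₁, ψ₁⁻¹, ψ} : Finset (W₂ →* ℂˣ)).card ≤ 3 := by
              refine le_trans (Finset.card_le_univ _) (le_of_eq ?_)
              rw [← Nat.card_eq_fintype_card, card_hom, hp3]
            have h5 : ({1, ψ₁, ψ₁⁻¹, ψ} : Finset (W₂ →* ℂˣ)).card = 4 := by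
              simp [Finset.card_insert_of_notMem, Ne.symm h1, Ne.symm hne, Ne.symm hψ, Ne.symm hb,
                Ne.symm hb', Ne.symm hinv, h1]
            omega
          subst hψ'
          rw [if_neg hne.symm, if_pos (D.mem_orbit.mpr hs)]; simp
    constructor <;> intro hm'
    · rw [if_pos hm'] at h0; push_cast; linear_combination h0 + hm
    · rw [if_neg hm'] at h0; linear_combination h0 + hm

/-- The character attached to a generic character with inertia group `H`. -/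
theorem exists_lambda [Fintype ↥(hall P U)] [Fintype (hall P U →* ℂˣ)] [Fintype (W₁ →* ℂˣ)]
    {θ₀ : hall P U →* ℂˣ} (hθ₀ : D.Generic θ₀)
    (hfix : fixCount (hall P U) S θ₀ θ₀ = Nat.card ↥(hall P U)) :
    ∃ (Λ : G → ℂ) (bs : W₂ →* ℂˣ) (e : ℤ) (O : Finset (hall P U →* ℂˣ)),
      SignIrr Λ ∧ bs ≠ 1 ∧ e ≠ 0 ∧ O.card = (cpart P U).relIndex U * Nat.card W₁ ∧
      SplitAt P Λ O 1 ∧
      ∀ g : G, (∀ z : G, z * g * z⁻¹ ∉ hall P U) → Λ g = -(e : ℂ) * ∑ a, η a bs g := by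
  classical
  haveI := isMulCommutative1 D.selfN
  haveI := isMulCommutative2 D.selfN
  haveI := finite_dual W₂
  haveI : Fintype (W₂ →* ℂˣ) := Fintype.ofFinite _
  obtain ⟨ψ₁, h1⟩ := exists_hom_ne_one D.selfN.2.1
  obtain ⟨bs, e, hv, hp⟩ := D.exists_common_pattern F h1
  have hq : (Fintype.card (W₁ →* ℂˣ) : ℂ) = Nat.card W₁ := by
    rw [← Nat.card_eq_fintype_card, card_hom]
  have he : (e : ℂ) ^ 2 = 1 := by exact_mod_cast valid_sq hv
  have hH : (Nat.card ↥(hall P U) : ℂ) ≠ 0 := Nat.cast_ne_zero.mpr Nat.card_pos.ne'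
  set Sg : G → ℂ := ∑ a, η a bs with hSg
  set β := bf θ₀ (D.phi ψ₁) with hβ
  set Λ := β - (e : ℂ) • Sg with hΛ
  have hSgen : Cfsg.IsGeneralizedCharacter G Sg :=
    isGeneralizedCharacter_sum _ fun a _ => SignIrr_isGen (F.sign a bs)
  have hgenΛ : Cfsg.IsGeneralizedCharacter G Λ :=
    IsGeneralizedCharacter.sub (bf_isGen _ _) (IsGeneralizedCharacter.int_smul hSgen e)
  have hβS : ∀ θ, D.Generic θ → Cfsg.classInner (bf θ (D.phi ψ₁)) Sg = (Nat.card W₁ : ℂ) * e := by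
    intro θ hθ
    rw [hSg, classInner_sum_right, Finset.sum_congr rfl (g := fun _ => (e : ℂ)) (fun a _ => by
      rw [hp θ hθ a bs, if_pos rfl]), Finset.sum_const, Finset.card_univ, nsmul_eq_mul, hq]
  have hSS : Cfsg.classInner Sg Sg = (Nat.card W₁ : ℂ) := by
    rw [hSg, classInner_sum_left, Finset.sum_congr rfl (g := fun _ => (1 : ℂ)) (fun a _ => by
      rw [classInner_sum_right, Finset.sum_eq_single a
        (fun x _ hx => (F.orth a bs x bs).resolve_left fun h => hx h.1.symm) (by simp), F.norm]),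
      Finset.sum_const, Finset.card_univ, nsmul_eq_mul, hq, mul_one]
  have hnorm : Cfsg.classInner Λ Λ = 1 := by
    rw [hΛ, classInner_sub_left, classInner_sub_right, classInner_sub_right, classInner_smul_left,
      classInner_smul_left, classInner_smul_right, classInner_smul_right, hSS, hβS θ₀ hθ₀,
      ← classInner_conj_symm β Sg, hβS θ₀ hθ₀, hβ, D.fixCount_norm_bf F hθ₀ h1, hfix,
      inv_mul_cancel₀ hH]
    simp only [map_mul, map_natCast, map_intCast]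
    linear_combination (-(Nat.card W₁ : ℂ)) * he
  refine ⟨Λ, bs, e, D.orbit θ₀, IsGeneralizedCharacter.of_norm_one hgenΛ hnorm,
    D.valid_ne_one h1 hv, ?_, ?_, ?_, ?_⟩
  · intro h; subst h; norm_num at he
  · have h := D.card_orbit θ₀
    rw [hfix, D.card_S_eq] at h
    refine Nat.eq_of_mul_eq_mul_right (m := Nat.card ↥(hall P U)) Nat.card_pos ?_
    rw [h]; ring
  · refine ⟨fun θ hθ => ?_, ?_⟩
    · obtain ⟨s, hs, rfl⟩ := D.mem_orbit.mp hθ
      exact D.cj_not_triv (D.generic_not_triv hθ₀) hs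
    obtain ⟨m, hm⟩ := coef_int hgenΛ (D.phi ψ₁)
    refine ⟨m, fun θ hθ => ?_⟩
    have h0 : coef Λ θ - coef Λ (D.phi ψ₁) = if θ ∈ D.orbit θ₀ then (1 : ℂ) else 0 := by
      rcases D.coef_cases F (IsGeneralizedCharacter.isClassFunction hgenΛ) ψ₁ hθ with
        ⟨hg, h⟩ | ⟨ψ, hψ, hs, h⟩
      · have hfx : (fixCount (hall P U) S θ θ₀ : ℂ) =
            (Nat.card ↥(hall P U) : ℂ) * if θ ∈ D.orbit θ₀ then (1 : ℂ) else 0 := by
          by_cases hm' : θ ∈ D.orbit θ₀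
          · obtain ⟨s, hs, rfl⟩ := D.mem_orbit.mp hm'
            rw [fixCount_conj D.self_le_hall_norm hs, hfix, if_pos hm', mul_one]
          · rw [fixCount_symm D.self_le_hall_norm, fixCount_eq_zero fun s hs he' =>
              hm' (D.mem_orbit.mpr ⟨s, hs, he'⟩), if_neg hm', Nat.cast_zero, mul_zero]
        rw [h, classInner_conj_symm, hΛ, classInner_sub_left, classInner_smul_left,
          ← classInner_conj_symm (bf θ (D.phi ψ₁)) Sg, hβS θ hg, ← classInner_conj_symm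
          (bf θ (D.phi ψ₁)) β, hβ, D.inner_bf, (D.fixCount_generic hg ψ₁).1,
          (D.fixCount_generic hθ₀ ψ₁).2, D.fixCount_phi h1, hfx]
        push_cast
        simp only [map_mul, map_inv₀, map_add, map_sub, map_natCast, map_intCast, map_zero]
        by_cases hm' : θ ∈ D.orbit θ₀ <;> simp only [hm', if_true, if_false, map_one, map_zero] <;>
          field_simp <;> linear_combination (-(Nat.card ↥(hall P U) : ℂ) * Nat.card W₁) * he
      · have hm' : θ ∉ D.orbit θ₀ := fun hh => by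
          obtain ⟨s, hs', e'⟩ := D.mem_orbit.mp hh
          obtain ⟨t, ht, e''⟩ := hs
          exact (D.cj_generic hθ₀ hs').2 t ht ψ (e''.trans e'.symm)
        rw [h, if_neg hm']
        by_cases hψ1 : ψ = ψ₁
        · subst hψ1
          rw [show bf (D.phi ψ) (D.phi ψ) = 0 from by rw [← bf_sub (D.phi ψ) (D.phi ψ) 1, sub_self]]
          simp [Cfsg.classInner]
        have hS : Cfsg.classInner (bf (D.phi ψ) (D.phi ψ₁)) Sg =
            (Nat.card W₁ : ℂ) * ((if bs = ψ then 1 else 0) - (if bs = ψ₁ then 1 else 0)) := by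
          rw [hSg, classInner_sum_right, Finset.sum_congr rfl (fun a _ => D.inner_phi_phi F hψ h1 a bs),
            Finset.sum_const, Finset.card_univ, nsmul_eq_mul, hq]
        have hbe : (e : ℂ) * ((if bs = ψ then 1 else 0) - (if bs = ψ₁ then 1 else 0)) = 1 := by
          rcases hv with ⟨hb, rfl⟩ | ⟨hp3, hb, rfl⟩
          · subst hb; rw [if_neg (Ne.symm hψ1), if_pos rfl]; simp
          · have hne : ψ₁⁻¹ ≠ ψ₁ :=
              ne_inv_of_odd (D.odd.of_dvd_nat (Subgroup.card_subgroup_dvd_card W₂)) h1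
            have hψ' : ψ = ψ₁⁻¹ := by
              by_contra hb'
              have h4 : ({1, ψ₁, ψ₁⁻¹, ψ} : Finset (W₂ →* ℂˣ)).card ≤ 3 := by
                refine le_trans (Finset.card_le_univ _) (le_of_eq ?_)
                rw [← Nat.card_eq_fintype_card, card_hom, hp3]
              have h5 : ({1, ψ₁, ψ₁⁻¹, ψ} : Finset (W₂ →* ℂˣ)).card = 4 := by
                simp [Finset.card_insert_of_notMem, Ne.symm h1, Ne.symm hne, Ne.symm hψ,
                  Ne.symm hψ1, Ne.symm hb', Ne.symm (fun e : ψ₁⁻¹ = 1 => h1 (hom_inv_one.mp e)), h1]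
              omega
            subst hb
            rw [if_pos hψ'.symm, if_neg hne]; simp
        have hK : ((if bs = ψ then (1 : ℂ) else 0) - (if bs = ψ₁ then 1 else 0)) = e := by
          linear_combination (e : ℂ) * hbe -
            ((if bs = ψ then (1 : ℂ) else 0) - (if bs = ψ₁ then 1 else 0)) * he
        rw [hK] at hS
        rw [classInner_conj_symm, hΛ, classInner_sub_left, classInner_smul_left,
          ← classInner_conj_symm (bf (D.phi ψ) (D.phi ψ₁)) Sg, hS,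
          ← classInner_conj_symm (bf (D.phi ψ) (D.phi ψ₁)) β, hβ, D.inner_bf,
          (D.fixCount_generic hθ₀ ψ).2, (D.fixCount_generic hθ₀ ψ₁).2,
          D.fixCount_phi_ne hψ hψ1, D.fixCount_phi h1]
        simp only [map_mul, map_sub, map_add, map_inv₀, map_natCast, map_intCast, map_zero]
        push_cast
        field_simp
        linear_combination (-(Nat.card ↥(hall P U) : ℂ) * Nat.card W₁) * he
    constructor <;> intro hm'
    · rw [if_pos hm'] at h0; push_cast; linear_combination h0 + hm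
    · rw [if_neg hm'] at h0; linear_combination h0 + hm
  · intro g hg
    rw [hΛ, Pi.sub_apply, Pi.smul_apply, hβ, D.bf_off θ₀ _ hg, hSg, Finset.sum_apply, smul_eq_mul]
    ring

end Side

end Cfsg.Agent.OddChar.P13
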