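/-
Peterfalvi section 13: lower bounds for the mean squares on `H` away from the identity of the
members of the family `η` and of the attached character.
-/
import Cfsg.Agent.Lib.OddChar.P13.Coef

set_option autoImplicit false
set_option linter.unusedSectionVars false
set_option linter.unusedVariables false
set_option linter.deprecated false
set_option linter.style.haveILetI false

namespace Cfsg.Agent.OddChar.P13

open scoped ComplexConjugate IsMulCommutative
open Cfsg.Agent.Char Cfsg.Agent.Char.CyclicTI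

universe u

variable {G : Type u} [Group G] [Fintype G] {S P U W₁ W₂ : Subgroup G}

open Classical in
/-- The non-identity elements of a subgroup, as a finset of the group. -/
noncomputable def sharp (H : Subgroup G) : Finset G :=
  Finset.univ.filter fun t => t ∈ H ∧ t ≠ 1

theorem mem_sharp {H : Subgroup G} {t : G} : t ∈ sharp H ↔ t ∈ H ∧ t ≠ 1 := by simp [sharp]

/-- The mean square of `χ` on the non-identity elements of `H`, times `|H|`. -/
noncomputable def hsum (H : Subgroup G) (χ : G → ℂ) : ℝ := ∑ t ∈ sharp H, ‖χ t‖ ^ 2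

theorem hsum_eq {H : Subgroup G} [Fintype H] [DecidableEq H] (χ : G → ℂ) :
    ∑ h ∈ Finset.univ.erase (1 : H), ‖χ h‖ ^ 2 = hsum H χ := by
  refine Finset.sum_bij (fun (h : H) _ => (h : G)) (fun h hh => ?_) (fun a _ b _ e => Subtype.ext e)
    (fun t ht => ?_) (fun _ _ => rfl)
  · exact mem_sharp.mpr ⟨h.2, fun e => Finset.ne_of_mem_erase hh (Subtype.ext e)⟩
  · obtain ⟨h1, h2⟩ := mem_sharp.mp ht
    exact ⟨⟨t, h1⟩, Finset.mem_erase.mpr ⟨fun e => h2 (congrArg Subtype.val e), Finset.mem_univ _⟩, rfl⟩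

theorem card_sharp (H : Subgroup G) : ((sharp H).card : ℝ) = (Nat.card H : ℝ) - 1 := by
  classical
  have h : sharp H = (Finset.univ.filter fun t : G => t ∈ H).erase 1 := by
    ext t; simp [mem_sharp, and_comm]
  rw [h, Finset.card_erase_of_mem (by simp), ← Fintype.card_subtype, ← Nat.card_eq_fintype_card,
    Nat.cast_sub (Nat.card_pos (α := H)), Nat.cast_one]

namespace Side

variable (D : Side S P U W₁ W₂)
include D

theorem two_le_n : (2 : ℤ) ≤ (Nat.card P : ℤ) := by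
  rw [D.P_card]
  have h1 := D.three_le_p
  have h2 := D.three_le_q
  have : 2 ≤ Nat.card W₂ ^ Nat.card W₁ := le_trans (by omega) (Nat.le_self_pow (by omega) _)
  exact_mod_cast this

theorem two_u_le : 2 * ((cpart P U).relIndex U : ℤ) ≤ (Nat.card P : ℤ) - 1 := by
  have h := D.u_bound
  rw [← D.P_card] at h
  have h2 : (cpart P U).relIndex U * 2 ≤ (cpart P U).relIndex U * (Nat.card W₂ - 1) :=
    Nat.mul_le_mul_left _ (by have := D.three_le_p; omega)
  have := Nat.card_pos (α := P)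
  omega

/-- The mean square on `H` from a splitting of the coefficients. -/
theorem split_sum [Fintype ↥(hall P U)] {χ : G → ℂ} (hχ : Cfsg.IsGeneralizedCharacter G χ)
    {O : Finset (hall P U →* ℂˣ)} {σ : ℤ} (h : SplitAt P χ O σ) :
    ∃ A N : ℤ, A ^ 2 ≤ (Nat.card ↥(cpart P U) : ℤ) * N ∧ |A| ≤ N ∧
      hsum (hall P U) χ = (((Nat.card P : ℤ) * Nat.card ↥(cpart P U) * (σ ^ 2 * O.card + N) -
        (σ * O.card + A) ^ 2 : ℤ) : ℝ) := by
  classical
  haveI : IsMulCommutative ↥(hall P U) :=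
    ⟨⟨fun a b => Subtype.ext (D.hall_comm a a.2 b b.2)⟩⟩
  haveI : IsMulCommutative (cpart P U) :=
    ⟨⟨fun a b => Subtype.ext (D.U_comm a a.2.1 b b.2.1)⟩⟩
  haveI := finite_dual ↥(hall P U)
  haveI : Fintype (hall P U →* ℂˣ) := Fintype.ofFinite _
  obtain ⟨hO, c₀, hc⟩ := h
  choose m hm using fun θ : hall P U →* ℂˣ => coef_int hχ θ
  set d : (hall P U →* ℂˣ) → ℤ := fun θ => m θ - c₀ with hd
  set T := Finset.univ.filter (fun θ : hall P U →* ℂˣ => TrivP P θ) with hT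
  have hout : ∀ θ, ¬ TrivP P θ → d θ = if θ ∈ O then σ else 0 := by
    intro θ hθ
    have hcoef := hm θ
    by_cases hm' : θ ∈ O
    · rw [(hc θ hθ).1 hm'] at hcoef
      have : c₀ + σ = m θ := by exact_mod_cast hcoef
      rw [if_pos hm']; simp only [hd]; omega
    · rw [(hc θ hθ).2 hm'] at hcoef
      have : c₀ = m θ := by exact_mod_cast hcoef
      rw [if_neg hm']; simp only [hd]; omega
  have hsplit : ∀ f : ℤ → ℤ, f 0 = 0 →
      ∑ θ, f (d θ) = ∑ θ ∈ T, f (d θ) + f σ * O.card := by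
    intro f hf
    rw [← Finset.sum_filter_add_sum_filter_not Finset.univ (fun θ => TrivP P θ)]
    congr 1
    rw [Finset.sum_congr rfl (g := fun θ => if θ ∈ O then f σ else 0) (fun θ hθ => by
      rw [hout θ (Finset.mem_filter.mp hθ).2]; split_ifs <;> simp [hf])]
    rw [Finset.sum_ite_mem, Finset.inter_eq_right.mpr, Finset.sum_const, nsmul_eq_mul, mul_comm]
    exact fun θ hθ => Finset.mem_filter.mpr ⟨Finset.mem_univ _, hO θ hθ⟩
  have hTc : (T.card : ℤ) ≤ Nat.card ↥(cpart P U) := by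
    rw [← card_hom (H := cpart P U), hT, ← Fintype.card_subtype, ← Nat.card_eq_fintype_card]
    haveI := finite_dual (cpart P U)
    refine Nat.cast_le.mpr (Nat.card_le_card_of_injective
      (fun θ : {θ : hall P U →* ℂˣ // TrivP P θ} => θ.1.comp (Subgroup.inclusion D.cpart_le_hall))
      fun θ φ e => Subtype.ext (MonoidHom.ext fun z => ?_))
    obtain ⟨x, hx, b, hb, ez⟩ := D.mem_hall.mp z.2
    rw [show z = ⟨x, D.P_le_hall hx⟩ * ⟨b, D.cpart_le_hall hb⟩ from Subtype.ext ez, map_mul, map_mul,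
      θ.2 ⟨x, D.P_le_hall hx⟩ hx, φ.2 ⟨x, D.P_le_hall hx⟩ hx,
      show θ.1 ⟨b, D.cpart_le_hall hb⟩ = φ.1 ⟨b, D.cpart_le_hall hb⟩ from
        DFunLike.congr_fun e ⟨b, hb⟩]
  refine ⟨∑ θ ∈ T, d θ, ∑ θ ∈ T, d θ ^ 2, ?_, ?_, ?_⟩
  · refine le_trans sq_sum_le_card_mul_sum_sq ?_
    exact mul_le_mul_of_nonneg_right hTc (Finset.sum_nonneg fun θ _ => sq_nonneg _)
  · refine (Finset.abs_sum_le_sum_abs _ _).trans (Finset.sum_le_sum fun θ _ => ?_)
    rcases eq_or_ne (d θ) 0 with h0 | h0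
    · simp [h0]
    · rw [← sq_abs]; nlinarith [Int.one_le_abs h0]
  · have h1 := sum_sq_off_one (A := ↥(hall P U)) (fun h => χ h) (c₀ : ℂ)
    rw [hsum_eq] at h1
    rw [h1]
    have e : ∀ θ : hall P U →* ℂˣ,
        Cfsg.classInner (fun h : hall P U => χ h) (lf θ) - (c₀ : ℂ) = ((d θ : ℤ) : ℂ) := fun θ => by
      show coef χ θ - _ = _
      rw [hm, hd]; push_cast; rfl
    simp only [e, ← Int.cast_sum, Complex.norm_intCast, sq_abs]
    have hA := hsplit id rfl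
    simp only [id] at hA
    have hN := hsplit (fun x => x ^ 2) (by norm_num)
    rw [hA, D.card_hall,
      show ∑ θ, ((d θ : ℝ)) ^ 2 = ((∑ θ, d θ ^ 2 : ℤ) : ℝ) by push_cast; rfl, hN]
    push_cast
    ring

variable {η : (W₁ →* ℂˣ) → (W₂ →* ℂˣ) → G → ℂ} (F : Fam W₁ W₂ η)
include F

/-- `η a 1` does not vanish on `W₂ ^ #` for `a ≠ 1`. -/
theorem row_ne {a : W₁ →* ℂˣ} (ha : a ≠ 1) : ∃ y : W₂, y ≠ 1 ∧ η a 1 (y : G) ≠ 0 := by
  classical
  by_contra hc
  push Not at hc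
  haveI := isMulCommutative2 D.selfN
  have Sp := split_of D.selfN
  obtain ⟨b, hb⟩ := exists_hom_ne_one D.selfN.2.1
  haveI : Fintype W₁ := Fintype.ofFinite _
  haveI : Fintype W₂ := Fintype.ofFinite _
  haveI : Fintype ↥(W₁ ⊔ W₂) := Fintype.ofFinite _
  obtain ⟨n, hn⟩ := IsGeneralizedCharacter.exists_classInner_int
    (IsGeneralizedCharacter.restrict (SignIrr_isGen (F.sign a 1)) (W₁ ⊔ W₂))
    (IsGeneralizedCharacter.sub
      (IsGeneralizedCharacter.of_isCharacter (IsIrrCharacter.isCharacter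
        (isIrrCharacter_linear (1 : ↥(W₁ ⊔ W₂) →* ℂˣ))))
      (IsGeneralizedCharacter.of_isCharacter (IsIrrCharacter.isCharacter
        (isIrrCharacter_linear (pull2 Sp b)))))
  have hval : Cfsg.classInner (fun w : ↥(W₁ ⊔ W₂) => η a 1 w)
      (lf (1 : ↥(W₁ ⊔ W₂) →* ℂˣ) - lf (pull2 Sp b)) = -(Nat.card W₁ : ℂ)⁻¹ := by
    simp only [Cfsg.classInner]
    rw [← Nat.card_congr (prodIso Sp).toEquiv, Nat.card_prod,
      ← Fintype.sum_equiv (prodIso Sp).toEquiv
        (fun z : W₁ × W₂ => ((a z.1 : ℂ) - if z.1 = 1 then 1 else 0) * conj (1 - (b z.2 : ℂ))) _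
        (fun z => ?_)]
    · rw [Fintype.sum_prod_type]
      dsimp only
      rw [Finset.sum_congr rfl (fun x _ => (Finset.mul_sum (Finset.univ : Finset W₂)
        (fun y => conj (1 - (b y : ℂ))) ((a x : ℂ) - if x = 1 then 1 else 0)).symm),
        ← Finset.sum_mul]
      have h1 : ∑ x : W₁, ((a x : ℂ) - if x = 1 then 1 else 0) = -1 := by
        rw [Finset.sum_sub_distrib, sum_lin ha, Finset.sum_ite_eq', if_pos (Finset.mem_univ _)]
        ring
      have h2 : ∑ y : W₂, conj (1 - (b y : ℂ)) = (Nat.card W₂ : ℂ) := by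
        rw [← map_sum, Finset.sum_sub_distrib, sum_lin hb]
        simp [Nat.card_eq_fintype_card]
      have hp0 : (Nat.card W₂ : ℂ) ≠ 0 := Nat.cast_ne_zero.mpr Nat.card_pos.ne'
      rw [h1, h2]
      push_cast
      field_simp
    · have e : ((prodIso Sp z : ↥(W₁ ⊔ W₂)) : G) = (z.1 : G) * z.2 := rfl
      have e2 : pull2 Sp b (prodIso Sp z) = b z.2 := by
        rw [show prodIso Sp z = inc1 W₁ W₂ z.1 * inc2 W₁ W₂ z.2 from Subtype.ext e, map_mul]
        simp [pull2]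
      show _ = η a 1 ((prodIso Sp z : ↥(W₁ ⊔ W₂)) : G) * _
      simp only [Pi.sub_apply, lf, MulEquiv.toEquiv_eq_coe, EquivLike.coe_coe, MonoidHom.one_apply,
        Units.val_one, e2]
      rw [e]
      by_cases hy : z.2 = 1
      · simp [hy]
      by_cases hx : z.1 = 1
      · simp [hx, hc z.2 hy]
      rw [F.value a 1 z.1 z.2 hx hy, if_neg hx]
      simp
  rw [hval] at hn
  have hq0 : (Nat.card W₁ : ℂ) ≠ 0 := Nat.cast_ne_zero.mpr Nat.card_pos.ne'
  have h3 : (n : ℂ) * (Nat.card W₁ : ℂ) = -1 := by rw [← hn]; field_simp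
  have h4 : n * (Nat.card W₁ : ℤ) = -1 := by exact_mod_cast h3
  have := Int.le_of_dvd one_pos (dvd_neg.mp (h4 ▸ dvd_mul_left (Nat.card W₁ : ℤ) n))
  have := D.one_lt_q
  omega

theorem row_bound {a : W₁ →* ℂˣ} (ha : a ≠ 1) :
    (Nat.card ↥(hall P U) : ℝ) - 1 ≤ hsum (hall P U) (η a 1) := by
  classical
  haveI : Fintype ↥(hall P U) := Fintype.ofFinite _
  obtain ⟨A, N, h1, h2, h3⟩ := D.split_sum (SignIrr_isGen (F.sign a 1)) (D.split_row F a)
  obtain ⟨y, hy, hne⟩ := D.row_ne F ha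
  have hpos : 0 < hsum (hall P U) (η a 1) := by
    refine lt_of_lt_of_le (pow_pos (norm_pos_iff.mpr hne) 2) (Finset.single_le_sum
      (f := fun t => ‖η a 1 t‖ ^ 2) (fun t _ => sq_nonneg _) ?_)
    exact mem_sharp.mpr ⟨D.P_le_hall (D.W₂_le y.2), fun e => hy (Subtype.ext e)⟩
  rw [h3] at hpos ⊢
  have hN : 1 ≤ N := by
    by_contra hN
    have : N = 0 := by have := abs_nonneg A; omega
    subst this
    rw [abs_nonpos_iff] at h2
    subst h2
    norm_num at hpos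
  rw [D.card_hall]
  have hn := D.two_le_n
  have hc : (1 : ℤ) ≤ Nat.card ↥(cpart P U) := by exact_mod_cast Nat.card_pos (α := cpart P U)
  suffices (Nat.card P : ℤ) * Nat.card ↥(cpart P U) - 1 ≤
      (Nat.card P : ℤ) * Nat.card ↥(cpart P U) * (0 ^ 2 * ((∅ : Finset (hall P U →* ℂˣ)).card : ℤ) + N) -
        (0 * ((∅ : Finset (hall P U →* ℂˣ)).card : ℤ) + A) ^ 2 by exact_mod_cast this
  simp only [zero_mul, zero_add, ne_eq, OfNat.ofNat_ne_zero, not_false_eq_true, zero_pow]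
  set n := (Nat.card P : ℤ)
  set c := (Nat.card ↥(cpart P U) : ℤ)
  by_cases hN1 : N = 1
  · subst hN1
    nlinarith [sq_abs A, abs_nonneg A]
  · have hN2 : 2 ≤ N := by omega
    nlinarith [mul_nonneg (mul_nonneg (le_trans zero_le_one hc) (by linarith : (0 : ℤ) ≤ n - 1))
      (by linarith : (0 : ℤ) ≤ N - 2), mul_nonneg (le_trans zero_le_one hc) (by linarith : (0 : ℤ) ≤ n - 2)]

theorem col_bound {ψ₁ : W₂ →* ℂˣ} (h₁ : ψ₁ ≠ 1) (a : W₁ →* ℂˣ) :
    (Nat.card ↥(hall P U) : ℝ) * (cpart P U).relIndex U - ((cpart P U).relIndex U : ℝ) ^ 2 ≤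
      hsum (hall P U) (η a ψ₁) := by
  classical
  haveI : Fintype ↥(hall P U) := Fintype.ofFinite _
  haveI := finite_dual ↥(hall P U)
  haveI : Fintype (hall P U →* ℂˣ) := Fintype.ofFinite _
  obtain ⟨O, σ, hk, hσ, hsp⟩ := D.split_col F h₁ a
  obtain ⟨A, N, h1, h2, h3⟩ := D.split_sum (SignIrr_isGen (F.sign a ψ₁)) hsp
  rw [h3, hk, D.card_hall, hσ]
  have hc : (1 : ℤ) ≤ Nat.card ↥(cpart P U) := by exact_mod_cast Nat.card_pos (α := cpart P U)
  have hu := D.two_u_le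
  set n := (Nat.card P : ℤ) with hn
  set c := (Nat.card ↥(cpart P U) : ℤ) with hcdef
  set k := ((cpart P U).relIndex U : ℤ) with hkdef
  have hk0 : 0 ≤ k := Int.natCast_nonneg _
  have hN : 0 ≤ N := le_trans (abs_nonneg _) h2
  have hσ1 : |σ| = 1 := by
    have := sq_abs σ
    nlinarith [abs_nonneg σ, hσ]
  have hA : σ * A ≤ N := by
    calc σ * A ≤ |σ * A| := le_abs_self _
      _ = |A| := by rw [abs_mul, hσ1, one_mul]
      _ ≤ N := h2
  suffices n * c * k - k ^ 2 ≤ n * c * (1 * k + N) - (σ * k + A) ^ 2 by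
    rw [hn, hcdef, hkdef] at this
    exact_mod_cast this
  have hk2 : (σ * k) ^ 2 = k ^ 2 := by rw [mul_pow, hσ, one_mul]
  nlinarith [mul_nonneg (by linarith : (0 : ℤ) ≤ n - 1 - 2 * k) (mul_nonneg (by linarith : (0 : ℤ) ≤ c) hN),
    mul_nonneg hk0 (mul_nonneg (by linarith : (0 : ℤ) ≤ c - 1) hN),
    mul_le_mul_of_nonneg_left hA hk0]

theorem lambda_bound [Fintype (W₁ →* ℂˣ)] {θ₀ : hall P U →* ℂˣ} (hθ₀ : D.Generic θ₀)
    (hfix : fixCount (hall P U) S θ₀ θ₀ = Nat.card ↥(hall P U)) :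
    ∃ (Λ : G → ℂ) (bs : W₂ →* ℂˣ) (e : ℤ), SignIrr Λ ∧ bs ≠ 1 ∧ e ≠ 0 ∧
      ((Nat.card P : ℝ) - 1) * ((Nat.card ↥(hall P U) : ℝ) *
          (((cpart P U).relIndex U : ℝ) * Nat.card W₁)) -
        (Nat.card P : ℝ) * (((cpart P U).relIndex U : ℝ) * Nat.card W₁) ^ 2 ≤
        ((Nat.card P : ℝ) - 1) * hsum (hall P U) Λ ∧
      ∀ g : G, (∀ z : G, z * g * z⁻¹ ∉ hall P U) → Λ g = -(e : ℂ) * ∑ a, η a bs g := by
  classical
  haveI : Fintype ↥(hall P U) := Fintype.ofFinite _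
  haveI := finite_dual ↥(hall P U)
  haveI : Fintype (hall P U →* ℂˣ) := Fintype.ofFinite _
  obtain ⟨Λ, bs, e, O, hΛ, hbs, he, hk, hsp, hoff⟩ := D.exists_lambda F hθ₀ hfix
  refine ⟨Λ, bs, e, hΛ, hbs, he, ?_, hoff⟩
  obtain ⟨A, N, h1, h2, h3⟩ := D.split_sum (SignIrr_isGen hΛ) hsp
  have hk' : (((cpart P U).relIndex U : ℝ) * Nat.card W₁) = (O.card : ℝ) := by
    rw [hk]; push_cast; ring
  rw [hk', h3, D.card_hall]
  push_cast
  have h1' : (A : ℝ) ^ 2 ≤ (Nat.card ↥(cpart P U) : ℝ) * N := by exact_mod_cast h1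
  have hn : (2 : ℝ) ≤ (Nat.card P : ℝ) := by exact_mod_cast D.two_le_n
  nlinarith [sq_nonneg ((O.card : ℝ) - ((Nat.card P : ℝ) - 1) * A),
    mul_le_mul_of_nonneg_left h1' (mul_nonneg (by linarith : (0 : ℝ) ≤ (Nat.card P : ℝ))
      (by linarith : (0 : ℝ) ≤ (Nat.card P : ℝ) - 1))]

end Side

end Cfsg.Agent.OddChar.P13
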