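/-
Peterfalvi section 13: the inequality obtained by summing the squares of `η a₀ 1` and of the
attached character over the group.
-/
import Cfsg.Agent.Lib.OddChar.P13.Bounds

set_option autoImplicit false
set_option linter.unusedSectionVars false
set_option linter.unusedVariables false
set_option linter.deprecated false
set_option linter.style.haveILetI false

namespace Cfsg.Agent.OddChar.P13

open scoped ComplexConjugate IsMulCommutative
open Cfsg.Agent.Char Cfsg.Agent.Char.CyclicTI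

universe u

variable {G : Type u} [Group G] [Fintype G] {S T P U Q V W₁ W₂ : Subgroup G}

/-- The regular elements of `W₁ W₂`. -/
def regset (W₁ W₂ : Subgroup G) : Set G :=
  {t | ∃ (x : W₁) (y : W₂), x ≠ 1 ∧ y ≠ 1 ∧ t = (x : G) * y}

/-- The union of the conjugates of `H ^ #`. -/
noncomputable def cs (H : Subgroup G) : Finset G := classSupp {t | t ∈ H ∧ t ≠ 1}

theorem SignIrr_norm_sum {χ : G → ℂ} (h : Cfsg.classInner χ χ = 1) :
    ∑ g : G, ‖χ g‖ ^ 2 = (Nat.card G : ℝ) := by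
  simp only [Cfsg.classInner] at h
  rw [inv_mul_eq_iff_eq_mul₀ (Nat.cast_ne_zero.mpr Nat.card_pos.ne'), mul_one] at h
  simp only [Complex.mul_conj, Complex.normSq_eq_norm_sq] at h
  exact_mod_cast h

theorem exists_inv_exponent {k : ℕ} (hk : k.Coprime (Nat.card G)) :
    ∃ l : ℕ, l.Coprime (Nat.card G) ∧ ∀ g : G, (g ^ k) ^ l = g := by
  haveI : NeZero (Nat.card G) := ⟨Nat.card_pos.ne'⟩
  set v := (ZMod.unitOfCoprime k hk)⁻¹ with hv
  refine ⟨(v : ZMod (Nat.card G)).val, ZMod.val_coe_unit_coprime v, fun g => ?_⟩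
  have h : k * (v : ZMod (Nat.card G)).val ≡ 1 [MOD Nat.card G] := by
    rw [← ZMod.natCast_eq_natCast_iff, Nat.cast_mul, Nat.cast_one, ZMod.natCast_zmod_val,
      ← ZMod.coe_unitOfCoprime k hk, ← Units.val_mul, hv, mul_inv_cancel, Units.val_one]
  rw [← pow_mul]
  conv_rhs => rw [← pow_one g]
  exact pow_eq_pow_iff_modEq.mpr (h.of_dvd (orderOf_dvd_natCard g))

theorem classSupp_pow {X : Set G}
    (hX : ∀ t ∈ X, ∀ l : ℕ, l.Coprime (Nat.card G) → t ^ l ∈ X) {g : G} {k : ℕ}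
    (hk : k.Coprime (Nat.card G)) (h : g ^ k ∈ classSupp X) : g ∈ classSupp X := by
  obtain ⟨l, hl, hg⟩ := exists_inv_exponent hk
  obtain ⟨t, ht, x, e⟩ := mem_classSupp.mp h
  exact mem_classSupp.mpr ⟨t ^ l, hX t ht l hl, x, by rw [← hg g, e, conj_pow]⟩

theorem pow_ne_one_of_coprime {t : G} (ht : t ≠ 1) {l : ℕ} (hl : l.Coprime (Nat.card G)) :
    t ^ l ≠ 1 := fun h => ht (orderOf_eq_one_iff.mp (Nat.eq_one_of_dvd_coprimes hl
    (orderOf_dvd_iff_pow_eq_one.mpr h) (orderOf_dvd_natCard t)))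

theorem SignIrr.card_le {χ : G → ℂ} (hχ : SignIrr χ) (s : Finset G)
    (hs : ∀ g ∈ s, ∀ k : ℕ, k.Coprime (Nat.card G) → g ^ k ∈ s) (hne : ∀ g ∈ s, χ g ≠ 0) :
    (s.card : ℝ) ≤ ∑ g ∈ s, ‖χ g‖ ^ 2 := by
  rcases hχ with h | h
  · exact CharGalois.card_le_sum_normSq_char (IsIrrCharacter.isCharacter h) s hs hne
  · have := CharGalois.card_le_sum_normSq_char (IsIrrCharacter.isCharacter h) s hs
      (fun g hg => by simpa using hne g hg)
    simpa using this

theorem SignIrr.pow_eq_zero_iff {χ : G → ℂ} (hχ : SignIrr χ) {k : ℕ}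
    (hk : k.Coprime (Nat.card G)) (g : G) : χ (g ^ k) = 0 ↔ χ g = 0 := by
  obtain ⟨σ, hσ⟩ := CharGalois.exists_galoisAut (Nat.card_pos (α := G)).ne' hk
  rw [← Char.CyclicTI.SignIrr.map_value hχ σ.toRingHom hσ g]
  exact map_eq_zero_iff _ σ.injective

theorem SignIrr.one_ne_zero {χ : G → ℂ} (hχ : SignIrr χ) : χ 1 ≠ 0 := by
  rcases hχ with h | h <;> obtain ⟨d, hd, e⟩ := IsIrrCharacter.exists_degree h
  · rw [e]; exact Nat.cast_ne_zero.mpr hd.ne'
  · intro h0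
    rw [Pi.neg_apply, h0, neg_zero] at e
    exact hd.ne' (Nat.cast_eq_zero.mp e.symm)

namespace Side

variable (D : Side S P U W₁ W₂)
include D

theorem sum_cs (F : G → ℝ) (hF : ∀ x g : G, F (x * g * x⁻¹) = F g) :
    (Nat.card S : ℝ) * ∑ g ∈ cs (hall P U), F g =
      (Nat.card G : ℝ) * ∑ t ∈ sharp (hall P U), F t := by
  classical
  rw [cs, sum_classSupp (S := S) (T := {t | t ∈ hall P U ∧ t ≠ 1}) (fun s hs t ht => ⟨D.normal_hall hs ht.1, by simpa using ht.2⟩)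
    (fun t ht g hg => D.mem_of_conj ht.1 ht.2 hg.1) F hF]
  congr 1
  refine Finset.sum_congr ?_ fun _ _ => rfl
  ext t
  simp [mem_sharp]

theorem card_cs :
    (Nat.card S : ℝ) * ((cs (hall P U)).card : ℝ) =
      (Nat.card G : ℝ) * ((Nat.card ↥(hall P U) : ℝ) - 1) := by
  have := D.sum_cs (fun _ => 1) (fun _ _ => rfl)
  simpa [card_sharp] using this

theorem sum_cs_sq {χ : G → ℂ} (hχ : Cfsg.IsClassFunction G χ) :
    (Nat.card S : ℝ) * ∑ g ∈ cs (hall P U), ‖χ g‖ ^ 2 =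
      (Nat.card G : ℝ) * hsum (hall P U) χ :=
  D.sum_cs (fun g => ‖χ g‖ ^ 2) fun x g => by rw [hχ g x]

theorem cs_pow {g : G} {k : ℕ} (hk : k.Coprime (Nat.card G)) (h : g ^ k ∈ cs (hall P U)) :
    g ∈ cs (hall P U) :=
  classSupp_pow (X := {t | t ∈ hall P U ∧ t ≠ 1}) (fun t ht l hl => ⟨pow_mem ht.1 l, pow_ne_one_of_coprime ht.2 hl⟩) hk h

theorem reg_not_cs {g : G} (h : g ∈ classSupp (regset W₁ W₂)) : g ∉ cs (hall P U) := by
  intro hg
  obtain ⟨t, ⟨x, y, hx, hy, rfl⟩, z, rfl⟩ := mem_classSupp.mp h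
  obtain ⟨s, hs, w, e⟩ := mem_classSupp.mp hg
  refine D.reg_not_hall hx hy (w⁻¹ * z) ?_
  have : w⁻¹ * z * ((x : G) * y) * (w⁻¹ * z)⁻¹ = s := by
    calc w⁻¹ * z * ((x : G) * y) * (w⁻¹ * z)⁻¹
        = w⁻¹ * (z * ((x : G) * y) * z⁻¹) * w := by group
      _ = w⁻¹ * (w * s * w⁻¹) * w := by rw [e]
      _ = s := by group
  rw [this]
  exact hs.1

theorem regset_swap : regset W₂ W₁ = regset W₁ W₂ := by
  ext t
  constructor <;> rintro ⟨x, y, hx, hy, rfl⟩
  · exact ⟨y, x, hy, hx, (D.selfN.2.2.2.1 y y.2 x x.2).symm⟩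
  · exact ⟨y, x, hy, hx, D.selfN.2.2.2.1 x x.2 y y.2⟩

variable (E : Side T Q V W₂ W₁)
include E

theorem cs_disjoint {g : G} (h : g ∈ cs (hall P U)) : g ∉ cs (hall Q V) := by
  intro h'
  obtain ⟨s, hs, z, rfl⟩ := mem_classSupp.mp h
  obtain ⟨t, ht, w, e⟩ := mem_classSupp.mp h'
  set a := w⁻¹ * z with ha
  have hst : a * s * a⁻¹ = t := by
    calc a * s * a⁻¹ = w⁻¹ * (z * s * z⁻¹) * w := by rw [ha]; group
      _ = w⁻¹ * (w * t * w⁻¹) * w := by rw [e]
      _ = t := by group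
  have hle : P.map (MulAut.conj a).toMonoidHom ≤ T := by
    rintro y ⟨x, hx, rfl⟩
    refine E.centralizer_le ht.1 ht.2 (Subgroup.mem_centralizer_singleton_iff.mpr ?_)
    show a * x * a⁻¹ * t = t * (a * x * a⁻¹)
    rw [← hst]
    calc a * x * a⁻¹ * (a * s * a⁻¹) = a * (x * s) * a⁻¹ := by group
      _ = a * (s * x) * a⁻¹ := by rw [D.hall_comm x (D.P_le_hall hx) s hs.1]
      _ = a * s * a⁻¹ * (a * x * a⁻¹) := by group
  have hd := Subgroup.card_dvd_of_le hle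
  rw [Subgroup.card_map_of_injective (MulAut.conj a).injective, D.P_card, E.card_S] at hd
  have hp := D.p_prime
  have hcop : Nat.Coprime (Nat.card W₂ ^ Nat.card W₁) (Nat.card Q * Nat.card V) :=
    Nat.Coprime.pow_left _ (E.coprime_P.mul_right E.coprime_U)
  have h1 := Nat.le_of_dvd hp.pos (hcop.dvd_of_dvd_mul_left hd)
  have h2 : Nat.card W₂ ^ 2 ≤ Nat.card W₂ ^ Nat.card W₁ :=
    Nat.pow_le_pow_right hp.pos D.q_prime.two_le
  have := D.three_le_p
  nlinarith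

variable {η : (W₁ →* ℂˣ) → (W₂ →* ℂˣ) → G → ℂ} (F : Fam W₁ W₂ η)
include F

set_option maxHeartbeats 1000000 in
/-- The inequality, given a generic character with inertia group `H`. -/
theorem main_ineq_free {θ₀ : hall P U →* ℂˣ} (hθ₀ : D.Generic θ₀)
    (hfix : fixCount (hall P U) S θ₀ θ₀ = Nat.card ↥(hall P U)) :
    (((cpart Q V).relIndex V : ℝ) - 1) *
        ((Nat.card ↥(hall Q V) : ℝ) - (cpart Q V).relIndex V - 1) *
        ((Nat.card ↥(cpart P U) : ℝ) * ((Nat.card P : ℝ) - 1)) ≤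
      (Nat.card W₁ : ℝ) * (cpart P U).relIndex U *
        ((Nat.card ↥(hall Q V) : ℝ) * (cpart Q V).relIndex V * Nat.card W₂) := by
  classical
  haveI := isMulCommutative1 D.selfN
  haveI := isMulCommutative2 D.selfN
  haveI := finite_dual W₁
  haveI : Fintype (W₁ →* ℂˣ) := Fintype.ofFinite _
  obtain ⟨a₀, ha₀⟩ := exists_hom_ne_one D.selfN.1
  obtain ⟨Λ, bs, e, hΛ, hbs, he, hlam, hoff⟩ := D.lambda_bound F hθ₀ hfix
  set χ := η a₀ 1 with hχdef
  have hχ : SignIrr χ := F.sign a₀ 1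
  have hrow := D.row_bound F ha₀
  have hcol : (Nat.card ↥(hall Q V) : ℝ) * (cpart Q V).relIndex V -
      ((cpart Q V).relIndex V : ℝ) ^ 2 ≤ hsum (hall Q V) χ :=
    E.col_bound (F.swap D.selfN) ha₀ 1
  set A := cs (hall P U) with hA
  set B := cs (hall Q V) with hB
  set C := classSupp (regset W₁ W₂) with hCdef
  have hAB : Disjoint A B := Finset.disjoint_left.mpr fun g hg => D.cs_disjoint E hg
  have hABC : Disjoint (A ∪ B) C := by
    refine Finset.disjoint_right.mpr fun g hg hg' => ?_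
    rcases Finset.mem_union.mp hg' with h | h
    · exact D.reg_not_cs hg h
    · refine E.reg_not_cs ?_ h
      rwa [D.regset_swap]
  set R := Finset.univ \ (A ∪ B ∪ C) with hR
  have htot : ∀ f : G → ℝ, ∑ g, f g =
      ∑ g ∈ R, f g + (∑ g ∈ A, f g + ∑ g ∈ B, f g + ∑ g ∈ C, f g) := by
    intro f
    rw [← Finset.sum_union hAB, ← Finset.sum_union hABC, hR,
      Finset.sum_sdiff (Finset.subset_univ _)]
  have hone : ∀ g ∈ C, ‖χ g‖ ^ 2 = 1 := by
    intro g hg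
    obtain ⟨t, ⟨x, y, hx, hy, rfl⟩, z, rfl⟩ := mem_classSupp.mp hg
    rw [hχdef, D.eta_class F a₀ 1 _ z, F.value a₀ 1 x y hx hy, MonoidHom.one_apply, Units.val_one, mul_one]
    have : ‖(a₀ x : ℂ)‖ = 1 := Complex.norm_eq_one_of_pow_eq_one (n := Nat.card W₁)
      (by rw [← Units.val_pow_eq_pow_val, ← map_pow, pow_card_eq_one', map_one, Units.val_one])
      Nat.card_pos.ne'
    rw [this, one_pow]
  have hpowR : ∀ g ∈ R, ∀ k : ℕ, k.Coprime (Nat.card G) → g ^ k ∈ R := by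
    intro g hg k hk
    simp only [hR, Finset.mem_sdiff, Finset.mem_univ, true_and, Finset.mem_union, not_or] at hg ⊢
    refine ⟨⟨fun h => hg.1.1 (D.cs_pow hk h), fun h => hg.1.2 (E.cs_pow hk h)⟩,
      fun h => hg.2 (classSupp_pow ?_ hk h)⟩
    rintro t ⟨x, y, hx, hy, rfl⟩ l hl
    have hc : Commute (x : G) (y : G) := D.selfN.2.2.2.1 x x.2 y y.2
    exact ⟨x ^ l, y ^ l,
      fun h => pow_ne_one_of_coprime (fun e => hx (Subtype.ext e)) hl (congrArg Subtype.val h),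
      fun h => pow_ne_one_of_coprime (fun e => hy (Subtype.ext e)) hl (congrArg Subtype.val h),
      by rw [hc.mul_pow]; rfl⟩
  have hΛne : ∀ g ∈ R, χ g = 0 → Λ g ≠ 0 := by
    intro g hg hg0
    simp only [hR, Finset.mem_sdiff, Finset.mem_univ, true_and, Finset.mem_union, not_or] at hg
    have hg1 : g ≠ 1 := fun h => SignIrr.one_ne_zero hχ (h ▸ hg0)
    have hH : ∀ z : G, z * g * z⁻¹ ∉ hall P U := by
      intro z hz
      refine hg.1.1 (mem_classSupp.mpr ⟨z * g * z⁻¹, ⟨hz, ?_⟩, z⁻¹, by group⟩)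
      simpa using hg1
    have hW : ∀ (x : W₁) (y : W₂) (z : G), x ≠ 1 → y ≠ 1 → g ≠ z * ((x : G) * y) * z⁻¹ :=
      fun x y z hx hy h => hg.2 (mem_classSupp.mpr ⟨_, ⟨x, y, hx, hy, rfl⟩, z, h⟩)
    have hval : ∀ a, η a bs g = η 1 bs g - (if a = 1 then (0 : ℂ) else 1) := by
      intro a
      by_cases ha : a = 1
      · subst ha; simp
      · rw [if_neg ha, F.off D.selfN a bs hW, F.gal₁ a₀ a D.q_prime ha₀ ha g hg0, zero_add]
    intro h0
    rw [hoff g hH, mul_eq_zero, neg_eq_zero] at h0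
    have hsum := h0.resolve_left (Int.cast_ne_zero.mpr he)
    rw [Finset.sum_congr rfl fun a _ => hval a, Finset.sum_sub_distrib,
      ← Finset.sum_erase_add _ _ (Finset.mem_univ (1 : W₁ →* ℂˣ)),
      Finset.sum_congr rfl (g := fun _ => η 1 bs g) (fun a _ => rfl)] at hsum
    have hq : ((Finset.univ.erase (1 : W₁ →* ℂˣ)).card : ℂ) = (Nat.card W₁ : ℂ) - 1 := by
      rw [Finset.card_erase_of_mem (Finset.mem_univ _), Finset.card_univ,
        ← Nat.card_eq_fintype_card, card_hom, Nat.cast_sub (Nat.card_pos (α := W₁)), Nat.cast_one]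
    rw [Finset.sum_const, nsmul_eq_mul, hq,
      ← Finset.sum_erase_add _ _ (Finset.mem_univ (1 : W₁ →* ℂˣ)),
      Finset.sum_congr rfl (g := fun _ => (1 : ℂ)) (fun a ha => if_neg (Finset.ne_of_mem_erase ha)),
      if_pos rfl, Finset.sum_const, nsmul_eq_mul, hq] at hsum
    have hq0 : (Nat.card W₁ : ℂ) ≠ 0 := Nat.cast_ne_zero.mpr Nat.card_pos.ne'
    have h2 : η 1 bs g = ((((Nat.card W₁ : ℚ) - 1) / Nat.card W₁ : ℚ) : ℂ) := by
      push_cast
      field_simp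
      linear_combination hsum
    have hint := Char.CyclicTI.SignIrr.isIntegral (F.sign 1 bs) g
    rw [h2] at hint
    obtain ⟨m, hm⟩ := exists_int_of_isIntegral hint
    rw [div_eq_iff (Nat.cast_ne_zero.mpr Nat.card_pos.ne')] at hm
    have h3 : (Nat.card W₁ : ℤ) - 1 = m * Nat.card W₁ := by exact_mod_cast hm
    have h4 : (Nat.card W₁ : ℤ) ∣ 1 := ⟨1 - m, by linear_combination -h3⟩
    have := Int.le_of_dvd one_pos h4
    have := D.one_lt_q
    omega
  -- the estimate on `R`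
  have hRle : (R.card : ℝ) ≤ ∑ g ∈ R, ‖χ g‖ ^ 2 + ∑ g ∈ R, ‖Λ g‖ ^ 2 := by
    rw [← Finset.card_filter_add_card_filter_not (s := R) (fun g => χ g ≠ 0), Nat.cast_add]
    refine add_le_add ?_ ?_
    · refine (SignIrr.card_le hχ _ ?_ fun g hg => (Finset.mem_filter.mp hg).2).trans
        (Finset.sum_le_sum_of_subset_of_nonneg (Finset.filter_subset _ _) fun _ _ _ => sq_nonneg _)
      intro g hg k hk
      obtain ⟨h1, h2⟩ := Finset.mem_filter.mp hg
      exact Finset.mem_filter.mpr ⟨hpowR g h1 k hk,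
        fun h => h2 ((SignIrr.pow_eq_zero_iff hχ hk g).mp h)⟩
    · refine (SignIrr.card_le hΛ _ ?_ fun g hg => ?_).trans
        (Finset.sum_le_sum_of_subset_of_nonneg (Finset.filter_subset _ _) fun _ _ _ => sq_nonneg _)
      · intro g hg k hk
        obtain ⟨h1, h2⟩ := Finset.mem_filter.mp hg
        exact Finset.mem_filter.mpr ⟨hpowR g h1 k hk,
          fun h => h2 fun h' => h ((SignIrr.pow_eq_zero_iff hχ hk g).mpr h')⟩
      · obtain ⟨h1, h2⟩ := Finset.mem_filter.mp hg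
        exact hΛne g h1 (not_not.mp h2)
  have hGχ := SignIrr_norm_sum (F.norm a₀ 1)
  rw [← hχdef, htot, Finset.sum_congr rfl hone, Finset.sum_const, nsmul_eq_mul, mul_one] at hGχ
  have hnΛ : Cfsg.classInner Λ Λ = 1 := by
    rcases hΛ with h | h
    · exact classInner_self_irr h
    · have := classInner_self_irr h
      rwa [classInner_neg_left, classInner_neg_right, neg_neg] at this
  have hGΛ := SignIrr_norm_sum hnΛ
  rw [htot] at hGΛ
  have hGcard : (Nat.card G : ℝ) = R.card + ((A.card : ℝ) + B.card + C.card) := by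
    have := htot fun _ => 1
    simpa [Nat.card_eq_fintype_card] using this
  have hBΛ : 0 ≤ ∑ g ∈ B, ‖Λ g‖ ^ 2 := Finset.sum_nonneg fun _ _ => sq_nonneg _
  have hCΛ : 0 ≤ ∑ g ∈ C, ‖Λ g‖ ^ 2 := Finset.sum_nonneg fun _ _ => sq_nonneg _
  have key : (∑ g ∈ A, ‖χ g‖ ^ 2 - A.card) + (∑ g ∈ B, ‖χ g‖ ^ 2 - B.card) +
      ∑ g ∈ A, ‖Λ g‖ ^ 2 ≤ (Nat.card G : ℝ) := by linarith
  have sA1 := D.card_cs
  have sA2 := D.sum_cs_sq (SignIrr.isClassFunction hχ)
  have sA3 := D.sum_cs_sq (SignIrr.isClassFunction hΛ)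
  have sB1 := E.card_cs
  have sB2 := E.sum_cs_sq (SignIrr.isClassFunction hχ)
  rw [← hA] at sA1 sA2 sA3
  rw [← hB] at sB1 sB2
  have hS : (Nat.card S : ℝ) =
      (Nat.card ↥(hall P U) : ℝ) * (cpart P U).relIndex U * Nat.card W₁ := by
    exact_mod_cast D.card_S_eq
  have hT : (Nat.card T : ℝ) =
      (Nat.card ↥(hall Q V) : ℝ) * (cpart Q V).relIndex V * Nat.card W₂ := by
    exact_mod_cast E.card_S_eq
  have hH : (Nat.card ↥(hall P U) : ℝ) = (Nat.card P : ℝ) * Nat.card ↥(cpart P U) := by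
    exact_mod_cast D.card_hall
  rw [← hT]
  set g₀ := (Nat.card G : ℝ) with hg₀
  set s := (Nat.card S : ℝ) with hs
  set t := (Nat.card T : ℝ) with ht
  set h := (Nat.card ↥(hall P U) : ℝ) with hh
  set K := (Nat.card ↥(hall Q V) : ℝ) with hK
  set v := ((cpart Q V).relIndex V : ℝ) with hv
  set k := ((cpart P U).relIndex U : ℝ) * (Nat.card W₁ : ℝ) with hk
  set n := (Nat.card P : ℝ) with hn
  set c := (Nat.card ↥(cpart P U) : ℝ) with hc
  have hg0 : 0 < g₀ := Nat.cast_pos.mpr Nat.card_pos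
  have hs0 : 0 < s := Nat.cast_pos.mpr Nat.card_pos
  have ht0 : 0 < t := Nat.cast_pos.mpr Nat.card_pos
  have hh0 : 0 < h := Nat.cast_pos.mpr Nat.card_pos
  have hn1 : 0 ≤ n - 1 := by
    have : (2 : ℝ) ≤ n := by rw [hn]; exact_mod_cast D.two_le_n
    linarith
  -- in terms of the mean squares
  have hB' : t * (∑ g ∈ B, ‖χ g‖ ^ 2 - B.card) ≥ g₀ * ((v - 1) * (K - v - 1)) := by
    rw [mul_sub, sB1, sB2, ← mul_sub]
    refine mul_le_mul_of_nonneg_left ?_ hg0.le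
    have : (v - 1) * (K - v - 1) = K * v - v ^ 2 - (K - 1) := by ring
    linarith
  have hA' : 0 ≤ ∑ g ∈ A, ‖χ g‖ ^ 2 - A.card := by
    refine (mul_nonneg_iff_of_pos_left hs0).mp ?_
    rw [mul_sub, sA1, sA2, ← mul_sub]
    exact mul_nonneg hg0.le (by linarith)
  have hL : (g₀ - ∑ g ∈ A, ‖Λ g‖ ^ 2) * ((n - 1) * c) ≤ g₀ * k := by
    refine le_of_mul_le_mul_left (a := s) ?_ hs0
    have h1 : s * ((g₀ - ∑ g ∈ A, ‖Λ g‖ ^ 2) * ((n - 1) * c)) =
        g₀ * c * ((n - 1) * s - (n - 1) * hsum (hall P U) Λ) := by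
      rw [← mul_assoc, mul_sub, sA3]; ring
    rw [h1]
    have h2 : s = h * k := by rw [hS, hk]; ring
    calc g₀ * c * ((n - 1) * s - (n - 1) * hsum (hall P U) Λ)
        ≤ g₀ * c * (n * k ^ 2) := by
          refine mul_le_mul_of_nonneg_left ?_ (mul_nonneg hg0.le (Nat.cast_nonneg _))
          rw [h2]; linarith
      _ = s * (g₀ * k) := by rw [h2, hH]; ring
  have h5 : (v - 1) * (K - v - 1) * ((n - 1) * c) * g₀ ≤ t * (g₀ * k) := by
    calc (v - 1) * (K - v - 1) * ((n - 1) * c) * g₀ = g₀ * ((v - 1) * (K - v - 1)) * ((n - 1) * c) := by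
          ring
      _ ≤ t * (g₀ - ∑ g ∈ A, ‖Λ g‖ ^ 2) * ((n - 1) * c) := by
          refine mul_le_mul_of_nonneg_right ?_ (mul_nonneg hn1 (Nat.cast_nonneg _))
          exact le_trans hB' (mul_le_mul_of_nonneg_left (by linarith) ht0.le)
      _ = t * ((g₀ - ∑ g ∈ A, ‖Λ g‖ ^ 2) * ((n - 1) * c)) := by ring
      _ ≤ t * (g₀ * k) := mul_le_mul_of_nonneg_left hL ht0.le
  refine le_of_mul_le_mul_right (a := g₀) ?_ hg0
  calc _ = (v - 1) * (K - v - 1) * ((n - 1) * c) * g₀ := by ring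
    _ ≤ t * (g₀ * k) := h5
    _ = _ := by rw [hk]; ring

/-- The inequality when `C ≠ 1`. -/
theorem main_ineq (hC : cpart P U ≠ ⊥) :
    (((cpart Q V).relIndex V : ℝ) - 1) *
        ((Nat.card ↥(hall Q V) : ℝ) - (cpart Q V).relIndex V - 1) *
        ((Nat.card ↥(cpart P U) : ℝ) * ((Nat.card P : ℝ) - 1)) ≤
      (Nat.card W₁ : ℝ) * (cpart P U).relIndex U *
        ((Nat.card ↥(hall Q V) : ℝ) * (cpart Q V).relIndex V * Nat.card W₂) := by
  obtain ⟨θ₀, hθ₀, hfix⟩ := D.exists_free hC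
  exact D.main_ineq_free E F hθ₀ hfix

/-- The inequality for trivial `C`, in the form used in section 14. -/
theorem ineq_of_free (hC : cpart P U = ⊥) (hC' : cpart Q V = ⊥) {θ₀ : hall P U →* ℂˣ}
    (hθ₀ : D.Generic θ₀) (hfix : fixCount (hall P U) S θ₀ θ₀ = Nat.card ↥(hall P U)) :
    (1 / (Nat.card W₂ : ℝ)) * (1 - 1 / (Nat.card V : ℝ) -
        (Nat.card V : ℝ) / ((Nat.card W₁ ^ Nat.card W₂ : ℕ) : ℝ)) ≤
      (Nat.card W₁ : ℝ) * Nat.card U / (((Nat.card W₂ ^ Nat.card W₁ : ℕ) : ℝ) - 1) := by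
  have h := D.main_ineq_free E F hθ₀ hfix
  have hu : (cpart P U).relIndex U = Nat.card U := by rw [hC, Subgroup.relIndex_bot_left]
  have hv : (cpart Q V).relIndex V = Nat.card V := by rw [hC', Subgroup.relIndex_bot_left]
  rw [E.card_hall, hu, hv, D.P_card, E.P_card, hC, hC', Subgroup.card_bot, mul_one, Nat.cast_one,
    one_mul] at h
  have hv0 : (0 : ℝ) < (Nat.card V : ℝ) := Nat.cast_pos.mpr Nat.card_pos
  have hp0 : (0 : ℝ) < (Nat.card W₂ : ℝ) := Nat.cast_pos.mpr Nat.card_pos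
  have hK0 : (0 : ℝ) < ((Nat.card W₁ ^ Nat.card W₂ : ℕ) : ℝ) :=
    Nat.cast_pos.mpr (pow_pos Nat.card_pos _)
  have hn : (1 : ℝ) < ((Nat.card W₂ ^ Nat.card W₁ : ℕ) : ℝ) :=
    Nat.one_lt_cast.mpr (Nat.one_lt_pow D.q_prime.ne_zero D.p_prime.one_lt)
  set K := ((Nat.card W₁ ^ Nat.card W₂ : ℕ) : ℝ)
  set n := ((Nat.card W₂ ^ Nat.card W₁ : ℕ) : ℝ)
  set v := (Nat.card V : ℝ)
  set p := (Nat.card W₂ : ℝ)
  rw [show 1 / p * (1 - 1 / v - v / K) = (K * v - K - v ^ 2) / (p * v * K) by field_simp,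
    div_le_div_iff₀ (by positivity) (by linarith)]
  nlinarith

end Side

end Cfsg.Agent.OddChar.P13
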