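/-
Peterfalvi section 13: `C_U(P) = 1` for both sides of a pair, and the statement on pairs.
-/
import Cfsg.Agent.Lib.OddChar.Iface
import Cfsg.Agent.Lib.OddChar.P13.Ineq
import Cfsg.Agent.Lib.OddChar.P13.Arith
import Cfsg.Agent.Lib.OddChar.P13.OfPair

set_option autoImplicit false
set_option linter.unusedSectionVars false
set_option linter.style.haveILetI false

namespace Cfsg.Agent.OddChar.P13

universe u

variable {G : Type u} [Group G] {S T P U Q V W₁ W₂ : Subgroup G}

/-- Two sides with a non-Hall `C_U(P)` force `C_U(P) = 1`. -/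
theorem Side.cpart_eq_bot [Finite G] (D : Side S P U W₁ W₂) (E : Side T Q V W₂ W₁)
    (hnc : cpart P U ≠ ⊥ →
      ¬ (Nat.card ↥(cpart P U)).Coprime ((cpart P U).relIndex U)) :
    cpart P U = ⊥ := by
  by_contra hC
  haveI : Fintype G := Fintype.ofFinite G
  obtain ⟨η, F⟩ := exists_fam D.selfN D.odd
  have hne : Nat.card W₂ ≠ Nat.card W₁ := by
    intro e
    have h := D.coprime_P
    rw [D.P_card, e, Nat.coprime_pow_right_iff D.q_prime.pos, Nat.coprime_self] at h
    exact D.q_prime.ne_one h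
  have hKle : Nat.card W₁ ^ Nat.card W₂ ≤ Nat.card ↥(hall Q V) := by
    rw [← E.P_card]
    exact Nat.le_of_dvd Nat.card_pos (Subgroup.card_dvd_of_le E.P_le_hall)
  have h := D.main_ineq E F hC
  rw [D.P_card] at h
  exact arith D.p_prime D.q_prime
    (D.odd.of_dvd_nat (Subgroup.card_subgroup_dvd_card W₂))
    (D.odd.of_dvd_nat (Subgroup.card_subgroup_dvd_card W₁)) hne hKle
    (D.odd.of_dvd_nat (Subgroup.card_subgroup_dvd_card _)) D.cpart_mod
    (fun e => hC (Subgroup.eq_bot_of_card_eq _ e)) D.u_odd D.u_mod D.u_bound (hnc hC)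
    E.u_odd E.u_mod E.u_ne_one E.u_bound h

/-- PF 13 (S1547) from the results of sections 10 and 11. -/
theorem pairCentralizerTrivial [Finite G] (hG : Cfsg.IsMinSimpleOddOrder G) (hV : NoTypeV G)
    (hIV : NoTypeIV G) (h3 : TypeThreeFacts G) (hpr : PairPrimes G) :
    PairCentralizerTrivial G := by
  intro S T W₁ W₂ U V h
  exact (side_of_pair hG hV hIV h3 hpr h).cpart_eq_bot (side_of_pair' hG hV hIV h3 hpr h)
    (not_coprime_of_pair hG hV hIV h3 h)

end Cfsg.Agent.OddChar.P13
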